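import Cfsg.Agent.Lib.Lie.Chev.Tw.Ree.AutSetup
import Cfsg.Agent.Lib.AutPSL.Field
import Cfsg.Prelude.Def_KGroupFacts

/-!
# ²G₂: the automorphism group
-/

set_option autoImplicit false
set_option maxRecDepth 100000
set_option maxHeartbeats 1000000
set_option linter.unusedSectionVars false

namespace CfsgLib.Lie.Chev

open Cfsg.Lie
open scoped MatrixGroups

namespace TG2

variable {K : Type*} [Field K] [Fintype K] [CharP K 3] {θ : K ≃+* K} {m : ℕ} (R : Ree θ m)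

theorem mem_conj_iff {G : Type*} [Group G] (x y : G) (X : Subgroup G) :
    y ∈ X.map (MulAut.conj x).toMonoidHom ↔ x⁻¹ * y * x ∈ X := by
  rw [Subgroup.mem_map_equiv, MulAut.conj_symm_apply]

theorem mMax_wO : C.G.NPerm (R.gp.mMax : GL chevG2.Idx K) ((orbits θ R.cu).wO o0) := by
  have hn := R.gp.mMax_perm
  rcases Wp_cases θ R.cu (TwGp.wMax_mem (twist θ R.cu)) with e | e
  · exfalso
    have := (TwGp.wMax_pos_iff (twist θ R.cu) (rt 6))
    rw [e] at this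
    have h6 : chevG2.IsPosRoot (rt 6).val := by rw [C.G.pos_iff_half]; decide +kernel
    exact (this.1 h6) h6
  · rwa [e] at hn

/-- an element of the group lies in the torus coset of the longest element or in the torus -/
theorem weyl_cases {n : ↥(twistedG2 K (3 ^ m))} {π : Equiv.Perm (Fin chevG2.nroots)}
    (hn : (n : GL chevG2.Idx K) ∈ chevG2.monomialSubgroup K) (hπ : C.G.NPerm (n : GL chevG2.Idx K) π)
    (hW : π ∈ Wp C.G (twist θ R.cu).p) : (∃ b, n = he R b) ∨ ∃ b, n = R.gp.mMax * he R b := by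
  rcases Wp_cases θ R.cu hW with e | e
  · exact Or.inl ((mem_gH_iff R).1 (C.G.mem_H_of_nPerm_one hn (e ▸ hπ)))
  · refine Or.inr ?_
    obtain ⟨b, hb⟩ := (mem_gH_iff R (g := R.gp.mMax⁻¹ * n)).1 (C.G.mem_H_of_nPerm_one
      (mul_mem (inv_mem (R.gp.mem_N_iff.1 R.gp.mMax_mem)) hn) (by
        have := Good.NPerm.mul C.G (Good.NPerm.inv C.G (mMax_wO R)) (e ▸ hπ)
        rwa [inv_mul_cancel] at this))
    exact ⟨b, by rw [← hb, mul_inv_cancel_left]⟩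

theorem bruhat (g : ↥(twistedG2 K (3 ^ m))) : ∃ a ∈ R.gp.gU, ∃ c ∈ R.gp.gU, ∃ b : Kˣ,
    g = a * he R b * c ∨ g = a * (R.gp.mMax * he R b) * c := by
  obtain ⟨v, n, u, π, hv, hn, hW, hπ, hu, e⟩ := (twist θ R.cu).fix_bruhat (R.gp.le g.2)
  have hvΓ := R.gp.toPre.U_le hv
  have huΓ := R.gp.toPre.U_le ⟨hu.1, C.G.Uinv_le _ hu.2⟩
  have hnΓ := R.gp.N_le hn
  have hg : g = ⟨v, hvΓ⟩ * ⟨n, hnΓ⟩ * ⟨u, huΓ⟩ := Subtype.ext e
  refine ⟨⟨v, hvΓ⟩, hv.2, ⟨u, huΓ⟩, C.G.Uinv_le _ hu.2, ?_⟩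
  rcases weyl_cases R (n := ⟨n, hnΓ⟩) hn.2 hπ hW with ⟨b, hb⟩ | ⟨b, hb⟩
  · exact ⟨b, Or.inl (by rw [hg, hb])⟩
  · exact ⟨b, Or.inr (by rw [hg, hb])⟩

theorem he_normalizes (b : Kˣ) : he R b ∈ Subgroup.normalizer (R.gp.gU : Set ↥(twistedG2 K (3 ^ m))) ∧
    he R b ∈ Subgroup.normalizer (R.gp.gV : Set ↥(twistedG2 K (3 ^ m))) :=
  ⟨R.gp.gH_normalizes_gU ((mem_gH_iff R).2 ⟨b, rfl⟩), R.gp.gH_normalizes_gV ((mem_gH_iff R).2 ⟨b, rfl⟩)⟩

variable {ψ : MulAut ↥(twistedG2 K (3 ^ m))} (hU : R.gp.gU.map ψ.toMonoidHom = R.gp.gU)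
  (hV : R.gp.gV.map ψ.toMonoidHom = R.gp.gV) (hZ : ∀ v, ψ (pe R 0 0 v) = pe R 0 0 v)

include hU hV hZ in
theorem eq_one_of_fix (hm : 1 ≤ m) : ψ = 1 := by
  have hfU : ∀ x ∈ R.gp.gU, ψ x = x := fun x hx => by
    obtain ⟨t, u, v, rfl⟩ := (mem_gU_iff R).1 hx
    exact pe_fix R hU hV hZ hm t u v
  have hfH := he_fix R hU hV hZ
  set n := R.gp.mMax
  -- an element of the torus coset of `n` inside `U V U`
  have hwU : pe R 0 0 1 ∈ R.gp.gU := (mem_gU_iff R).2 ⟨0, 0, 1, rfl⟩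
  have hvV : n * pe R 0 0 1 * n⁻¹ ∈ R.gp.gV := (R.gp.mem_gV_iff _).2 hwU
  obtain ⟨a, ha, c, hc, b, hb⟩ := bruhat R (n * pe R 0 0 1 * n⁻¹)
  rcases hb with hb | hb
  · exfalso
    have hB : n * pe R 0 0 1 * n⁻¹ ∈ R.gp.gB := by
      rw [hb]
      exact mul_mem (mul_mem (R.gp.gU_le_gB ha) (R.gp.gH_le_gB ((mem_gH_iff R).2 ⟨b, rfl⟩))) (R.gp.gU_le_gB hc)
    have h1 : n * pe R 0 0 1 * n⁻¹ = 1 :=
      Subgroup.mem_bot.1 (R.gp.gB_inf_gV ▸ Subgroup.mem_inf.2 ⟨hB, hvV⟩)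
    rw [conj_eq_one_iff, ← pe_zero R] at h1
    exact one_ne_zero (pe_inj R h1).2.2
  set M := n * he R b
  have hMU : R.gp.gU.map (MulAut.conj M).toMonoidHom = R.gp.gV := by
    rw [TwGp.map_conj_mul, TwGp.map_conj_of_normalizer (he_normalizes R b).1, R.gp.map_gU]
  have hMV : R.gp.gV.map (MulAut.conj M).toMonoidHom = R.gp.gU := by
    rw [TwGp.map_conj_mul, TwGp.map_conj_of_normalizer (he_normalizes R b).2, R.gp.map_gV]
  have hψM : ∀ (X Y : Subgroup ↥(twistedG2 K (3 ^ m))), X.map ψ.toMonoidHom = X → Y.map ψ.toMonoidHom = Y →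
      X.map (MulAut.conj M).toMonoidHom = Y → X.map (MulAut.conj (ψ M)).toMonoidHom = Y := by
    intro X Y hX hY h
    conv_lhs => rw [← hX, Subgroup.map_map]
    conv_rhs => rw [← hY, ← h, Subgroup.map_map]
    congr 1
    ext x
    simp
  set h0 := M⁻¹ * ψ M
  have hh0 : h0 ∈ R.gp.gH := by
    rw [← R.gp.gB_inf_normalizer_gV, ← R.gp.normalizer_gU]
    have key : ∀ X Y : Subgroup ↥(twistedG2 K (3 ^ m)), X.map (MulAut.conj M).toMonoidHom = Y →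
        X.map (MulAut.conj (ψ M)).toMonoidHom = Y → h0 ∈ Subgroup.normalizer (X : Set ↥(twistedG2 K (3 ^ m))) := by
      intro X Y h1 h2
      rw [Subgroup.mem_normalizer_iff']
      intro x
      have e1 : ∀ y, y ∈ X.map (MulAut.conj M).toMonoidHom ↔ y ∈ X.map (MulAut.conj (ψ M)).toMonoidHom :=
        fun y => by rw [h1, h2]
      have := e1 (ψ M * x * M⁻¹)
      rw [mem_conj_iff, mem_conj_iff,
        show M⁻¹ * (ψ M * x * M⁻¹) * M = h0 * x by simp only [h0]; group,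
        show (ψ M)⁻¹ * (ψ M * x * M⁻¹) * ψ M = x * h0 by simp only [h0]; group] at this
      exact this.symm
    exact Subgroup.mem_inf.2 ⟨key _ _ hMU (hψM _ _ hU hV hMU), key _ _ hMV (hψM _ _ hV hU hMV)⟩
  obtain ⟨c0, hc0⟩ := (mem_gH_iff R).1 hh0
  obtain ⟨w, hw, ew⟩ : n * pe R 0 0 1 * n⁻¹ ∈ R.gp.gU.map (MulAut.conj M).toMonoidHom := hMU.symm ▸ hvV
  change M * w * M⁻¹ = _ at ew
  rw [← ew] at hb
  -- compare with the image
  have hψ := congrArg ψ hb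
  rw [map_mul ψ (M * w), map_mul ψ M w, map_mul ψ (a * M) c, map_mul ψ a M, map_inv, hfU a ha, hfU c hc,
    hfU w hw,
    show ψ M = M * h0 by simp only [h0]; rw [mul_inv_cancel_left]] at hψ
  have hk : M * h0 * M⁻¹ ∈ R.gp.gB ∧ (a * (M * h0 * M⁻¹) * a⁻¹ ∈ R.gp.gB) ∧
      a * (M * h0 * M⁻¹) * a⁻¹ ∈ R.gp.gV := by
    have hH : M * h0 * M⁻¹ ∈ R.gp.gH := by
      show ((M * h0 * M⁻¹ : ↥(twistedG2 K (3 ^ m))) : GL chevG2.Idx K) ∈ chevG2.diagonalSubgroup K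
      have hMN : (M : GL chevG2.Idx K) ∈ chevG2.monomialSubgroup K :=
        mul_mem (R.gp.mem_N_iff.1 R.gp.mMax_mem)
          (C.G.H_le_monomial (show ((he R b : ↥(twistedG2 K (3 ^ m))) : GL chevG2.Idx K) ∈ _ from
            (mem_gH_iff R).2 ⟨b, rfl⟩))
      exact (Subgroup.mem_normalizer_iff.1 (C.G.monomial_le_normalizer hMN) _).1 hh0
    refine ⟨R.gp.gH_le_gB hH, mul_mem (mul_mem (R.gp.gU_le_gB ha) (R.gp.gH_le_gB hH))
      (inv_mem (R.gp.gU_le_gB ha)), ?_⟩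
    rw [← hMU, mem_conj_iff]
    have e1 : M * c * M = a⁻¹ * M * w := by
      calc M * c * M = a⁻¹ * (a * M * c) * M := by group
        _ = _ := by rw [← hb]; group
    have e2 : a * (M * h0) * c * (M * h0) = M * h0 * w := by rw [← hψ]; group
    have e3 : a * (M * h0 * M⁻¹) * a⁻¹ * M * w = M * (h0 * w * h0⁻¹) := by
      calc a * (M * h0 * M⁻¹) * a⁻¹ * M * w = a * (M * h0 * M⁻¹) * (a⁻¹ * M * w) := by group
        _ = a * (M * h0 * M⁻¹) * (M * c * M) := by rw [e1]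
        _ = a * (M * h0) * c * (M * h0) * h0⁻¹ := by group
        _ = _ := by rw [e2]; group
    have e4 : M⁻¹ * (a * (M * h0 * M⁻¹) * a⁻¹) * M = h0 * w * h0⁻¹ * w⁻¹ := by
      calc M⁻¹ * (a * (M * h0 * M⁻¹) * a⁻¹) * M = M⁻¹ * (a * (M * h0 * M⁻¹) * a⁻¹ * M * w) * w⁻¹ := by group
        _ = _ := by rw [e3]; group
    rw [e4]
    exact mul_mem ((Subgroup.mem_normalizer_iff.1 (R.gp.gH_normalizes_gU hh0) w).1 hw) (inv_mem hw)
  have h1 : a * (M * h0 * M⁻¹) * a⁻¹ = 1 :=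
    Subgroup.mem_bot.1 (R.gp.gB_inf_gV ▸ Subgroup.mem_inf.2 ⟨hk.2.1, hk.2.2⟩)
  rw [conj_eq_one_iff, conj_eq_one_iff] at h1
  have hfn : ψ n = n := by
    have hfM : ψ M = M := by
      have : ψ M = M * h0 := by simp only [h0]; rw [mul_inv_cancel_left]
      rwa [h1, mul_one] at this
    calc ψ n = ψ (M * (he R b)⁻¹) := by simp [M]
      _ = _ := by rw [map_mul, map_inv, hfM, hfH]; simp [M]
  refine MulEquiv.ext fun g => ?_
  obtain ⟨a', ha', c', hc', b', e | e⟩ := bruhat R g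
  · rw [e, map_mul, map_mul, hfU a' ha', hfU c' hc', hfH]; rfl
  · rw [e, map_mul, map_mul, map_mul, hfU a' ha', hfU c' hc', hfH, hfn]; rfl

omit hU hV hZ

theorem fAut_pe (σ : K ≃+* K) (t u v : K) : fAut θ R.pw σ (pe R t u v) = pe R (σ t) (σ u) (σ v) :=
  Subtype.ext (fmap_reeP θ σ (theta_comm θ R.pw σ) t u v)

theorem fAut_gU (σ : K ≃+* K) : R.gp.gU.map (fAut θ R.pw σ).toMonoidHom = R.gp.gU := by
  refine le_antisymm ?_ fun g hg => ?_
  · rintro _ ⟨g, hg, rfl⟩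
    exact C.G.fmap_mem_U σ.toRingHom hg
  · exact ⟨(fAut θ R.pw σ).symm g, C.G.fmap_mem_U σ.symm.toRingHom hg, (fAut θ R.pw σ).apply_symm_apply g⟩

theorem fmap_negU (σ : K ≃+* K) {g : GL chevG2.Idx K} (hg : g ∈ chevG2.negUnipotent K) :
    fmap chevG2 σ.toRingHom g ∈ chevG2.negUnipotent K := by
  rw [C.G.negUnipotent_eq_closure] at hg ⊢
  exact C.G.fmap_mem_closure _ _ hg

theorem fAut_gV (σ : K ≃+* K) : R.gp.gV.map (fAut θ R.pw σ).toMonoidHom = R.gp.gV := by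
  refine le_antisymm ?_ fun g hg => ?_
  · rintro _ ⟨g, hg, rfl⟩
    exact fmap_negU σ hg
  · exact ⟨(fAut θ R.pw σ).symm g, fmap_negU σ.symm hg, (fAut θ R.pw σ).apply_symm_apply g⟩

/-- every automorphism is inner times field -/
theorem aut_decomp (hm : 1 ≤ m) (ψ0 : MulAut ↥(twistedG2 K (3 ^ m))) :
    ∃ (x : ↥(twistedG2 K (3 ^ m))) (σ : RingAut K), ψ0 = MulAut.conj x * fAut θ R.pw σ := by
  obtain ⟨x, hxU, hxV⟩ := R.gp.exists_opposite ψ0
  set ψ1 := ψ0.trans (MulAut.conj x)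
  obtain ⟨k, σ, hk⟩ := exists_field_conj R hxU hxV
  set ψ2 := ψ1.trans (MulAut.conj (he R k))
  set ψ3 := ψ2.trans (fAut θ R.pw σ.symm)
  have hmap : ∀ X : Subgroup ↥(twistedG2 K (3 ^ m)), X.map ψ1.toMonoidHom = X →
      he R k ∈ Subgroup.normalizer (X : Set ↥(twistedG2 K (3 ^ m))) →
      X.map (fAut θ R.pw σ.symm).toMonoidHom = X → X.map ψ3.toMonoidHom = X := by
    intro X h1 h2 h3
    rw [show ψ3.toMonoidHom = (fAut θ R.pw σ.symm).toMonoidHom.comp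
      ((MulAut.conj (he R k)).toMonoidHom.comp ψ1.toMonoidHom) from rfl, ← Subgroup.map_map, ← Subgroup.map_map,
      h1, TwGp.map_conj_of_normalizer h2, h3]
  have h3 : ψ3 = 1 := eq_one_of_fix R (hmap _ hxU (he_normalizes R k).1 (fAut_gU R _))
    (hmap _ hxV (he_normalizes R k).2 (fAut_gV R _)) (hm := hm) fun v => by
      show fAut θ R.pw σ.symm (he R k * ψ1 (pe R 0 0 v) * (he R k)⁻¹) = _
      rw [hk, fAut_pe, map_zero, RingEquiv.symm_apply_apply]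
  refine ⟨(he R k * x)⁻¹, σ, MulEquiv.ext fun g => ?_⟩
  have h := MulEquiv.congr_fun h3 g
  change fAut θ R.pw σ.symm (he R k * (x * ψ0 g * x⁻¹) * (he R k)⁻¹) = g at h
  have h' : he R k * (x * ψ0 g * x⁻¹) * (he R k)⁻¹ = fAut θ R.pw σ g := by
    conv_rhs => rw [← h]
    exact ((fAut θ R.pw σ).apply_symm_apply _).symm
  rw [MulAut.mul_apply, MulAut.conj_apply, ← h']
  group

theorem aut_inj {x y : ↥(twistedG2 K (3 ^ m))} {σ τ : RingAut K}
    (h : MulAut.conj x * fAut θ R.pw σ = MulAut.conj y * fAut θ R.pw τ) : x = y ∧ σ = τ := by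
  set z := y⁻¹ * x with hz
  have h' : ∀ g, z * fAut θ R.pw σ g * z⁻¹ = fAut θ R.pw τ g := by
    intro g
    have h1 := MulEquiv.congr_fun h g
    simp only [MulAut.mul_apply, MulAut.conj_apply] at h1
    calc z * fAut θ R.pw σ g * z⁻¹ = y⁻¹ * (x * fAut θ R.pw σ g * x⁻¹) * y := by rw [hz]; group
      _ = _ := by rw [h1]; group
  have key : ∀ X : Subgroup ↥(twistedG2 K (3 ^ m)), X.map (fAut θ R.pw σ).toMonoidHom = X →
      X.map (fAut θ R.pw τ).toMonoidHom = X → z ∈ Subgroup.normalizer (X : Set ↥(twistedG2 K (3 ^ m))) := by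
    intro X hs ht
    rw [Subgroup.mem_normalizer_iff]
    intro g
    obtain ⟨g', rfl⟩ := (fAut θ R.pw σ).surjective g
    rw [h']
    constructor
    · intro hg
      rw [← hs] at hg
      obtain ⟨g'', hg'', e⟩ := hg
      rw [← (fAut θ R.pw σ).injective e, ← ht]
      exact ⟨g'', hg'', rfl⟩
    · intro hg
      rw [← ht] at hg
      obtain ⟨g'', hg'', e⟩ := hg
      rw [← (fAut θ R.pw τ).injective e, ← hs]
      exact ⟨g'', hg'', rfl⟩
  have hzH : z ∈ R.gp.gH := by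
    rw [← R.gp.gB_inf_normalizer_gV, ← R.gp.normalizer_gU]
    exact ⟨key _ (fAut_gU R σ) (fAut_gU R τ), key _ (fAut_gV R σ) (fAut_gV R τ)⟩
  obtain ⟨b, hb⟩ := (mem_gH_iff R).1 hzH
  have hv : ∀ v : K, (b : K) * σ v = τ v := fun v => by
    have := h' (pe R 0 0 v)
    rw [hb, fAut_pe, fAut_pe, he_conj, map_zero, map_zero, mul_zero, mul_zero] at this
    exact (pe_inj R this).2.2
  have hb1 : b = 1 := Units.ext (by simpa using hv 1)
  refine ⟨(inv_mul_eq_one.1 (show y⁻¹ * x = 1 by rw [← hz, hb, hb1, map_one])).symm, RingEquiv.ext fun v => ?_⟩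
  simpa [hb1] using hv v

include R in
theorem card_mulAut (hm : 1 ≤ m) : Nat.card (MulAut ↥(twistedG2 K (3 ^ m))) =
    Nat.card ↥(twistedG2 K (3 ^ m)) * (2 * m + 1) := by
  haveI : Fact (Nat.Prime 3) := ⟨Nat.prime_three⟩
  rw [← CfsgLib.AutPSL.card_ringAut (F := K) R.big, ← Nat.card_prod]
  refine (Nat.card_eq_of_bijective (fun p : ↥(twistedG2 K (3 ^ m)) × RingAut K =>
    MulAut.conj p.1 * fAut θ R.pw p.2)
    ⟨fun p q h => Prod.ext (aut_inj R h).1 (aut_inj R h).2, fun ψ0 => ?_⟩).symm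
  obtain ⟨x, σ, rfl⟩ := aut_decomp R hm ψ0
  exact ⟨(x, σ), rfl⟩

omit [CharP K 3] in
/-- the outer automorphism group of a small Ree group has order `2m+1` -/
theorem card_out (hm : 1 ≤ m) (hK : Fintype.card K = 3 ^ (2 * m + 1)) :
    Nat.card (Cfsg.Out ↥(twistedG2 K (3 ^ m))) = 2 * m + 1 := by
  obtain ⟨hc, θ, hcu, hθ, hneg⟩ := exists_theta hK
  have R : Ree θ m := ⟨hcu, hθ, hneg, hK⟩
  set G := ↥(twistedG2 K (3 ^ m))
  have hinj : Function.Injective (MulAut.conj : G →* MulAut G) := fun x y h =>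
    (aut_inj R (σ := 1) (τ := 1) (by rw [h])).1
  have h1 : Nat.card (Cfsg.Inn G) = Nat.card G :=
    (Nat.card_congr (MonoidHom.ofInjective hinj).toEquiv).symm
  have h2 := Subgroup.card_eq_card_quotient_mul_card_subgroup (Cfsg.Inn G)
  rw [h1, card_mulAut R hm, mul_comm] at h2
  exact (Nat.eq_of_mul_eq_mul_right Nat.card_pos h2).symm

end TG2

end CfsgLib.Lie.Chev
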