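import Cfsg.Agent.Lib.Lie.Chev.Tw.Ree.Group
import Cfsg.Agent.Lib.Lie.Chev.AutSym

/-!
# ²G₂: products in the unipotent group and field automorphisms
-/

set_option autoImplicit false
set_option maxRecDepth 100000
set_option linter.unusedSectionVars false

namespace CfsgLib.Lie.Chev

open Cfsg.Lie
open scoped MatrixGroups

namespace TG2

variable {K : Type*} [Field K] [CharP K 3] (θ : K ≃+* K) (hcu : ∀ x, θ.symm x = θ x ^ 3)

include hcu

theorem reeP_mul (t u v t' u' v' : K) :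
    reeP θ t u v * reeP θ t' u' v' =
      reeP θ (t + t') (u + u' - θ.symm t' * t)
        (v + v' - θ.symm t' * t ^ 2 - t' * u + θ.symm t' * t * t') := by
  have h3 : (3 : K) = 0 := by exact_mod_cast CharP.cast_eq_zero K 3
  simp only [reeP, ree, one_mul]
  rw [form_mul]
  have hS : θ t' ^ 3 = θ.symm t' := (hcu t').symm
  congr 1
  · rw [map_add]
  · congr 1
    · simp only [map_sub, map_add, map_mul, RingEquiv.apply_symm_apply]
      ring
    · simp only [map_sub, map_add, map_mul, map_pow, RingEquiv.apply_symm_apply]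
      linear_combination (-θ t * θ t' * t - θ t * θ t' * t') * h3
    · rw [hS]; ring
    · rw [hS]; ring

omit hcu

omit [CharP K 3] in
theorem fmap_reeP (σ : K ≃+* K) (hσ : ∀ x, θ (σ x) = σ (θ x)) (t u v : K) :
    fmap chevG2 σ.toRingHom (reeP θ t u v) = reeP θ (σ t) (σ u) (σ v) := by
  simp only [reeP, ree, tail, map_mul, C.G.fmap_xu, RingEquiv.toRingHom_eq_coe, RingEquiv.coe_toRingHom,
    map_one, map_add, hσ]

omit [CharP K 3] in
theorem fmap_reeN (σ : K ≃+* K) (hσ : ∀ x, θ (σ x) = σ (θ x)) (t u v : K) :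
    fmap chevG2 σ.toRingHom (reeN θ t u v) = reeN θ (σ t) (σ u) (σ v) := by
  simp only [reeN, ree, tail, map_mul, C.G.fmap_xu, RingEquiv.toRingHom_eq_coe, RingEquiv.coe_toRingHom,
    map_one, map_neg, map_add, hσ]

omit [CharP K 3] in
theorem fmap_torθ_par (σ : K ≃+* K) (hσ : ∀ x, θ (σ x) = σ (θ x)) (b : Kˣ) :
    fmap chevG2 σ.toRingHom (C.G.torθ (par θ b)) = C.G.torθ (par θ (Units.map σ.toRingHom.toMonoidHom b)) := by
  rw [C.G.fmap_torθ]
  congr 1
  funext j
  rcases nd_cases j with rfl | rfl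
  · rw [(par_vals θ b).1, (par_vals θ _).1]
    exact Units.ext (hσ _).symm
  · rw [(par_vals θ b).2, (par_vals θ _).2]

variable {m : ℕ} (hθ : ∀ x, θ x = x ^ 3 ^ m)

include hθ

omit [CharP K 3] in
theorem theta_comm (σ : K ≃+* K) (x : K) : θ (σ x) = σ (θ x) := by rw [hθ, hθ, map_pow]

theorem fmap_mem (σ : K ≃+* K) {g : GL chevG2.Idx K} (hg : g ∈ twistedG2 K (3 ^ m)) :
    fmap chevG2 σ.toRingHom g ∈ twistedG2 K (3 ^ m) := by
  have h := Subgroup.mem_map_of_mem (fmap chevG2 σ.toRingHom) hg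
  refine (?_ : (twistedG2 K (3 ^ m)).map _ ≤ twistedG2 K (3 ^ m)) h
  rw [Subgroup.map_le_iff_le_comap]
  refine C.G.gen_le fun w hw => ?_
  obtain ⟨t, u, v, hw⟩ := hw
  rcases hw with rfl | rfl
  · refine ⟨[(rt 7, θ t), (rt 6, t), (rt 8, θ t * t + θ u), (rt 9, θ t * θ t * t + θ v), (rt 10, u),
      (rt 11, v)], by simp [wordU_eq θ hθ], ?_⟩
    rw [Subgroup.mem_comap, show (([(rt 7, θ t), (rt 6, t), (rt 8, θ t * t + θ u),
      (rt 9, θ t * θ t * t + θ v), (rt 10, u), (rt 11, v)] : List (Fin chevG2.nroots × K)).map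
        fun p => C.G.xu p.1 p.2).prod = reeP θ t u v by simp [reeP, ree, tail, mul_assoc],
      fmap_reeP θ σ (theta_comm θ hθ σ)]
    exact reeP_mem θ hθ _ _ _
  · refine ⟨[(rt 4, -θ t), (rt 5, -t), (rt 3, -(θ t * t + θ u)), (rt 2, -(θ t * θ t * t + θ v)),
      (rt 1, -u), (rt 0, -v)], by simp [wordV_eq θ hθ], ?_⟩
    rw [Subgroup.mem_comap, show (([(rt 4, -θ t), (rt 5, -t), (rt 3, -(θ t * t + θ u)),
      (rt 2, -(θ t * θ t * t + θ v)), (rt 1, -u), (rt 0, -v)] : List (Fin chevG2.nroots × K)).map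
        fun p => C.G.xu p.1 p.2).prod = reeN θ t u v by simp [reeN, ree, tail, mul_assoc],
      fmap_reeN θ σ (theta_comm θ hθ σ)]
    exact reeN_mem θ hθ _ _ _

/-- the field automorphism of the group -/
noncomputable def fAut (σ : K ≃+* K) : MulAut ↥(twistedG2 K (3 ^ m)) where
  toFun g := ⟨fmap chevG2 σ.toRingHom g.1, fmap_mem θ hθ σ g.2⟩
  invFun g := ⟨fmap chevG2 σ.symm.toRingHom g.1, fmap_mem θ hθ σ.symm g.2⟩
  left_inv g := Subtype.ext (by
    show fmap chevG2 _ (fmap chevG2 _ (g : GL chevG2.Idx K)) = (g : GL chevG2.Idx K)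
    rw [fmap_fmap]; simp [fmap_id])
  right_inv g := Subtype.ext (by
    show fmap chevG2 _ (fmap chevG2 _ (g : GL chevG2.Idx K)) = (g : GL chevG2.Idx K)
    rw [fmap_fmap]; simp [fmap_id])
  map_mul' g h := Subtype.ext (map_mul (fmap chevG2 σ.toRingHom) (g : GL chevG2.Idx K) h)

end TG2

end CfsgLib.Lie.Chev
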