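import Cfsg.Agent.Lib.Lie.Chev.Tw.Ree.AutBase

/-!
# ²G₂: equivariant maps of the unipotent group
-/

set_option autoImplicit false
set_option maxRecDepth 100000
set_option linter.unusedSectionVars false

namespace CfsgLib.Lie.Chev

open Cfsg.Lie
open scoped MatrixGroups

namespace TG2

variable {K : Type*} [Field K] [Finite K] [CharP K 3] (θ : K ≃+* K) (hcu : ∀ x, θ.symm x = θ x ^ 3)

omit [Finite K] [CharP K 3] in
include hcu in
theorem inv_theta_cube (b : K) : (θ b)⁻¹ ^ 3 = (θ.symm b)⁻¹ := by rw [hcu, inv_pow]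

/-- the weight on the first coordinate -/
noncomputable def wHom : Kˣ →* Kˣ where
  toFun b := b ^ 2 * (Units.map θ.symm.toRingHom.toMonoidHom b)⁻¹
  map_one' := by simp
  map_mul' a b := by rw [map_mul, mul_pow, mul_inv]; exact mul_mul_mul_comm _ _ _ _

/-- the weight on the second coordinate -/
noncomputable def chiHom : Kˣ →* Kˣ where
  toFun b := Units.map θ.symm.toRingHom.toMonoidHom b * b⁻¹
  map_one' := by simp
  map_mul' a b := by rw [map_mul, mul_inv]; exact mul_mul_mul_comm _ _ _ _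

theorem wHom_val (b : Kˣ) : (wHom θ b : K) = (b : K) ^ 2 * (θ.symm (b : K))⁻¹ := by simp [wHom]

theorem chiHom_val (b : Kˣ) : (chiHom θ b : K) = θ.symm (b : K) * (b : K)⁻¹ := by simp [chiHom]

include hcu

theorem w_surjective : Function.Surjective (wHom θ) := by
  refine Finite.surjective_of_injective ((injective_iff_map_eq_one _).2 fun b hb => ?_)
  have h := congrArg Units.val hb
  rw [wHom_val, Units.val_one, hcu, mul_inv_eq_one₀ (pow_ne_zero _ ((map_ne_zero θ).2 b.ne_zero))] at h
  exact Units.ext (sq_eq_cube_theta θ hcu b.ne_zero h)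

variable {m : ℕ} (hθ : ∀ x, θ x = x ^ 3 ^ m)

include hθ in
theorem chi_range_sq {a : K} (ha : a ≠ 0) : ∃ b : Kˣ, (chiHom θ b : K) = a ^ 2 := by
  classical
  have hsub : (chiHom θ).range ≤ (powMonoidHom 2 : Kˣ →* Kˣ).range := by
    rintro _ ⟨b, rfl⟩
    obtain ⟨j, hj⟩ : Odd (3 ^ (m + 1) : ℕ) := Odd.pow (by decide)
    refine ⟨b ^ j, Units.ext ?_⟩
    rw [chiHom_val, hcu, hθ, ← pow_mul, ← pow_succ, hj, powMonoidHom_apply, Units.val_pow_eq_pow_val,
      Units.val_pow_eq_pow_val, ← pow_mul, mul_comm j 2, pow_add, pow_one, mul_inv_cancel_right₀ b.ne_zero]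
  have hker : (chiHom θ).ker = (powMonoidHom 2 : Kˣ →* Kˣ).ker := by
    ext b
    rw [MonoidHom.mem_ker, MonoidHom.mem_ker, powMonoidHom_apply, Units.ext_iff, Units.ext_iff, chiHom_val,
      Units.val_one, Units.val_pow_eq_pow_val, hcu, mul_inv_eq_one₀ b.ne_zero]
    constructor
    · intro e
      rcases theta_cube_eq θ hcu b.ne_zero e with h | h <;> rw [h] <;> ring
    · intro e
      rcases mul_self_eq_one_iff.1 ((pow_two (b : K)).symm.trans e) with h | h <;> rw [h]
      · rw [map_one, one_pow]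
      · rw [map_neg, map_one]; ring
  have hcard : Nat.card (powMonoidHom 2 : Kˣ →* Kˣ).range ≤ Nat.card (chiHom θ).range := by
    have h1 := Subgroup.card_eq_card_quotient_mul_card_subgroup (chiHom θ).ker
    rw [Nat.card_congr (QuotientGroup.quotientKerEquivRange _).toEquiv] at h1
    have h2 := Subgroup.card_eq_card_quotient_mul_card_subgroup (powMonoidHom 2 : Kˣ →* Kˣ).ker
    rw [Nat.card_congr (QuotientGroup.quotientKerEquivRange _).toEquiv, ← hker] at h2
    exact (Nat.eq_of_mul_eq_mul_right Nat.card_pos (h2.symm.trans h1)).le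
  obtain ⟨b, hb⟩ : (Units.mk0 a ha) ^ 2 ∈ (chiHom θ).range := by
    rw [Subgroup.eq_of_le_of_card_ge hsub hcard]
    exact ⟨_, rfl⟩
  exact ⟨b, (congrArg Units.val hb).trans (Units.val_pow_eq_pow_val _ _)⟩

include hθ in
/-- equivariant additive maps are linear -/
theorem linear_of_chi {B : K → K} (hadd : ∀ x y, B (x + y) = B x + B y)
    (heq : ∀ (b : Kˣ) (u : K), B ((chiHom θ b : K) * u) = (chiHom θ b : K) * B u) (u : K) : B u = u * B 1 := by
  have h0 : B 0 = 0 := add_left_cancel ((hadd 0 0).symm.trans (by rw [add_zero, add_zero]))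
  have hsq : ∀ a x : K, B (a ^ 2 * x) = a ^ 2 * B x := by
    intro a x
    by_cases ha : a = 0
    · simp [ha, h0]
    · obtain ⟨b, hb⟩ := chi_range_sq θ hcu hθ ha
      rw [← hb, heq]
  have hsub : ∀ x y, B (x - y) = B x - B y := fun x y => by
    rw [eq_sub_iff_add_eq, ← hadd, sub_add_cancel]
  have h3 : (3 : K) = 0 := by exact_mod_cast CharP.cast_eq_zero K 3
  have e : u = (u + 1) ^ 2 * 1 - (u - 1) ^ 2 * 1 := by linear_combination -u * h3
  conv_lhs => rw [e, hsub, hsq, hsq]
  linear_combination u * B 1 * h3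

include hθ in
omit [Finite K] in
theorem exists_symm_ne [Fintype K] (hK : Fintype.card K = 3 ^ (2 * m + 1)) (hm : 1 ≤ m) :
    ∃ x : K, x ≠ 0 ∧ θ.symm x ≠ x := by
  classical
  by_contra hall
  push_neg at hall
  have hsub : (Finset.univ : Finset K) ⊆ {0, 1, -1} := by
    intro x _
    simp only [Finset.mem_insert, Finset.mem_singleton]
    by_cases hx : x = 0
    · exact Or.inl hx
    · exact Or.inr (theta_cube_eq θ hcu hx (by rw [← hcu]; exact hall x hx))
  have h := (Finset.card_le_card hsub).trans Finset.card_le_three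
  rw [Finset.card_univ, hK] at h
  have : 3 ^ 3 ≤ 3 ^ (2 * m + 1) := Nat.pow_le_pow_right (by norm_num) (by omega)
  omega

end TG2

end CfsgLib.Lie.Chev
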