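import Cfsg.Agent.Lib.Lie.Chev.Tw.Ree.AutRigid
import Cfsg.Agent.Lib.Lie.Chev.Tw.Out.Base

/-!
# ²G₂: automorphisms fixing two opposite Sylow subgroups
-/

set_option autoImplicit false
set_option maxRecDepth 100000
set_option linter.unusedSectionVars false

namespace CfsgLib.Lie.Chev

open Cfsg.Lie
open scoped MatrixGroups

namespace TG2

variable {K : Type*} [Field K] [Fintype K] [CharP K 3] {θ : K ≃+* K} {m : ℕ}

/-- the data of the group -/
structure Ree (θ : K ≃+* K) (m : ℕ) : Prop where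
  cu : ∀ x, θ.symm x = θ x ^ 3
  pw : ∀ x, θ x = x ^ 3 ^ m
  neg : ¬ IsSquare (-1 : K)
  big : Fintype.card K = 3 ^ (2 * m + 1)

variable (R : Ree θ m)

include R in
theorem Ree.gp : TwGp (orbits θ R.cu) (twistedG2 K (3 ^ m)) := twGp θ R.cu R.pw R.neg

/-- an element of the unipotent group -/
noncomputable def pe (R : Ree θ m) (t u v : K) : ↥(twistedG2 K (3 ^ m)) := ⟨reeP θ t u v, reeP_mem θ R.pw t u v⟩

/-- an element of the torus -/
noncomputable def he (R : Ree θ m) : Kˣ →* ↥(twistedG2 K (3 ^ m)) :=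
  ((C.G.torθ (K := K)).comp (parHom θ)).codRestrict (twistedG2 K (3 ^ m)) fun b =>
    R.gp.H_le ((twist θ R.cu).torθ_mem_Fix (par_fixed θ R.cu b))

theorem he_val (b : Kˣ) : ((he R b : ↥(twistedG2 K (3 ^ m))) : GL chevG2.Idx K) = C.G.torθ (par θ b) := rfl

theorem pe_inj {t u v t' u' v' : K} (e : pe R t u v = pe R t' u' v') : t = t' ∧ u = u' ∧ v = v' :=
  reeP_inj θ R.cu (congrArg Subtype.val e)

theorem he_injective : Function.Injective (he R) := fun _ _ e =>
  torθ_par_injective θ (congrArg Subtype.val e)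

theorem pe_zero : pe R 0 0 0 = 1 := Subtype.ext (reeP_zero θ R.cu)

theorem pe_mul (t u v t' u' v' : K) : pe R t u v * pe R t' u' v' =
    pe R (t + t') (u + u' - θ.symm t' * t) (v + v' - θ.symm t' * t ^ 2 - t' * u + θ.symm t' * t * t') :=
  Subtype.ext (reeP_mul θ R.cu t u v t' u' v')

theorem he_conj (b : Kˣ) (t u v : K) :
    he R b * pe R t u v * (he R b)⁻¹ = pe R ((wHom θ b : K) * t) ((chiHom θ b : K) * u) ((b : K) * v) := by
  apply Subtype.ext
  show C.G.torθ (par θ b) * reeP θ t u v * (C.G.torθ (par θ b))⁻¹ = _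
  rw [tor_conj_reeP θ R.cu, inv_theta_cube θ R.cu, wHom_val, chiHom_val, R.cu]
  rfl

/-- the central element -/
theorem pe_split (t u v : K) : pe R t u v = pe R t 0 0 * pe R 0 u 0 * pe R 0 0 v := by
  rw [pe_mul, pe_mul]
  congr 1 <;> simp

theorem pe_cube (t u v : K) : pe R t u v ^ 3 = pe R 0 0 (-(θ.symm t * t ^ 2)) := by
  have h3 : (3 : K) = 0 := by exact_mod_cast CharP.cast_eq_zero K 3
  rw [pow_succ, pow_two, pe_mul, pe_mul]
  congr 1
  · linear_combination t * h3
  · linear_combination (u - θ.symm t * t) * h3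
  · linear_combination (v - t * u - θ.symm t * t ^ 2) * h3 + θ.symm t * t ^ 2 * h3

theorem mem_gU_iff {g : ↥(twistedG2 K (3 ^ m))} : g ∈ R.gp.gU ↔ ∃ t u v, g = pe R t u v := by
  constructor
  · intro hg
    have h : (g : GL chevG2.Idx K) ∈
        (twist θ R.cu).Fix ⊓ Uinv C.G ((orbits θ R.cu).wO o0) := by
      rw [← U_eq θ R.cu]
      exact Subgroup.mem_inf.2 ⟨R.gp.le g.2, hg⟩
    obtain ⟨t, u, v, e⟩ := X_ree θ R.cu h
    exact ⟨t, u, v, Subtype.ext e⟩
  · rintro ⟨t, u, v, rfl⟩
    show reeP θ t u v ∈ chevG2.posUnipotent K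
    rw [U_eq θ R.cu]
    exact reeP_mem_Uinv θ R.cu t u v

theorem mem_gH_iff {g : ↥(twistedG2 K (3 ^ m))} : g ∈ R.gp.gH ↔ ∃ b, g = he R b := by
  constructor
  · intro hg
    obtain ⟨b, e⟩ := exists_par θ R.cu (Subgroup.mem_inf.2 ⟨R.gp.le g.2, hg⟩)
    exact ⟨b, Subtype.ext e⟩
  · rintro ⟨b, rfl⟩
    show C.G.torθ (par θ b) ∈ chevG2.diagonalSubgroup K
    rw [C.G.diagonal_eq_range]
    exact ⟨_, rfl⟩

variable {ψ : MulAut ↥(twistedG2 K (3 ^ m))} (hU : R.gp.gU.map ψ.toMonoidHom = R.gp.gU) (hV : R.gp.gV.map ψ.toMonoidHom = R.gp.gV)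

include hU in
theorem exists_pe (t u v : K) : ∃ t' u' v', ψ (pe R t u v) = pe R t' u' v' := by
  refine (mem_gU_iff R).1 ?_
  rw [← hU]
  exact ⟨_, (mem_gU_iff R).2 ⟨t, u, v, rfl⟩, rfl⟩

include hU hV in
theorem exists_he (b : Kˣ) : ∃ b', ψ (he R b) = he R b' := by
  refine (mem_gH_iff R).1 ?_
  have hB : R.gp.gB.map ψ.toMonoidHom = R.gp.gB := by
    rw [← R.gp.normalizer_gU, Subgroup.map_equiv_normalizer_eq, hU]
  have hN : (Subgroup.normalizer (R.gp.gV : Set ↥(twistedG2 K (3 ^ m)))).map ψ.toMonoidHom = Subgroup.normalizer (R.gp.gV : Set ↥(twistedG2 K (3 ^ m))) := by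
    rw [Subgroup.map_equiv_normalizer_eq, hV]
  rw [← R.gp.gB_inf_normalizer_gV, ← hB, ← hN, ← Subgroup.map_inf _ _ _ ψ.injective,
    R.gp.gB_inf_normalizer_gV]
  exact ⟨_, (mem_gH_iff R).2 ⟨b, rfl⟩, rfl⟩

include hU in
theorem exists_center (v : K) : ∃ v', ψ (pe R 0 0 v) = pe R 0 0 v' := by
  obtain ⟨a, b, c, e⟩ := exists_pe R hU 0 0 v
  have hcomm : ∀ t u, pe R a b c * pe R t u 0 = pe R t u 0 * pe R a b c := by
    intro t u
    obtain ⟨y, hy, ey⟩ : pe R t u 0 ∈ R.gp.gU.map ψ.toMonoidHom := hU.symm ▸ (mem_gU_iff R).2 ⟨t, u, 0, rfl⟩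
    obtain ⟨t', u', v', rfl⟩ := (mem_gU_iff R).1 hy
    rw [← e, ← ey]
    show ψ _ * ψ _ = ψ _ * ψ _
    rw [← map_mul, ← map_mul, pe_mul, pe_mul]
    congr 1
    congr 1 <;> simp [add_comm]
  have h1 := (pe_inj R ((pe_mul R a b c 0 1 0).symm.trans ((hcomm 0 1).trans (pe_mul R 0 1 0 a b c)))).2.2
  simp at h1
  obtain rfl : a = 0 := by linear_combination h1
  have h2 := (pe_inj R ((pe_mul R 0 b c 1 0 0).symm.trans ((hcomm 1 0).trans (pe_mul R 1 0 0 0 b c)))).2.2
  simp at h2
  exact ⟨c, by rw [e, h2]⟩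

include hU hV in
/-- the action on the centre is semilinear -/
theorem exists_field_conj : ∃ (k : Kˣ) (σ : K ≃+* K), ∀ v,
    he R k * ψ (pe R 0 0 v) * (he R k)⁻¹ = pe R 0 0 (σ v) := by
  choose A hA using exists_center R hU
  choose φ hφ using exists_he R hU hV
  have hadd : ∀ v v', A (v + v') = A v + A v' := fun v v' => by
    have h := congrArg ψ (pe_mul R 0 0 v 0 0 v')
    rw [map_mul, hA, hA, pe_mul] at h
    simp only [map_zero, zero_mul, sub_zero, add_zero, zero_add, zero_pow two_ne_zero, mul_zero] at h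
    rw [hA] at h
    exact (pe_inj R h).2.2.symm
  have heq : ∀ (b : Kˣ) (v : K), A ((b : K) * v) = (φ b : K) * A v := fun b v => by
    have h := congrArg ψ (he_conj R b 0 0 v)
    rw [map_mul, map_mul, map_inv, hφ, hA, he_conj, mul_zero, mul_zero, mul_zero, mul_zero, hA] at h
    exact (pe_inj R h).2.2.symm
  have h0 : A 0 = 0 := add_left_cancel ((hadd 0 0).symm.trans (by rw [add_zero, add_zero]))
  have hinj : Function.Injective A := fun v w e =>
    (pe_inj R (ψ.injective ((hA v).trans ((congrArg (pe R 0 0) e).trans (hA w).symm)))).2.2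
  have h1 : A 1 ≠ 0 := fun e => one_ne_zero (hinj (e.trans h0.symm))
  let α : K → K := fun v => (A 1)⁻¹ * A v
  have hα : ∀ b : Kˣ, α (b : K) = (φ b : K) := fun b => by
    simp only [α]
    rw [← mul_one (b : K), heq, mul_left_comm, inv_mul_cancel₀ h1, mul_one]
  let αh : K →+* K :=
    { toFun := α
      map_one' := inv_mul_cancel₀ h1
      map_mul' := fun a a' => by
        by_cases ha : a = 0
        · simp [α, ha, h0]
        · have e1 := heq (Units.mk0 a ha) a'
          have e2 := hα (Units.mk0 a ha)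
          rw [Units.val_mk0] at e1 e2
          rw [e2]
          simp only [α]
          rw [e1]
          ring
      map_zero' := by simp [α, h0]
      map_add' := fun a b => by simp only [α]; rw [hadd]; ring }
  refine ⟨Units.mk0 _ (inv_ne_zero h1), RingEquiv.ofBijective αh
    ⟨RingHom.injective αh, Finite.injective_iff_surjective.1 (RingHom.injective αh)⟩, fun v => ?_⟩
  rw [hA, he_conj, mul_zero, mul_zero]
  rfl

variable (hZ : ∀ v, ψ (pe R 0 0 v) = pe R 0 0 v)

include hU hV hZ in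
theorem he_fix (b : Kˣ) : ψ (he R b) = he R b := by
  obtain ⟨c, hc⟩ := exists_he R hU hV b
  have h := congrArg ψ (he_conj R b 0 0 1)
  rw [map_mul, map_mul, map_inv, hc, hZ, he_conj] at h
  simp only [mul_zero, mul_one] at h
  rw [hZ] at h
  rw [hc, Units.ext (pe_inj R h).2.2]

include hU hV hZ in
/-- the unipotent group is fixed -/
theorem pe_fix (hm : 1 ≤ m) (t u v : K) : ψ (pe R t u v) = pe R t u v := by
  have hH := he_fix R hU hV hZ
  have h3 : (3 : K) = 0 := by exact_mod_cast CharP.cast_eq_zero K 3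
  have hc1 : (chiHom θ (-1) : K) = 1 := by rw [chiHom_val]; simp
  have hw1 : (wHom θ (-1) : K) = -1 := by rw [wHom_val]; simp
  have hz : ∀ x : K, x = -x → x = 0 := fun x e => by linear_combination x * h3 - e
  -- the middle coordinate
  choose A B E hT using fun t => exists_pe R hU t 0 0
  choose A' B' E' hU' using fun u => exists_pe R hU 0 u 0
  have hA' : ∀ u, A' u = 0 := fun u => by
    have h := congrArg ψ (pe_cube R 0 u 0)
    rw [map_pow, hU', pe_cube, map_zero, zero_mul, neg_zero, hZ] at h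
    have h' := (pe_inj R h).2.2
    rw [neg_eq_zero, mul_eq_zero] at h'
    rcases h' with h' | h'
    · exact (map_eq_zero θ.symm).1 h'
    · exact eq_zero_of_pow_eq_zero h'
  have heU : ∀ (b : Kˣ) (u : K), B' ((chiHom θ b : K) * u) = (chiHom θ b : K) * B' u ∧
      E' ((chiHom θ b : K) * u) = (b : K) * E' u := fun b u => by
    have h := congrArg ψ (he_conj R b 0 u 0)
    rw [map_mul, map_mul, map_inv, hH, hU', he_conj, mul_zero, mul_zero, hU'] at h
    exact ⟨(pe_inj R h).2.1.symm, (pe_inj R h).2.2.symm⟩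
  have hE' : ∀ u, E' u = 0 := fun u => hz _ (by
    have h := (heU (-1) u).2
    rw [hc1, one_mul, Units.val_neg, Units.val_one, neg_one_mul] at h
    exact h)
  have hBadd' : ∀ u u', B' (u + u') = B' u + B' u' := fun u u' => by
    have h := congrArg ψ (pe_mul R 0 u 0 0 u' 0)
    rw [map_mul, hU', hU', hA', hA', pe_mul] at h
    simp only [map_zero, zero_mul, sub_zero, add_zero, zero_add, zero_pow two_ne_zero, mul_zero, hE'] at h
    rw [hU'] at h
    exact (pe_inj R h).2.1.symm
  have hlam : ∀ u, ψ (pe R 0 u 0) = pe R 0 (u * B' 1) 0 := fun u => by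
    rw [hU', hA', hE', linear_of_chi θ R.cu R.pw hBadd' (fun b u => (heU b u).1)]
  -- the first coordinate
  have heT : ∀ (b : Kˣ) (t : K), A ((wHom θ b : K) * t) = (wHom θ b : K) * A t ∧
      B ((wHom θ b : K) * t) = (chiHom θ b : K) * B t ∧ E ((wHom θ b : K) * t) = (b : K) * E t := fun b t => by
    have h := congrArg ψ (he_conj R b t 0 0)
    rw [map_mul, map_mul, map_inv, hH, hT, he_conj, mul_zero, mul_zero, hT] at h
    exact ⟨(pe_inj R h).1.symm, (pe_inj R h).2.1.symm, (pe_inj R h).2.2.symm⟩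
  have h00 : A 0 = 0 ∧ B 0 = 0 ∧ E 0 = 0 := by
    have h := hT 0
    rw [hZ] at h
    exact ⟨(pe_inj R h).1.symm, (pe_inj R h).2.1.symm, (pe_inj R h).2.2.symm⟩
  have hA : ∀ t, A t = t * A 1 := fun t => by
    by_cases ht : t = 0
    · simp [ht, h00.1]
    obtain ⟨b, hb⟩ := w_surjective θ R.cu (Units.mk0 t ht)
    have h := (heT b 1).1
    rw [hb, Units.val_mk0, mul_one] at h
    exact h
  have hμ : θ.symm (A 1) * A 1 ^ 2 = 1 := by
    have h := congrArg ψ (pe_cube R 1 0 0)
    rw [map_pow, hT, pe_cube, hZ] at h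
    have h' := (pe_inj R h).2.2
    rw [map_one, one_pow, one_mul, neg_inj] at h'
    exact h'
  have hA1 : A 1 = 1 := by
    have hne : A 1 ≠ 0 := fun e => by rw [e, zero_pow two_ne_zero, mul_zero] at hμ; exact zero_ne_one hμ
    obtain ⟨c, hc⟩ := w_surjective θ R.cu (Units.mk0 _ hne)
    have hc' := congrArg Units.val hc
    rw [wHom_val, Units.val_mk0] at hc'
    have hs : θ.symm (θ.symm (c : K)) = (c : K) ^ 3 := by
      rw [R.cu (θ.symm (c : K)), RingEquiv.apply_symm_apply]
    rw [← hc', map_mul, map_inv₀, map_pow, hs] at hμ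
    have hsc : θ.symm (c : K) ≠ 0 := (map_ne_zero θ.symm).2 c.ne_zero
    field_simp at hμ
    have hc1' : (c : K) = 1 := by linear_combination hμ
    rw [← hc', hc1']; simp
  have hA' : ∀ t, A t = t := fun t => by rw [hA, hA1, mul_one]
  -- the product of two elements
  have hprod : ∀ t t', B (t + t') + (-(θ.symm t' * t)) * B' 1 = B t + B t' - θ.symm t' * t ∧
      (B' 1 = 1 → (∀ x, B x = 0) → E (t + t') = E t + E t') := fun t t' => by
    have h := congrArg ψ (pe_mul R t 0 0 t' 0 0)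
    rw [pe_split R (t + t'), map_mul, map_mul, map_mul, hT, hT, hT, hlam, hZ, pe_mul, pe_mul, pe_mul] at h
    simp only [hA', map_zero, zero_mul, sub_zero, add_zero, zero_add, zero_pow two_ne_zero, mul_zero] at h
    obtain ⟨-, e2, e3⟩ := pe_inj R h
    rw [zero_sub] at e2
    refine ⟨e2.symm, fun _ hB => ?_⟩
    simp only [hB, mul_zero, sub_zero] at e3
    linear_combination -e3
  have hB1 : B' 1 = 1 := by
    obtain ⟨x, -, hx⟩ := exists_symm_ne θ R.cu R.pw R.big hm
    have e1 := (hprod x 1).1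
    have e2 := (hprod 1 x).1
    rw [add_comm x 1] at e1
    rw [map_one] at e1
    have : (θ.symm x - x) * (B' 1 - 1) = 0 := by linear_combination e1 - e2
    exact sub_eq_zero.1 ((mul_eq_zero.1 this).resolve_left (sub_ne_zero.2 hx))
  have hBadd : ∀ t t', B (t + t') = B t + B t' := fun t t' => by
    have := (hprod t t').1
    rw [hB1] at this
    linear_combination this
  have hBneg : ∀ t, B (-t) = B t := fun t => by
    have h := (heT (-1) t).2.1
    rwa [hc1, hw1, one_mul, neg_one_mul] at h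
  have hB : ∀ t, B t = 0 := fun t => hz _ (by
    have := hBadd t (-t)
    rw [add_neg_cancel, h00.2.1, hBneg] at this
    linear_combination -this)
  have hEadd : ∀ t t', E (t + t') = E t + E t' := fun t t' => (hprod t t').2 hB1 hB
  have hE1 : E 1 = 0 := by
    by_contra hne
    obtain ⟨x, hx0, hx⟩ := exists_symm_ne θ R.cu R.pw R.big hm
    have hE : ∀ b : Kˣ, E ((wHom θ b : K)) = (b : K) * E 1 := fun b => by
      have := (heT b 1).2.2
      rwa [mul_one] at this
    have hinj : ∀ t, E t = 0 → t = 0 := fun t ht => by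
      by_contra h0
      obtain ⟨b, hb⟩ := w_surjective θ R.cu (Units.mk0 t h0)
      have := hE b
      rw [hb, Units.val_mk0, ht] at this
      exact (mul_ne_zero b.ne_zero hne) this.symm
    have hEsub : ∀ a b, E (a - b) = E a - E b := fun a b => by
      rw [eq_sub_iff_add_eq, ← hEadd, sub_add_cancel]
    -- the weight would be additive
    have hx1 : x + 1 ≠ 0 := fun e => hx (by rw [eq_neg_of_add_eq_zero_left e, map_neg, map_one])
    set b := Units.mk0 x hx0
    set d := Units.mk0 (x + 1) hx1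
    have h0 : E ((wHom θ d : K) - ((wHom θ b : K) + (wHom θ 1 : K))) = 0 := by
      rw [hEsub, hEadd, hE, hE, hE]
      simp only [b, d, Units.val_mk0, Units.val_one]
      ring
    have hw := hinj _ h0
    rw [wHom_val, wHom_val, wHom_val] at hw
    simp only [b, d, Units.val_mk0, Units.val_one, one_pow, map_one, inv_one, mul_one, map_add] at hw
    have hs1 : θ.symm x ≠ 0 := (map_ne_zero θ.symm).2 hx0
    have hs2 : θ.symm x + 1 ≠ 0 := by rw [← map_one θ.symm, ← map_add]; exact (map_ne_zero θ.symm).2 hx1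
    field_simp at hw
    refine hx (sub_eq_zero.1 (eq_zero_of_pow_eq_zero (n := 2) ?_))
    linear_combination -hw
  have hE : ∀ t, E t = 0 := fun t => by
    by_cases ht : t = 0
    · rw [ht, h00.2.2]
    obtain ⟨b, hb⟩ := w_surjective θ R.cu (Units.mk0 t ht)
    have h := (heT b 1).2.2
    rw [hb, Units.val_mk0, mul_one, hE1, mul_zero] at h
    exact h
  rw [pe_split, map_mul, map_mul, hT, hlam, hZ, hA', hB, hE, hB1, mul_one]

end TG2

end CfsgLib.Lie.Chev
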