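import Cfsg.Agent.Lib.Lie.Chev.Tw.Ree.CentHom
import Cfsg.Agent.Lib.Classical.SLBasic

/-!
# ²G₂(q): the centraliser of the involution of the torus and the Sylow 2-subgroups
-/

set_option autoImplicit false
set_option maxRecDepth 100000
set_option linter.unusedSectionVars false

namespace CfsgLib.Lie.Chev.TG2

open Cfsg.Lie
open scoped MatrixGroups
open CfsgLib.Lie.SL2Rel (Fam val_mul')

theorem mult_cases (n : Multiplicative (ZMod 2)) : n = 1 ∨ n = Multiplicative.ofAdd 1 := by
  revert n; decide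

/-- the homomorphism of the group of order two onto an involution -/
noncomputable def invHom {G : Type*} [Group G] (x : G) (hx : x * x = 1) : Multiplicative (ZMod 2) →* G :=
  MonoidHom.mk' (fun n => if n = 1 then 1 else x) fun a b => by
    have h1 : (Multiplicative.ofAdd 1 : Multiplicative (ZMod 2)) ≠ 1 := by decide
    have h2 : (Multiplicative.ofAdd 1 : Multiplicative (ZMod 2)) * Multiplicative.ofAdd 1 = 1 := by decide
    rcases mult_cases a with rfl | rfl <;> rcases mult_cases b with rfl | rfl <;> simp [h1, h2, hx]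

theorem invHom_gen {G : Type*} [Group G] (x : G) (hx : x * x = 1) :
    invHom x hx (Multiplicative.ofAdd 1) = x :=
  if_neg (t := (1 : G)) (show (Multiplicative.ofAdd 1 : Multiplicative (ZMod 2)) ≠ 1 by decide)

variable {K : Type*} [Field K] [Fintype K] [CharP K 3] {θ : K ≃+* K} {m : ℕ} (R : Ree θ m)

/-- the involution of the torus -/
noncomputable def ia (R : Ree θ m) : ↥(twistedG2 K (3 ^ m)) := he R (-1)

/-- the homomorphism into the centraliser -/
noncomputable def cHom (R : Ree θ m) : Matrix.SpecialLinearGroup (Fin 2) K →* ↥(twistedG2 K (3 ^ m)) :=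
  (centHom₀ θ).codRestrict _ (centHom₀_mem θ R.pw)

theorem cHom_upper (t : K) : cHom R (Fam.upper t) = pe R 0 t 0 := Subtype.ext (centHom₀_upper θ t)

theorem ia_ne_one : ia R ≠ 1 := fun h => by
  have h1 : (-1 : Kˣ) = 1 := he_injective R (h.trans (map_one (he R)).symm)
  have h2 : (-1 : K) = 1 := by simpa using congrArg Units.val h1
  have h3 : (3 : K) = 0 := by exact_mod_cast CharP.cast_eq_zero K 3
  exact one_ne_zero (α := K) (by linear_combination h2 + h3)

theorem ia_sq : ia R * ia R = 1 := by rw [ia, ← map_mul, neg_one_mul, neg_neg, map_one]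

theorem eq_ia_of_sq {h : ↥(twistedG2 K (3 ^ m))} (hh : h ∈ R.gp.gH) (h2 : h * h = 1) (h1 : h ≠ 1) : h = ia R := by
  obtain ⟨b, rfl⟩ := (mem_gH_iff R).1 hh
  rw [← map_mul, ← map_one (he R)] at h2
  have h3 : (b : K) * b = 1 := by simpa using congrArg Units.val (he_injective R h2)
  rcases mul_self_eq_one_iff.1 h3 with h | h
  · exact absurd (by rw [show b = 1 from Units.ext h, map_one]) h1
  · rw [show b = -1 from Units.ext (by simpa using h)]; rfl

theorem ia_commute (g : Matrix.SpecialLinearGroup (Fin 2) K) : Commute (ia R) (cHom R g) :=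
  Subtype.ext (centHom₀_commute θ g).eq

theorem cHom_neg_one {g : Matrix.SpecialLinearGroup (Fin 2) K} (hg : g.1 = -1) : cHom R g = 1 :=
  Subtype.ext (centHom₀_neg_one θ g hg)

theorem cHom_lower_mem (t : K) : cHom R (Fam.lower t) ∈ R.gp.gV := by
  have hn : ∀ r : Fin chevG2.nroots, r.val < 6 → ∀ t : K, C.G.xu r t ∈ chevG2.negUnipotent K := fun r hr t =>
    C.G.xu_mem_V (by
      rw [C.G.isNegRoot_iff_not_pos, C.G.pos_iff_half]
      have : chevG2.nroots / 2 = 6 := by decide +kernel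
      omega) t
  show centHom₀ θ (Fam.lower t) ∈ chevG2.negUnipotent K
  rw [centHom₀_lower]
  simp only [reeN, ree, tail]
  exact mul_mem (mul_mem (hn _ (by decide +kernel) _) (hn _ (by decide +kernel) _))
    (mul_mem (mul_mem (mul_mem (hn _ (by decide +kernel) _) (hn _ (by decide +kernel) _))
      (hn _ (by decide +kernel) _)) (hn _ (by decide +kernel) _))

theorem pe_mem_gU (t u v : K) : pe R t u v ∈ R.gp.gU := (mem_gU_iff R).2 ⟨t, u, v, rfl⟩

theorem cHom_upper_inj {t : K} (h : cHom R (Fam.upper t) = 1) : t = 0 := by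
  rw [cHom_upper, ← pe_zero R] at h
  exact (pe_inj R h).2.1

theorem cHom_lower_inj {t : K} (h : cHom R (Fam.lower t) = 1) : t = 0 := by
  refine neg_eq_zero.1 (cHom_upper_inj R (t := -t) ?_)
  have e : (Fam.upper (-t) : Matrix.SpecialLinearGroup (Fin 2) K) = Fam.wel * Fam.lower t * Fam.wel⁻¹ := by
    rw [eq_mul_inv_iff_mul_eq]
    refine Subtype.ext ?_
    rw [val_mul', val_mul']
    simp [Fam.wel, Fam.lower, Fam.upper, Matrix.mul_fin_two]
  rw [e, map_mul, map_mul, h, mul_one, map_inv, mul_inv_cancel]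

theorem eq_upper {g : Matrix.SpecialLinearGroup (Fin 2) K} (hc : g.1 1 0 = 0) (ha : g.1 0 0 = 1) :
    g = Fam.upper (g.1 0 1) := by
  have hd : g.1 0 0 * g.1 1 1 - g.1 0 1 * g.1 1 0 = 1 := by rw [← Matrix.det_fin_two]; exact g.2
  rw [hc, ha] at hd
  refine Subtype.ext ?_
  ext i j
  fin_cases i <;> fin_cases j <;> simp [Fam.upper, hc, ha]
  simpa using hd

theorem mem_center_cases {g : Matrix.SpecialLinearGroup (Fin 2) K}
    (hg : g ∈ Subgroup.center (Matrix.SpecialLinearGroup (Fin 2) K)) : g.1 = 1 ∨ g.1 = -1 := by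
  obtain ⟨r, hr, e⟩ := Matrix.SpecialLinearGroup.mem_center_iff.1 hg
  rw [Fintype.card_fin, sq_eq_one_iff] at hr
  rcases hr with rfl | rfl
  · left; rw [← e, map_one]
  · right; rw [← e, map_neg, map_one]

theorem mem_center_of_cases {g : Matrix.SpecialLinearGroup (Fin 2) K} (hg : g.1 = 1 ∨ g.1 = -1) :
    g ∈ Subgroup.center (Matrix.SpecialLinearGroup (Fin 2) K) := by
  refine Matrix.SpecialLinearGroup.mem_center_iff.2 ?_
  rcases hg with h | h
  · exact ⟨1, one_pow _, by rw [h, map_one]⟩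
  · exact ⟨-1, by rw [Fintype.card_fin, neg_one_sq], by rw [h, map_neg, map_one]⟩

theorem center_le_ker : Subgroup.center (Matrix.SpecialLinearGroup (Fin 2) K) ≤ (cHom R).ker := by
  intro g hg
  rcases mem_center_cases hg with h | h
  · rw [show g = 1 from Subtype.ext h]; exact one_mem _
  · exact cHom_neg_one R h

/-- an element of the special linear group fixing the upper root element -/
theorem corner {g : Matrix.SpecialLinearGroup (Fin 2) K}
    (h : cHom R (g * Fam.upper 1 * g⁻¹) = cHom R (Fam.upper 1)) :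
    g.1 1 0 = 0 ∧ (g.1 0 0 = 1 ∨ g.1 0 0 = -1) := by
  set a := g.1 0 0 with ha
  set b := g.1 0 1
  set c := g.1 1 0 with hc
  set d := g.1 1 1
  have hd : a * d - b * c = 1 := by rw [← Matrix.det_fin_two]; exact g.2
  have hm : (g * Fam.upper 1 * g⁻¹ : Matrix.SpecialLinearGroup (Fin 2) K).1 =
      !![1 - a * c, a * a; -(c * c), 1 + a * c] := by
    rw [val_mul', val_mul', Matrix.SpecialLinearGroup.coe_inv, Matrix.adjugate_fin_two]
    rw [Matrix.eta_fin_two g.1]
    ext i j
    fin_cases i <;> fin_cases j <;> simp [Fam.upper, Matrix.mul_apply, Fin.sum_univ_two]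
    · linear_combination hd
    · ring
    · ring
    · linear_combination hd
  by_cases hc0 : c = 0
  · refine ⟨hc0, ?_⟩
    have e : g * Fam.upper 1 * g⁻¹ = Fam.upper (a * a) := by
      refine Subtype.ext (hm.trans ?_)
      simp [Fam.upper, hc0]
    rw [e, cHom_upper, cHom_upper] at h
    exact mul_self_eq_one_iff.1 (pe_inj R h).2.1
  · exfalso
    have e : g * Fam.upper 1 * g⁻¹ = Fam.upper (a / c) * Fam.lower (-(c * c)) * Fam.upper (-(a / c)) := by
      refine Subtype.ext (hm.trans ?_)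
      rw [val_mul', val_mul']
      simp only [Fam.upper, Fam.lower, Matrix.mul_fin_two]
      ext i j
      fin_cases i <;> fin_cases j <;> simp <;> field_simp <;> ring
    rw [e, map_mul, map_mul] at h
    have h1 : cHom R (Fam.lower (-(c * c))) ∈ R.gp.gB ⊓ R.gp.gV := by
      refine ⟨?_, cHom_lower_mem R _⟩
      have : cHom R (Fam.lower (-(c * c))) = (cHom R (Fam.upper (a / c)))⁻¹ * cHom R (Fam.upper 1) *
          (cHom R (Fam.upper (-(a / c))))⁻¹ := by rw [← h]; group
      rw [this]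
      refine R.gp.gU_le_gB ?_
      rw [cHom_upper, cHom_upper, cHom_upper]
      exact mul_mem (mul_mem (inv_mem (pe_mem_gU R _ _ _)) (pe_mem_gU R _ _ _)) (inv_mem (pe_mem_gU R _ _ _))
    rw [R.gp.gB_inf_gV, Subgroup.mem_bot] at h1
    exact hc0 (mul_self_eq_zero.1 (neg_eq_zero.1 (cHom_lower_inj R h1)))

theorem ker_cHom : (cHom R).ker = Subgroup.center (Matrix.SpecialLinearGroup (Fin 2) K) := by
  refine le_antisymm (fun g hg => ?_) (center_le_ker R)
  obtain ⟨hc, ha | ha⟩ := corner R (g := g) (by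
    rw [map_mul, map_mul, map_inv, MonoidHom.mem_ker.1 hg, inv_one, one_mul, mul_one])
  · have e := eq_upper hc ha
    rw [MonoidHom.mem_ker, e] at hg
    rw [e, cHom_upper_inj R hg]
    exact mem_center_of_cases (Or.inl (by simp [Fam.upper, Matrix.one_fin_two]))
  · let z : Matrix.SpecialLinearGroup (Fin 2) K := ⟨-1, by simp [Matrix.det_neg]⟩
    have hz : z ∈ Subgroup.center (Matrix.SpecialLinearGroup (Fin 2) K) := mem_center_of_cases (Or.inr rfl)
    have hzg : (z * g).1 = -g.1 := by rw [val_mul']; simp [z]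
    have e := eq_upper (g := z * g) (by simp [hzg, hc]) (by simp [hzg, ha])
    have hg' : cHom R (z * g) = 1 := by
      rw [map_mul, MonoidHom.mem_ker.1 hg, MonoidHom.mem_ker.1 (center_le_ker R hz), one_mul]
    rw [e] at hg'
    refine (Subgroup.mul_mem_cancel_left _ hz).1 ?_
    rw [e, cHom_upper_inj R hg']
    exact mem_center_of_cases (Or.inl (by simp [Fam.upper, Matrix.one_fin_two]))

/-- the homomorphism of the projective group -/
noncomputable def pHom (R : Ree θ m) :
    Matrix.ProjectiveSpecialLinearGroup (Fin 2) K →* ↥(twistedG2 K (3 ^ m)) :=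
  QuotientGroup.lift _ (cHom R) (center_le_ker R)

theorem pHom_mk (g : Matrix.SpecialLinearGroup (Fin 2) K) : pHom R (QuotientGroup.mk g) = cHom R g := rfl

theorem pHom_injective : Function.Injective (pHom R) := by
  refine (injective_iff_map_eq_one _).2 fun x hx => ?_
  obtain ⟨g, rfl⟩ := QuotientGroup.mk_surjective x
  rw [QuotientGroup.eq_one_iff, ← ker_cHom R]
  exact hx

theorem ia_not_mem : ∀ x, pHom R x ≠ ia R := by
  intro x
  obtain ⟨g, rfl⟩ := QuotientGroup.mk_surjective x
  intro h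
  rw [pHom_mk] at h
  obtain ⟨hc, hsq⟩ := corner R (g := g) (by
    rw [map_mul, map_mul, map_inv, h, (ia_commute R _).eq, mul_inv_cancel_right])
  obtain ⟨g', hg', hgg⟩ : ∃ g' : Matrix.SpecialLinearGroup (Fin 2) K, g'.1 1 0 = 0 ∧ g'.1 0 0 = 1 ∧
      cHom R g' = cHom R g := by
    rcases hsq with ha | ha
    · exact ⟨g, hc, ha, rfl⟩
    · let z : Matrix.SpecialLinearGroup (Fin 2) K := ⟨-1, by simp [Matrix.det_neg]⟩
      have hzg : (z * g).1 = -g.1 := by rw [val_mul']; simp [z]
      refine ⟨z * g, by simp [hzg, hc], by simp [hzg, ha], ?_⟩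
      rw [map_mul, MonoidHom.mem_ker.1 (center_le_ker R (mem_center_of_cases (g := z) (Or.inr rfl))), one_mul]
  rw [h, eq_upper hg' hgg.1, cHom_upper] at hgg
  obtain ⟨-, hgg⟩ := hgg
  have h1 : ia R = 1 := Subtype.ext (Subgroup.mem_bot.1 (C.G.U_inf_H (K := K) ▸ Subgroup.mem_inf.2
    ⟨(hgg ▸ pe_mem_gU R _ _ _ : ia R ∈ R.gp.gU), ((mem_gH_iff R).2 ⟨_, rfl⟩ : ia R ∈ R.gp.gH)⟩))
  exact ia_ne_one R h1

/-- the product -/
noncomputable def zHom (R : Ree θ m) :
    Multiplicative (ZMod 2) × Matrix.ProjectiveSpecialLinearGroup (Fin 2) K →* ↥(twistedG2 K (3 ^ m)) :=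
  MonoidHom.noncommCoprod (invHom (ia R) (ia_sq R)) (pHom R) fun n x => by
    obtain ⟨g, rfl⟩ := QuotientGroup.mk_surjective x
    rcases mult_cases n with rfl | rfl
    · rw [map_one]; exact Commute.one_left _
    · rw [invHom_gen, pHom_mk]; exact ia_commute R g

theorem zHom_injective : Function.Injective (zHom R) := by
  refine (injective_iff_map_eq_one _).2 ?_
  rintro ⟨n, x⟩ h
  change invHom (ia R) (ia_sq R) n * pHom R x = 1 at h
  rcases mult_cases n with rfl | rfl
  · rw [map_one, one_mul] at h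
    exact Prod.ext rfl (pHom_injective R (h.trans (map_one _).symm))
  · rw [invHom_gen, mul_eq_one_iff_eq_inv] at h
    exact absurd (by rw [map_inv, ← h]) (ia_not_mem R x⁻¹)

theorem zHom_mem (p : Multiplicative (ZMod 2) × Matrix.ProjectiveSpecialLinearGroup (Fin 2) K) :
    zHom R p ∈ Subgroup.centralizer {ia R} := by
  obtain ⟨n, x⟩ := p
  obtain ⟨g, rfl⟩ := QuotientGroup.mk_surjective x
  rw [Subgroup.mem_centralizer_singleton_iff]
  show invHom (ia R) (ia_sq R) n * cHom R g * ia R = ia R * (invHom (ia R) (ia_sq R) n * cHom R g)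
  rcases mult_cases n with rfl | rfl
  · rw [map_one, one_mul]; exact (ia_commute R g).eq.symm
  · rw [invHom_gen, mul_assoc, ← (ia_commute R g).eq]

theorem card_psl_two : Nat.card (Multiplicative (ZMod 2) × Matrix.ProjectiveSpecialLinearGroup (Fin 2) K) =
    Fintype.card K * (Fintype.card K - 1) + Fintype.card K * (Fintype.card K - 1) * Fintype.card K := by
  have hs := CfsgLib.Classical.card_sl_mul (F := K) (n := 2) (by norm_num)
  rw [Fin.prod_univ_two] at hs
  have hz := CfsgLib.Classical.card_center_sl (F := K) (n := 2) (by norm_num)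
  have hodd : Fintype.card K % 2 = 1 := FiniteField.odd_card_of_char_ne_two (by
    rw [ringChar.eq K 3]; norm_num)
  have hg : Nat.gcd 2 (Fintype.card K - 1) = 2 := Nat.gcd_eq_left (by omega)
  rw [hg] at hz
  have hq := Subgroup.card_eq_card_quotient_mul_card_subgroup
    (Subgroup.center (Matrix.SpecialLinearGroup (Fin 2) K))
  rw [hz] at hq
  rw [Nat.card_prod, show Nat.card (Multiplicative (ZMod 2)) = 2 by simp, mul_comm]
  refine hq.symm.trans ?_
  have h1 : 1 < Fintype.card K := Fintype.one_lt_card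
  simp only [Fin.val_zero, Fin.val_one, pow_zero, pow_one] at hs
  generalize Fintype.card K = q at hs h1 ⊢
  obtain ⟨r, rfl⟩ := Nat.exists_eq_add_of_le h1.le
  refine Nat.eq_of_mul_eq_mul_left (show 0 < 1 + r - 1 by omega) (hs.trans ?_)
  simp only [Nat.add_sub_cancel_left]
  have e1 : (1 + r) ^ 2 - 1 = r * r + 2 * r := by rw [Nat.sub_eq_iff_eq_add (Nat.one_le_pow _ _ (by omega))]; ring
  have e2 : (1 + r) ^ 2 - (1 + r) = r * r + r := by
    rw [Nat.sub_eq_iff_eq_add (Nat.le_self_pow two_ne_zero _)]; ring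
  rw [e1, e2]
  ring

theorem conj_ia {g : ↥(twistedG2 K (3 ^ m))} (hg : g ∈ R.gp.gU)
    (hc : ia R * g * (ia R)⁻¹ = g) : ∃ x, g = pe R 0 x 0 := by
  obtain ⟨t, x, v, rfl⟩ := (mem_gU_iff R).1 hg
  rw [ia, he_conj] at hc
  obtain ⟨h1, -, h3⟩ := pe_inj R hc
  have h30 : (3 : K) = 0 := by exact_mod_cast CharP.cast_eq_zero K 3
  have hw1 : (wHom θ (-1) : K) = -1 := by rw [wHom_val]; simp
  rw [hw1] at h1
  rw [Units.val_neg, Units.val_one] at h3
  have ht : t = 0 := by linear_combination t * h30 + h1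
  have hv : v = 0 := by linear_combination v * h30 + h3
  exact ⟨x, by rw [ht, hv]⟩

/-- an upper bound for the centraliser -/
theorem card_centralizer_le : Nat.card ↥(Subgroup.centralizer {ia R}) ≤
    Fintype.card K * (Fintype.card K - 1) + Fintype.card K * (Fintype.card K - 1) * Fintype.card K := by
  classical
  set M := R.gp.mMax
  let F : (K × Kˣ) ⊕ ((K × Kˣ) × K) → ↥(twistedG2 K (3 ^ m)) := fun s =>
    match s with
    | Sum.inl (x, b) => pe R 0 x 0 * he R b
    | Sum.inr ((x, b), y) => pe R 0 x 0 * (M * he R b) * pe R 0 y 0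
  have hab : ∀ b, Commute (ia R) (he R b) := fun b => (Commute.all _ _).map (he R)
  have haM : ia R * M * (ia R)⁻¹ = M := by
    have h1 : M⁻¹ * ia R * M ∈ R.gp.gH := by
      have := (Subgroup.mem_normalizer_iff.1 (C.G.monomial_le_normalizer
        (inv_mem (R.gp.mem_N_iff.1 R.gp.mMax_mem))) (ia R : GL chevG2.Idx K)).1 ((mem_gH_iff R).2 ⟨_, rfl⟩)
      rw [inv_inv] at this
      exact this
    have h2 := eq_ia_of_sq R h1 (by
      rw [show M⁻¹ * ia R * M * (M⁻¹ * ia R * M) = M⁻¹ * (ia R * ia R) * M by group, ia_sq]; group)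
      (fun h => ia_ne_one R (conj_eq_one_iff.1 (show M⁻¹ * ia R * M⁻¹⁻¹ = 1 by rwa [inv_inv])))
    calc ia R * M * (ia R)⁻¹ = M * (M⁻¹ * ia R * M) * (ia R)⁻¹ := by group
      _ = M := by rw [h2]; group
  have hsurj : ∀ g : ↥(Subgroup.centralizer {ia R}), ∃ s, F s = (g : ↥(twistedG2 K (3 ^ m))) := by
    rintro ⟨g, hg⟩
    rw [Subgroup.mem_centralizer_singleton_iff] at hg
    have hcj : ia R * g * (ia R)⁻¹ = g := by rw [← hg, mul_inv_cancel_right]
    obtain ⟨u, hu, c, hc, b, e | e⟩ := bruhat R g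
    · have hu1 : u * (he R b * c * (he R b)⁻¹) ∈ R.gp.gU :=
        mul_mem hu ((Subgroup.mem_normalizer_iff.1 (he_normalizes R b).1 c).1 hc)
      obtain ⟨x, hx⟩ := conj_ia R hu1 (by
        rw [show u * (he R b * c * (he R b)⁻¹) = g * (he R b)⁻¹ by rw [e]; group]
        calc ia R * (g * (he R b)⁻¹) * (ia R)⁻¹ = (ia R * g * (ia R)⁻¹) * (ia R * (he R b)⁻¹ * (ia R)⁻¹) := by
              group
          _ = _ := by rw [hcj, (hab b).inv_right.eq, mul_inv_cancel_right])
      exact ⟨Sum.inl (x, b), by show pe R 0 x 0 * he R b = g; rw [← hx, e]; group⟩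
    · have hN : ia R * (M * he R b) * (ia R)⁻¹ = M * he R b := by
        calc ia R * (M * he R b) * (ia R)⁻¹ = (ia R * M * (ia R)⁻¹) * (ia R * he R b * (ia R)⁻¹) := by group
          _ = _ := by rw [haM, (hab b).eq, mul_inv_cancel_right]
      have hiU : ∀ z ∈ R.gp.gU, ia R * z * (ia R)⁻¹ ∈ R.gp.gU := fun z hz =>
        (Subgroup.mem_normalizer_iff.1 (he_normalizes R (-1)).1 z).1 hz
      set N := M * he R b
      set u' := ia R * u * (ia R)⁻¹
      set c' := ia R * c * (ia R)⁻¹
      have he' : u' * N * c' = u * N * c := by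
        rw [← e]
        conv_rhs => rw [← hcj, e]
        simp only [u', c']
        conv_lhs => rw [← hN]
        group
      have h1 : N * (c' * c⁻¹) * N⁻¹ = u'⁻¹ * u := by
        calc N * (c' * c⁻¹) * N⁻¹ = u'⁻¹ * (u' * N * c') * c⁻¹ * N⁻¹ := by group
          _ = _ := by rw [he']; group
      have h2 : N * (c' * c⁻¹) * N⁻¹ ∈ R.gp.gB ⊓ R.gp.gV := by
        refine Subgroup.mem_inf.2 ⟨h1 ▸ R.gp.gU_le_gB (mul_mem (inv_mem (hiU u hu)) hu), ?_⟩
        have h3 : he R b * (c' * c⁻¹) * (he R b)⁻¹ ∈ R.gp.gU :=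
          (Subgroup.mem_normalizer_iff.1 (he_normalizes R b).1 _).1 (mul_mem (hiU c hc) (inv_mem hc))
        rw [show N * (c' * c⁻¹) * N⁻¹ = M * (he R b * (c' * c⁻¹) * (he R b)⁻¹) * M⁻¹ by simp only [N]; group]
        exact (R.gp.mem_gV_iff _).2 h3
      rw [R.gp.gB_inf_gV, Subgroup.mem_bot] at h2
      have hcc : c' = c := mul_inv_eq_one.1 (conj_eq_one_iff.1 h2)
      have huu : u' = u := inv_mul_eq_one.1 (h1.symm.trans h2)
      obtain ⟨x, rfl⟩ := conj_ia R hu huu
      obtain ⟨y, rfl⟩ := conj_ia R hc hcc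
      exact ⟨Sum.inr ((x, b), y), e.symm⟩
  choose f hf using hsurj
  have hinj : Function.Injective f := fun g g' h => Subtype.ext (by rw [← hf g, ← hf g', h])
  refine (Nat.card_le_card_of_injective f hinj).trans (le_of_eq ?_)
  rw [Nat.card_sum, Nat.card_prod, Nat.card_prod, Nat.card_prod, Nat.card_units, Nat.card_eq_fintype_card]

theorem centralizer_eq : Subgroup.centralizer {ia R} = (zHom R).range := by
  refine (Subgroup.eq_of_le_of_card_ge ?_ ?_).symm
  · rintro _ ⟨p, rfl⟩; exact zHom_mem R p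
  · rw [Nat.card_congr (MonoidHom.ofInjective (zHom_injective R)).toEquiv.symm, card_psl_two]
    exact card_centralizer_le R

theorem centralizer_iso : Nonempty (↥(Subgroup.centralizer {ia R}) ≃*
    Multiplicative (ZMod 2) × Matrix.ProjectiveSpecialLinearGroup (Fin 2) K) :=
  ⟨(MulEquiv.subgroupCongr (centralizer_eq R)).trans (MonoidHom.ofInjective (zHom_injective R)).symm⟩

/-! ### the Sylow 2-subgroups -/

/-- an element of order four -/
def zel : Matrix.SpecialLinearGroup (Fin 2) K :=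
  ⟨!![1, 1; 1, -1], by
    have h3 : (3 : K) = 0 := by exact_mod_cast CharP.cast_eq_zero K 3
    rw [Matrix.det_fin_two]; simp; linear_combination -h3⟩

theorem val_sq : (Fam.wel * Fam.wel : Matrix.SpecialLinearGroup (Fin 2) K).1 = -1 ∧
    (zel * zel : Matrix.SpecialLinearGroup (Fin 2) K).1 = -1 ∧
    ((Fam.wel * zel)⁻¹ * (zel * Fam.wel) : Matrix.SpecialLinearGroup (Fin 2) K).1 = -1 := by
  have h3 : (3 : K) = 0 := by exact_mod_cast CharP.cast_eq_zero K 3
  refine ⟨?_, ?_, ?_⟩
  · rw [val_mul']; ext i j; fin_cases i <;> fin_cases j <;> simp [Fam.wel, Matrix.mul_apply, Fin.sum_univ_two]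
  · rw [val_mul']
    ext i j
    fin_cases i <;> fin_cases j <;> simp [zel, Matrix.mul_apply, Fin.sum_univ_two] <;> linear_combination h3
  · rw [val_mul', Matrix.SpecialLinearGroup.coe_inv, val_mul', val_mul', Matrix.adjugate_fin_two]
    ext i j
    fin_cases i <;> fin_cases j <;> simp [zel, Fam.wel, Matrix.mul_apply, Fin.sum_univ_two] <;>
      linear_combination h3

theorem mk_sq : (QuotientGroup.mk (Fam.wel) : Matrix.ProjectiveSpecialLinearGroup (Fin 2) K) *
      QuotientGroup.mk Fam.wel = 1 ∧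
    (QuotientGroup.mk zel : Matrix.ProjectiveSpecialLinearGroup (Fin 2) K) * QuotientGroup.mk zel = 1 ∧
    Commute (QuotientGroup.mk Fam.wel : Matrix.ProjectiveSpecialLinearGroup (Fin 2) K) (QuotientGroup.mk zel) := by
  obtain ⟨h1, h2, h3⟩ := val_sq (K := K)
  refine ⟨?_, ?_, ?_⟩
  · rw [← QuotientGroup.mk_mul, QuotientGroup.eq_one_iff]; exact mem_center_of_cases (Or.inr h1)
  · rw [← QuotientGroup.mk_mul, QuotientGroup.eq_one_iff]; exact mem_center_of_cases (Or.inr h2)
  · show _ * _ = _ * _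
    rw [← QuotientGroup.mk_mul, ← QuotientGroup.mk_mul, QuotientGroup.eq]
    exact mem_center_of_cases (Or.inr h3)

/-- the four-group -/
noncomputable def fourHom (K : Type*) [Field K] [Fintype K] [CharP K 3] :
    Multiplicative (ZMod 2) × Multiplicative (ZMod 2) →* Matrix.ProjectiveSpecialLinearGroup (Fin 2) K :=
  MonoidHom.noncommCoprod (invHom _ mk_sq.1) (invHom _ mk_sq.2.1) fun a b => by
    rcases mult_cases a with rfl | rfl <;> rcases mult_cases b with rfl | rfl <;>
      simp only [map_one, invHom_gen, Commute.one_left, Commute.one_right, mk_sq.2.2]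

theorem fourHom_injective : Function.Injective (fourHom K) := by
  refine (injective_iff_map_eq_one _).2 ?_
  rintro ⟨a, b⟩ h
  change invHom _ mk_sq.1 a * invHom _ mk_sq.2.1 b = 1 at h
  have key : ∀ g : Matrix.SpecialLinearGroup (Fin 2) K,
      (g.1 0 1 ≠ 0 ∨ g.1 1 0 ≠ 0) → (QuotientGroup.mk g : Matrix.ProjectiveSpecialLinearGroup (Fin 2) K) ≠ 1 := by
    intro g hg e
    rw [QuotientGroup.eq_one_iff] at e
    rcases mem_center_cases e with h | h <;> simp [h] at hg
  rcases mult_cases a with rfl | rfl <;> rcases mult_cases b with rfl | rfl <;>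
    simp only [map_one, invHom_gen, one_mul, mul_one] at h
  · rfl
  · exact absurd h (key _ (Or.inl (by simp [zel])))
  · exact absurd h (key _ (Or.inr (by simp [Fam.wel])))
  · rw [← QuotientGroup.mk_mul] at h
    exact absurd h (key _ (Or.inl (by rw [val_mul']; simp [zel, Fam.wel, Matrix.mul_apply, Fin.sum_univ_two])))

/-- the elementary abelian group of order eight -/
noncomputable def eightHom (R : Ree θ m) :
    Multiplicative (ZMod 2) × (Multiplicative (ZMod 2) × Multiplicative (ZMod 2)) →* ↥(twistedG2 K (3 ^ m)) :=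
  (zHom R).comp ((MonoidHom.id _).prodMap (fourHom K))

theorem eightHom_injective : Function.Injective (eightHom R) :=
  (zHom_injective R).comp (Function.injective_id.prodMap fourHom_injective)

theorem card_eightHom : Nat.card ↥(eightHom R).range = 8 := by
  rw [← Nat.card_congr (MonoidHom.ofInjective (eightHom_injective R)).toEquiv]
  simp

include R in
theorem index_eightHom : ¬ 2 ∣ (eightHom R).range.index := by
  have h := Subgroup.card_mul_index (eightHom R).range
  rw [card_eightHom R, (summary R.big).2.2.2.1] at h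
  obtain ⟨k, hk⟩ : ∃ k, 3 ^ (2 * m + 1) = 8 * k + 3 := by
    refine ⟨3 ^ (2 * m + 1) / 8, ?_⟩
    have : 3 ^ (2 * m + 1) % 8 = 3 := by rw [pow_succ, pow_mul, Nat.mul_mod, Nat.pow_mod]; simp
    omega
  rw [hk] at h
  rintro ⟨j, hj⟩
  rw [hj, show 8 * k + 3 - 1 = 2 * (4 * k + 1) by omega,
    show (8 * k + 3) ^ 3 + 1 = 4 * (128 * k ^ 3 + 144 * k ^ 2 + 54 * k + 7) by ring] at h
  have h2 : (8 * k + 3) ^ 3 * (4 * k + 1) * (128 * k ^ 3 + 144 * k ^ 2 + 54 * k + 7) = 2 * j :=
    Nat.eq_of_mul_eq_mul_left (show 0 < 8 by norm_num) (Eq.trans (by ring) h.symm)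
  have h3 : ((8 * k + 3) ^ 3 * (4 * k + 1) * (128 * k ^ 3 + 144 * k ^ 2 + 54 * k + 7)) % 2 = 1 := by
    simp [Nat.mul_mod, Nat.pow_mod, Nat.add_mod]
  omega

/-- the Sylow 2-subgroup -/
theorem exists_sylow_two : ∃ S : Sylow 2 ↥(twistedG2 K (3 ^ m)),
    (S : Subgroup ↥(twistedG2 K (3 ^ m))) = (eightHom R).range := by
  haveI := Fact.mk Nat.prime_two
  exact ⟨(IsPGroup.of_card (n := 3) (by rw [card_eightHom R]; norm_num)).toSylow (index_eightHom R), rfl⟩

theorem eightHom_sq (p : Multiplicative (ZMod 2) × (Multiplicative (ZMod 2) × Multiplicative (ZMod 2))) :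
    eightHom R p * eightHom R p = 1 := by
  rw [← map_mul, show p * p = 1 by revert p; decide, map_one]

include R in
theorem sylow_two (S : Sylow 2 ↥(twistedG2 K (3 ^ m))) : Nat.card S = 8 ∧ ∀ x ∈ S, x * x = 1 := by
  haveI := Fact.mk Nat.prime_two
  obtain ⟨S0, hS0⟩ := exists_sylow_two R
  refine ⟨?_, fun x hx => ?_⟩
  · rw [← card_eightHom R, ← hS0]
    exact Nat.card_congr (Sylow.equiv S S0).toEquiv
  · obtain ⟨g, hg⟩ := MulAction.exists_smul_eq ↥(twistedG2 K (3 ^ m)) S0 S
    have hx' : x ∈ ((g • S0 : Sylow 2 ↥(twistedG2 K (3 ^ m))) : Subgroup ↥(twistedG2 K (3 ^ m))) := by rw [hg]; exact hx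
    rw [Sylow.coe_subgroup_smul, Subgroup.mem_pointwise_smul_iff_inv_smul_mem, hS0] at hx'
    obtain ⟨p, hp⟩ := hx'
    simp only [MulAut.smul_def, ← map_inv, MulAut.conj_apply, inv_inv] at hp
    have h := eightHom_sq R p
    rw [hp, show g⁻¹ * x * g * (g⁻¹ * x * g) = g⁻¹ * (x * x) * g by group] at h
    exact conj_eq_one_iff.1 (show g⁻¹ * (x * x) * g⁻¹⁻¹ = 1 by rwa [inv_inv])

end CfsgLib.Lie.Chev.TG2
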