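import Cfsg.Agent.Lib.Lie.Chev.Tw.Ree.Aut
import Cfsg.Agent.Lib.Lie.Chev.SL2Root

/-!
# ²G₂(q): the homomorphism of `SL(2, q)` into the centraliser of the involution of the torus
-/

set_option autoImplicit false
set_option maxRecDepth 100000
set_option linter.unusedSectionVars false

namespace CfsgLib.Lie.Chev.TG2

open Cfsg.Lie
open scoped MatrixGroups
open CfsgLib.Lie.SL2Rel (val_mul' Fam)

variable {K : Type*} [Field K] [CharP K 3]

theorem wel_eq : (Fam.wel : Matrix.SpecialLinearGroup (Fin 2) K) = Fam.lower 1 * Fam.upper (-1) * Fam.lower 1 := by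
  refine Subtype.ext ?_
  rw [val_mul', val_mul']
  simp [Fam.wel, Fam.lower, Fam.upper, Matrix.mul_fin_two]

/-- the root homomorphism -/
noncomputable def rootHom (r : Fin chevG2.nroots) : Matrix.SpecialLinearGroup (Fin 2) K →* GL chevG2.Idx K :=
  (C.G.sl2Fam r).hom (C.G.sl2Fam_mult r)

theorem c3_pairs : C3 (rt 8) (rt 10) ∧ C3 (rt 8) (rt 1) ∧ C3 (rt 3) (rt 10) ∧ C3 (rt 3) (rt 1) := by
  decide +kernel

theorem rootHom_commute (a b : Matrix.SpecialLinearGroup (Fin 2) K) :
    Commute (rootHom (rt 8) a) (rootHom (rt 10) b) := by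
  obtain ⟨-, -, n8, -, n10, -⟩ := negr_rt
  obtain ⟨h1, h2, h3, h4⟩ := c3_pairs
  refine Fam.mem_gens (P := fun a => ∀ b, Commute (rootHom (rt 8) a) (rootHom (rt 10) b))
    (fun x y hx hy b => by rw [map_mul]; exact (hx b).mul_left (hy b)) ?_ ?_ a b
  · intro t b
    refine Fam.mem_gens (P := fun b => Commute (rootHom (rt 8) (Fam.upper t)) (rootHom (rt 10) b))
      (fun x y hx hy => by rw [map_mul]; exact hx.mul_right hy) (fun u => ?_) ?_ b
    · rw [rootHom, rootHom, Fam.hom_upper, Fam.hom_upper]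
      exact comm_of h1 t u
    · rw [rootHom, rootHom, Fam.hom_upper,
        wel_eq,
        map_mul, map_mul, Fam.hom_upper, Fam.hom_lower]
      have hy : ∀ u, Commute (C.G.xu (rt 8) t) (C.G.xu (C.G.negr (rt 10)) u) := fun u => by
        rw [n10]; exact comm_of h2 t u
      exact ((hy _).mul_right (comm_of h1 t _)).mul_right (hy _)
  · intro b
    rw [wel_eq]
    have hu : ∀ t, Commute (rootHom (rt 8) (Fam.upper t)) (rootHom (rt 10) b) := fun t => by
      refine Fam.mem_gens (P := fun b => Commute (rootHom (rt 8) (Fam.upper t)) (rootHom (rt 10) b))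
        (fun x y hx hy => by rw [map_mul]; exact hx.mul_right hy) (fun u => ?_) ?_ b
      · rw [rootHom, rootHom, Fam.hom_upper, Fam.hom_upper]
        exact comm_of h1 t u
      · rw [rootHom, rootHom, Fam.hom_upper,
          wel_eq,
          map_mul, map_mul, Fam.hom_upper, Fam.hom_lower]
        have hy : ∀ u, Commute (C.G.xu (rt 8) t) (C.G.xu (C.G.negr (rt 10)) u) := fun u => by
          rw [n10]; exact comm_of h2 t u
        exact ((hy _).mul_right (comm_of h1 t _)).mul_right (hy _)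
    have hl : ∀ t, Commute (rootHom (rt 8) (Fam.lower t)) (rootHom (rt 10) b) := fun t => by
      refine Fam.mem_gens (P := fun b => Commute (rootHom (rt 8) (Fam.lower t)) (rootHom (rt 10) b))
        (fun x y hx hy => by rw [map_mul]; exact hx.mul_right hy) (fun u => ?_) ?_ b
      · rw [rootHom, rootHom, Fam.hom_lower, Fam.hom_upper]
        show Commute (C.G.xu (C.G.negr (rt 8)) t) (C.G.xu (rt 10) u)
        rw [n8]
        exact comm_of h3 t u
      · rw [rootHom, rootHom, Fam.hom_lower,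
          wel_eq,
          map_mul, map_mul, Fam.hom_upper, Fam.hom_lower]
        show Commute (C.G.xu (C.G.negr (rt 8)) t) (C.G.xu (C.G.negr (rt 10)) 1 * C.G.xu (rt 10) (-1) *
          C.G.xu (C.G.negr (rt 10)) 1)
        rw [n8, n10]
        exact ((comm_of h4 t _).mul_right (comm_of h3 t _)).mul_right (comm_of h4 t _)
    rw [map_mul, map_mul]
    exact ((hl _).mul_left (hu _)).mul_left (hl _)

/-- the homomorphism into the group -/
noncomputable def centHom₀ (θ : K ≃+* K) : Matrix.SpecialLinearGroup (Fin 2) K →* GL chevG2.Idx K :=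
  (MonoidHom.noncommCoprod (rootHom (rt 8)) (rootHom (rt 10)) rootHom_commute).comp
    ((Matrix.SpecialLinearGroup.map θ.toRingHom).prod (MonoidHom.id _))

variable (θ : K ≃+* K)

theorem centHom₀_apply (g : Matrix.SpecialLinearGroup (Fin 2) K) :
    centHom₀ θ g = rootHom (rt 8) (Matrix.SpecialLinearGroup.map θ.toRingHom g) * rootHom (rt 10) g := rfl

theorem centHom₀_upper (t : K) : centHom₀ θ (Fam.upper t) = reeP θ 0 t 0 := by
  rw [centHom₀_apply,
    show Matrix.SpecialLinearGroup.map θ.toRingHom (Fam.upper t) = Fam.upper (θ t) from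
      Subtype.ext (by ext i j; show θ ((Fam.upper t).1 i j) = _; fin_cases i <;> fin_cases j <;> simp [Fam.upper]),
    rootHom, rootHom, Fam.hom_upper, Fam.hom_upper]
  simp [reeP, ree, tail, C.G.xu_zero, Good.sl2Fam]

theorem centHom₀_lower (t : K) : centHom₀ θ (Fam.lower t) = reeN θ 0 (-t) 0 := by
  obtain ⟨-, -, n8, -, n10, -⟩ := negr_rt
  rw [centHom₀_apply,
    show Matrix.SpecialLinearGroup.map θ.toRingHom (Fam.lower t) = Fam.lower (θ t) from
      Subtype.ext (by ext i j; show θ ((Fam.lower t).1 i j) = _; fin_cases i <;> fin_cases j <;> simp [Fam.lower]),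
    rootHom, rootHom, Fam.hom_lower, Fam.hom_lower]
  show C.G.xu (C.G.negr (rt 8)) (θ t) * C.G.xu (C.G.negr (rt 10)) t = _
  rw [n8, n10]
  simp [reeN, ree, tail, C.G.xu_zero]

theorem centHom₀_neg_one (g : Matrix.SpecialLinearGroup (Fin 2) K) (hg : g.1 = -1) : centHom₀ θ g = 1 := by
  have hh : ∀ (r : Fin chevG2.nroots) (g : Matrix.SpecialLinearGroup (Fin 2) K), g.1 = -1 →
      rootHom r g = C.G.hd r (-1) := by
    intro r g hg
    show Fam.val _ g = _
    rw [Fam.val_eq_zero _ (a := -1) (b := 0) (by simp [hg]) (by simp [hg]) (by simp [hg]), zero_div,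
      Fam.x_zero, mul_one]
    exact (C.G.hE_eq r (-1 : Kˣ)).trans rfl
  rw [centHom₀_apply, hh _ _ (by ext i j; fin_cases i <;> fin_cases j <;> simp [hg]), hh _ _ hg]
  simp only [Good.hd, MonoidHom.comp_apply, MonoidHom.coe_mk, OneHom.coe_mk, ← map_mul]
  refine (congrArg C.G.tor (funext fun l => ?_)).trans (map_one _)
  have he : ∀ l, (C.G.pair (rt 8) l + C.G.pair (rt 10) l) % 2 = 0 := by decide +kernel
  obtain ⟨k, hk⟩ := Int.dvd_of_emod_eq_zero (he l)
  rw [Pi.mul_apply, ← zpow_add, hk, zpow_mul, zpow_two, neg_one_mul, neg_neg, one_zpow]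
  rfl

theorem centHom₀_mem {m : ℕ} (hθ : ∀ x, θ x = x ^ 3 ^ m) (g : Matrix.SpecialLinearGroup (Fin 2) K) :
    centHom₀ θ g ∈ twistedG2 K (3 ^ m) := by
  refine Fam.mem_gens (P := fun g => centHom₀ θ g ∈ twistedG2 K (3 ^ m))
    (fun a b ha hb => by rw [map_mul]; exact mul_mem ha hb)
    (fun t => by rw [centHom₀_upper]; exact reeP_mem θ hθ _ _ _) ?_ g
  rw [wel_eq, map_mul, map_mul,
    centHom₀_lower, centHom₀_upper]
  exact mul_mem (mul_mem (reeN_mem θ hθ _ _ _) (reeP_mem θ hθ _ _ _)) (reeN_mem θ hθ _ _ _)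

theorem even_sums : ∀ r ∈ [rt 8, rt 10, rt 3, rt 1], (∑ i, cart chevG2 i r) % 2 = 0 := by decide +kernel

/-- the image commutes with the involution of the torus -/
theorem centHom₀_commute (g : Matrix.SpecialLinearGroup (Fin 2) K) :
    Commute (C.G.torθ (par θ (-1))) (centHom₀ θ g) := by
  have hpar : ∀ i, par θ (-1) i = -1 := fun i => by
    obtain ⟨p0, p1⟩ := par_vals θ (-1 : Kˣ)
    rcases nd_cases i with rfl | rfl
    · rw [p0]; exact Units.ext (by simp)
    · exact p1
  have hx : ∀ r ∈ [rt 8, rt 10, rt 3, rt 1], ∀ t : K, Commute (C.G.torθ (par θ (-1))) (C.G.xu r t) := by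
    intro r hr t
    refine mul_inv_eq_iff_eq_mul.1 ?_
    rw [C.G.torθ_conj_xu]
    have : (∏ i, par θ (-1) i ^ cart chevG2 i r : Kˣ) = 1 := by
      simp only [hpar]
      obtain ⟨k, hk⟩ := Int.dvd_of_emod_eq_zero (even_sums r hr)
      have hu : (Finset.univ : Finset (Fin chevG2.rank)) = {nd 0, nd 1} := by decide +kernel
      have hd : (nd 0 : Fin chevG2.rank) ∉ ({nd 1} : Finset _) := by decide +kernel
      rw [hu, Finset.sum_insert hd, Finset.sum_singleton] at hk
      rw [hu, Finset.prod_insert hd, Finset.prod_singleton, ← zpow_add, hk, zpow_mul, zpow_two,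
        neg_one_mul, neg_neg, one_zpow]
    rw [this, Units.val_one, one_mul]
  obtain ⟨-, -, n8, -, n10, -⟩ := negr_rt
  refine Fam.mem_gens (P := fun g => Commute (C.G.torθ (par θ (-1))) (centHom₀ θ g))
    (fun a b ha hb => by rw [map_mul]; exact ha.mul_right hb)
    (fun t => by
      rw [centHom₀_upper]
      simp only [reeP, ree, tail, one_mul, map_zero, mul_zero, zero_mul, zero_add, C.G.xu_zero, mul_one]
      exact (hx _ (by simp) _).mul_right (hx _ (by simp) _)) ?_ g
  rw [wel_eq, map_mul, map_mul,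
    centHom₀_lower, centHom₀_upper]
  have hn : ∀ u, Commute (C.G.torθ (par θ (-1))) (reeN θ 0 u 0) := fun u => by
    simp only [reeN, ree, tail, map_zero, mul_zero, zero_mul, zero_add, C.G.xu_zero, mul_one, one_mul]
    exact (hx _ (by simp) _).mul_right (hx _ (by simp) _)
  have hp : ∀ u, Commute (C.G.torθ (par θ (-1))) (reeP θ 0 u 0) := fun u => by
    simp only [reeP, ree, tail, one_mul, map_zero, mul_zero, zero_mul, zero_add, C.G.xu_zero, mul_one]
    exact (hx _ (by simp) _).mul_right (hx _ (by simp) _)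
  exact ((hn _).mul_right (hp _)).mul_right (hn _)

end CfsgLib.Lie.Chev.TG2
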