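import Cfsg.Agent.Lib.Lie.Chev.Tw.Ree.Struct
import Mathlib.GroupTheory.Sylow
import Mathlib.GroupTheory.GroupAction.Quotient

/-!
# ²G₂(q): the torus, trivial intersections of conjugates of the unipotent group, three-point stabilisers
-/

set_option autoImplicit false
set_option maxRecDepth 100000

namespace CfsgLib.Lie.Chev

open Cfsg.Lie
open scoped MatrixGroups

namespace TG2

variable {K : Type*} [Field K] [Fintype K] {m : ℕ}

theorem mem_torus_iff (hK : Fintype.card K = 3 ^ (2 * m + 1)) :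
    ∃ _ : CharP K 3, ∃ θ : K ≃+* K, (∀ x, θ.symm x = θ x ^ 3) ∧
      (∀ g, g ∈ chevG2.diagonalSubgroup K ⊓ twistedG2 K (3 ^ m) ↔
        ∃ b : Kˣ, g = C.G.torθ (par θ b)) ∧
      ∀ g, g ∈ chevG2.posUnipotent K ⊓ twistedG2 K (3 ^ m) ↔ ∃ t u v, g = reeP θ t u v := by
  obtain ⟨hc, θ, hcu, hθ, hneg⟩ := exists_theta hK
  have P := twGp θ hcu hθ hneg
  refine ⟨hc, θ, hcu, fun g => ?_, fun g => ?_⟩
  · rw [P.H_eq]
    exact ⟨exists_par θ hcu, by
      rintro ⟨b, rfl⟩; exact (twist θ hcu).torθ_mem_Fix (par_fixed θ hcu b)⟩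
  · rw [P.U_eq, U_eq θ hcu]
    exact ⟨X_ree θ hcu, by
      rintro ⟨t, u, v, rfl⟩
      exact Subgroup.mem_inf.2 ⟨le_Fix θ hcu hθ (reeP_mem θ hθ t u v), reeP_mem_Uinv θ hcu t u v⟩⟩

/-- the torus is cyclic -/
theorem torus_cyclic (hK : Fintype.card K = 3 ^ (2 * m + 1)) :
    IsCyclic ↥(chevG2.diagonalSubgroup K ⊓ twistedG2 K (3 ^ m)) := by
  obtain ⟨hc, θ, hcu, hH, -⟩ := mem_torus_iff hK
  refine isCyclic_of_surjective (((C.G.torθ (K := K)).comp (parHom θ)).codRestrict _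
    fun b => (hH _).2 ⟨b, rfl⟩) fun g => ?_
  obtain ⟨b, hb⟩ := (hH g).1 g.2
  exact ⟨b, Subtype.ext hb.symm⟩

theorem odd_order_facts (hK : Fintype.card K = 3 ^ (2 * m + 1)) :
    2 * Nat.card {h : ↥(chevG2.diagonalSubgroup K ⊓ twistedG2 K (3 ^ m)) // Odd (orderOf h)} =
        3 ^ (2 * m + 1) - 1 ∧
      ∀ h ∈ (chevG2.diagonalSubgroup K ⊓ twistedG2 K (3 ^ m)), h ≠ 1 → Odd (orderOf h) →
        (chevG2.posUnipotent K ⊓ twistedG2 K (3 ^ m)) ⊓ Subgroup.centralizer {h} = ⊥ := by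
  classical
  obtain ⟨hc, θ, hcu, hH, hU⟩ := mem_torus_iff hK
  obtain ⟨k, hk⟩ : ∃ k, 3 ^ (2 * m + 1) = 4 * k + 3 := by
    refine ⟨3 ^ (2 * m + 1) / 4, ?_⟩
    have : 3 ^ (2 * m + 1) % 4 = 3 := by rw [pow_succ, pow_mul, Nat.mul_mod, Nat.pow_mod]; simp
    omega
  have hcard : Nat.card Kˣ = 2 * (2 * k + 1) := by
    rw [Nat.card_units, Nat.card_eq_fintype_card, hK, hk]; omega
  let f : Kˣ →* ↥(chevG2.diagonalSubgroup K ⊓ twistedG2 K (3 ^ m)) :=
    ((C.G.torθ (K := K)).comp (parHom θ)).codRestrict _ fun b => (hH _).2 ⟨b, rfl⟩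
  have hf : Function.Bijective f := ⟨fun a b e => torθ_par_injective θ (congrArg Subtype.val e),
    fun g => by obtain ⟨b, hb⟩ := (hH g).1 g.2; exact ⟨b, Subtype.ext hb.symm⟩⟩
  have hodd : ∀ b : Kˣ, Odd (orderOf b) ↔ b ∈ (powMonoidHom (2 * k + 1) : Kˣ →* Kˣ).ker := by
    intro b
    rw [MonoidHom.mem_ker, powMonoidHom_apply, ← orderOf_dvd_iff_pow_eq_one]
    refine ⟨fun h => ?_, fun h => Odd.of_dvd_nat ⟨k, rfl⟩ h⟩
    exact (Nat.coprime_two_right.2 h).dvd_of_dvd_mul_left (hcard ▸ orderOf_dvd_natCard b)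
  refine ⟨?_, fun h hh h1 hodd' => ?_⟩
  · have e : {b : Kˣ // b ∈ (powMonoidHom (2 * k + 1) : Kˣ →* Kˣ).ker} ≃
        {h : ↥(chevG2.diagonalSubgroup K ⊓ twistedG2 K (3 ^ m)) // Odd (orderOf h)} :=
      (Equiv.ofBijective f hf).subtypeEquiv fun b => by
        rw [← hodd b]; simp [orderOf_injective f hf.1]
    rw [← Nat.card_congr e]
    show 2 * Nat.card ↥((powMonoidHom (2 * k + 1) : Kˣ →* Kˣ).ker) = _
    rw [IsCyclic.card_powMonoidHom_ker, hcard, Nat.gcd_eq_right (dvd_mul_left _ _), hk]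
    omega
  · obtain ⟨b, rfl⟩ := (hH h).1 hh
    rw [eq_bot_iff]
    intro g hg
    obtain ⟨hg, hgc⟩ := Subgroup.mem_inf.1 hg
    obtain ⟨t, u, v, rfl⟩ := (hU g).1 hg
    rw [Subgroup.mem_bot]
    by_contra hne
    rcases eq_pm_one_of_commute θ hcu hne
      (Subgroup.mem_centralizer_iff.1 hgc _ (Set.mem_singleton _)) with rfl | rfl
    · exact h1 ((map_one ((C.G.torθ (K := K)).comp (parHom θ))))
    · have h2 := ((hodd (-1 : Kˣ)).1 (by
        have hi : Function.Injective ((C.G.torθ (K := K)).comp (parHom θ)) := torθ_par_injective θ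
        exact (orderOf_injective _ hi (-1 : Kˣ)) ▸ hodd'))
      rw [MonoidHom.mem_ker, powMonoidHom_apply, Odd.neg_one_pow ⟨k, rfl⟩] at h2
      have h3 : (-1 : K) = 1 := by simpa using congrArg Units.val h2
      have h4 : (3 : K) = 0 := by exact_mod_cast CharP.cast_eq_zero K 3
      exact one_ne_zero (α := K) (by linear_combination h4 + h3)

theorem card_order_three (hK : Fintype.card K = 3 ^ (2 * m + 1)) :
    Nat.card {u : ↥(chevG2.posUnipotent K ⊓ twistedG2 K (3 ^ m)) // orderOf u = 3} =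
      (3 ^ (2 * m + 1)) ^ 2 - 1 := by
  classical
  haveI := Fact.mk Nat.prime_three
  obtain ⟨hc, θ, hcu, -, hU⟩ := mem_torus_iff hK
  have hiff : ∀ t u v : K, ∀ h : reeP θ t u v ∈ chevG2.posUnipotent K ⊓ twistedG2 K (3 ^ m),
      orderOf (⟨reeP θ t u v, h⟩ : ↥(chevG2.posUnipotent K ⊓ twistedG2 K (3 ^ m))) = 3 ↔
        t = 0 ∧ (u, v) ≠ 0 := by
    intro t u v h
    rw [orderOf_eq_prime_iff, ← Subtype.coe_inj, SubmonoidClass.coe_pow, OneMemClass.coe_one,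
      reeP_cube θ hcu, Ne, ← Subtype.coe_inj, OneMemClass.coe_one, ← reeP_zero θ hcu]
    refine and_congr_right fun ht => not_congr ⟨fun e => ?_, fun e => ?_⟩
    · obtain ⟨-, rfl, rfl⟩ := reeP_inj θ hcu e; rfl
    · obtain ⟨rfl, rfl⟩ := Prod.ext_iff.1 e; show reeP θ t 0 0 = reeP θ 0 0 0; rw [ht]
  have e : {x : K × K // x ≠ 0} ≃
      {u : ↥(chevG2.posUnipotent K ⊓ twistedG2 K (3 ^ m)) // orderOf u = 3} :=
    Equiv.ofBijective
      (fun x => ⟨⟨reeP θ 0 x.1.1 x.1.2, (hU _).2 ⟨_, _, _, rfl⟩⟩, (hiff _ _ _ _).2 ⟨rfl, x.2⟩⟩)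
      ⟨fun x y h => by
        obtain ⟨-, h1, h2⟩ := reeP_inj θ hcu (congrArg (fun z => (z.1 : GL chevG2.Idx K)) h)
        exact Subtype.ext (Prod.ext h1 h2),
      fun ⟨⟨g, hg⟩, ho⟩ => by
        obtain ⟨t, u, v, rfl⟩ := (hU g).1 hg
        obtain ⟨rfl, h2⟩ := (hiff t u v hg).1 ho
        exact ⟨⟨(u, v), h2⟩, rfl⟩⟩
  rw [← Nat.card_congr e, Nat.card_eq_fintype_card, Fintype.card_subtype_compl,
    Fintype.card_subtype_eq, Fintype.card_prod, hK]
  ring_nf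

theorem Wp_cases [CharP K 3] (θ : K ≃+* K) (hcu : ∀ x, θ.symm x = θ x ^ 3)
    {π : Equiv.Perm (Fin chevG2.nroots)} (hπ : π ∈ Wp C.G (twist θ hcu).p) :
    π = 1 ∨ π = (orbits θ hcu).wO o0 := by
  refine (orbits θ hcu).induction_on
    (P := fun π => π = 1 ∨ π = (orbits θ hcu).wO o0) hπ (Or.inl rfl) ?_
  rintro π' - k - - ih
  obtain rfl := o_eq k
  rcases ih with rfl | rfl
  · exact Or.inr (one_mul _)
  · exact Or.inl ((orbits θ hcu).wO_mul_self _)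

/-- an element outside `B` conjugates `U` off itself; the points other than the base point form one
orbit of `U` -/
theorem moved_facts (hK : Fintype.card K = 3 ^ (2 * m + 1)) :
    ∃ n ∈ twistedG2 K (3 ^ m), n ∈ chevG2.monomialSubgroup K ∧
      (∀ g ∈ twistedG2 K (3 ^ m), g ∉ chevG2.borelSubgroup K →
        (∀ x ∈ chevG2.posUnipotent K ⊓ twistedG2 K (3 ^ m),
          g * x * g⁻¹ ∈ chevG2.posUnipotent K → x = 1) ∧
        ∃ u ∈ chevG2.posUnipotent K ⊓ twistedG2 K (3 ^ m), (u * n)⁻¹ * g ∈ chevG2.borelSubgroup K) ∧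
      n ∉ chevG2.borelSubgroup K ∧
      ∀ h ∈ chevG2.diagonalSubgroup K, n⁻¹ * h * n ∈ chevG2.borelSubgroup K ∧
        ∀ u ∈ chevG2.posUnipotent K, n⁻¹ * u * n ∈ chevG2.borelSubgroup K → u = 1 := by
  obtain ⟨hc, θ, hcu, hθ, hneg⟩ := exists_theta hK
  have P := twGp θ hcu hθ hneg
  set n := P.toPre.nk o0
  have hn := P.toPre.nk_perm o0
  have hninv : C.G.NPerm n⁻¹ ((orbits θ hcu).wO o0) := by
    have := Good.NPerm.inv C.G hn
    rwa [(orbits θ hcu).wO_inv] at this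
  have hUw := U_eq θ hcu (K := K)
  have hBV : ∀ {y : GL chevG2.Idx K}, y ∈ chevG2.borelSubgroup K → y ∈ chevG2.negUnipotent K →
      y = 1 := fun h1 h2 => Subgroup.mem_bot.1 (C.G.B_inf_V (K := K) ▸ Subgroup.mem_inf.2 ⟨h1, h2⟩)
  have hUB : chevG2.posUnipotent K ≤ chevG2.borelSubgroup K := fun x hx => Subgroup.mem_sup_left hx
  refine ⟨n, P.toPre.nk_mem o0, P.toPre.nk_monomial o0, fun g hg hgB => ?_, fun hnB => ?_,
    fun h hh => ?_⟩
  · obtain ⟨v, d, u, π, hv, hd, hπW, hπ, hu, e⟩ := (twist θ hcu).fix_bruhat (P.le hg)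
    have huU : u ∈ chevG2.posUnipotent K := C.G.Uinv_le _ hu.2
    rcases Wp_cases θ hcu hπW with h1 | h1
    · refine absurd ?_ hgB
      rw [e]
      refine mul_mem (mul_mem (hUB hv.2) (Subgroup.mem_sup_right
        (C.G.mem_H_of_nPerm_one hd.2 (h1 ▸ hπ)))) (hUB huU)
    rw [h1] at hπ
    refine ⟨fun x hx hgx => ?_, v, ⟨hv.2, P.toPre.U_le hv⟩, ?_⟩
    · have hy : u * x * u⁻¹ ∈ (Uinv C.G ((orbits θ hcu).wO o0) : Subgroup (GL chevG2.Idx K)) :=
        hUw ▸ mul_mem (mul_mem huU (Subgroup.mem_inf.1 hx).1) (inv_mem huU)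
      have h3 : d * (u * x * u⁻¹) * d⁻¹ ∈ chevG2.borelSubgroup K := by
        rw [show d * (u * x * u⁻¹) * d⁻¹ = v⁻¹ * (g * x * g⁻¹) * v by rw [e]; group]
        exact mul_mem (mul_mem (inv_mem (hUB hv.2)) (hUB hgx)) (hUB hv.2)
      have h4 := hBV h3 (C.G.conj_Uinv hπ _ hy)
      exact conj_eq_one_iff.1 (conj_eq_one_iff.1 h4)
    · rw [show (v * n)⁻¹ * g = n⁻¹ * d * u by rw [e]; group]
      refine mul_mem (Subgroup.mem_sup_right (C.G.mem_H_of_nPerm_one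
        (mul_mem (inv_mem (P.toPre.nk_monomial o0)) hd.2) ?_)) (hUB huU)
      have := Good.NPerm.mul C.G hninv hπ
      rwa [(orbits θ hcu).wO_mul_self] at this
  · have h1 := C.G.nPerm_H (K := K) (C.G.B_inf_N (K := K) ▸
      Subgroup.mem_inf.2 ⟨hnB, P.toPre.nk_monomial o0⟩ : n ∈ chevG2.diagonalSubgroup K)
    have h2 := Good.NPerm.unique C.G hn h1
    have h3 : ∀ o : Fin orbGraphG2.no, digit (orbGraphG2.tab.get o.val) 6 ≠ 6 := by decide +kernel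
    refine h3 o0 ?_
    show digit _ (rt 6).val = 6
    rw [← wO_val θ hcu o0 (rt 6), h2]
    rfl
  · refine ⟨Subgroup.mem_sup_right (C.G.mem_H_of_nPerm_one (mul_mem (mul_mem
      (inv_mem (P.toPre.nk_monomial o0)) (C.G.H_le_monomial hh)) (P.toPre.nk_monomial o0)) ?_),
      fun u hu huB => ?_⟩
    · have := Good.NPerm.mul C.G (Good.NPerm.mul C.G hninv (C.G.nPerm_H hh)) hn
      rwa [mul_one, (orbits θ hcu).wO_mul_self] at this
    · have h4 : n⁻¹ * u * n ∈ chevG2.negUnipotent K := by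
        have := C.G.conj_Uinv hninv u (hUw ▸ hu)
        rwa [inv_inv] at this
      exact conj_eq_one_iff.1 (show n⁻¹ * u * n⁻¹⁻¹ = 1 by rw [inv_inv]; exact hBV huB h4)

/-- distinct Sylow `3`-subgroups meet trivially -/
theorem sylow_three_inter (hK : Fintype.card K = 3 ^ (2 * m + 1))
    (P Q : Sylow 3 ↥(twistedG2 K (3 ^ m))) (hPQ : P ≠ Q) :
    (P : Subgroup ↥(twistedG2 K (3 ^ m))) ⊓ (Q : Subgroup ↥(twistedG2 K (3 ^ m))) = ⊥ := by
  classical
  haveI := Fact.mk Nat.prime_three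
  obtain ⟨n, -, -, hmove, -, -⟩ := moved_facts hK
  obtain ⟨-, ⟨-, hU⟩, -, hG, -⟩ := summary hK
  set U : Subgroup ↥(twistedG2 K (3 ^ m)) := (chevG2.posUnipotent K ⊓ (twistedG2 K (3 ^ m))).subgroupOf (twistedG2 K (3 ^ m)) with hUdef
  have hcard : Nat.card U = 3 ^ (3 * (2 * m + 1)) := by
    rw [hUdef, Nat.card_congr (Subgroup.subgroupOfEquivOfLe inf_le_right).toEquiv, hU, ← pow_mul,
      mul_comm]
  have hidx : ¬ 3 ∣ U.index := by
    have h := Subgroup.card_mul_index U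
    rw [hcard, hG, show 3 * (2 * m + 1) = (2 * m + 1) * 3 by ring, pow_mul, mul_assoc] at h
    rw [Nat.eq_of_mul_eq_mul_left (by positivity) h]
    obtain ⟨r, hr, hr'⟩ : ∃ r, r ≠ 0 ∧ 2 * m + 1 = r := ⟨_, Nat.succ_ne_zero _, rfl⟩
    rw [hr']
    intro h3
    have h31 : 1 ≤ 3 ^ r := Nat.one_le_pow _ _ (by norm_num)
    rcases (Nat.Prime.dvd_mul Nat.prime_three).1 h3 with h3 | h3
    · have : 3 ∣ 3 ^ r := dvd_pow_self 3 hr
      omega
    · have : 3 ∣ (3 ^ r) ^ 3 := dvd_pow (dvd_pow_self 3 hr) (by norm_num)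
      omega
  let S : Sylow 3 ↥(twistedG2 K (3 ^ m)) := (IsPGroup.of_card hcard).toSylow hidx
  obtain ⟨g₁, hP⟩ := MulAction.exists_smul_eq ↥(twistedG2 K (3 ^ m)) S P
  obtain ⟨g₂, hQ⟩ := MulAction.exists_smul_eq ↥(twistedG2 K (3 ^ m)) S Q
  rw [eq_bot_iff]
  intro x hx
  obtain ⟨hx1, hx2⟩ := Subgroup.mem_inf.1 hx
  rw [← hP, Sylow.coe_subgroup_smul, Subgroup.mem_pointwise_smul_iff_inv_smul_mem] at hx1
  rw [← hQ, Sylow.coe_subgroup_smul, Subgroup.mem_pointwise_smul_iff_inv_smul_mem] at hx2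
  simp only [MulAut.smul_def, ← map_inv, MulAut.conj_apply, inv_inv] at hx1 hx2
  have hgB : ((g₁⁻¹ * g₂ : ↥(twistedG2 K (3 ^ m))) : GL chevG2.Idx K) ∉ chevG2.borelSubgroup K := by
    intro hB
    refine hPQ ?_
    rw [← hP, ← hQ]
    have hnorm : g₁⁻¹ * g₂ ∈ Subgroup.normalizer (U : Set ↥(twistedG2 K (3 ^ m))) := by
      rw [Subgroup.mem_normalizer_iff]
      intro y
      have hN : chevG2.borelSubgroup K ≤ Subgroup.normalizer (chevG2.posUnipotent K : Set _) :=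
        sup_le Subgroup.le_normalizer C.G.H_normalizes_U
      have := Subgroup.mem_normalizer_iff.1 (hN hB) (y : GL chevG2.Idx K)
      simp only [hUdef, Subgroup.mem_subgroupOf, Subgroup.mem_inf, Subgroup.coe_mul, Subgroup.coe_inv]
      exact ⟨fun h => ⟨this.1 h.1, mul_mem (mul_mem (mul_mem (inv_mem g₁.2) g₂.2) y.2)
        (inv_mem (mul_mem (inv_mem g₁.2) g₂.2))⟩, fun h => ⟨this.2 h.1, y.2⟩⟩
    have hfix : (g₁⁻¹ * g₂) • S = S := Sylow.smul_eq_iff_mem_normalizer.2 hnorm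
    calc g₁ • S = g₁ • ((g₁⁻¹ * g₂) • S) := by rw [hfix]
      _ = g₂ • S := by rw [smul_smul, mul_inv_cancel_left]
  have h2 : g₂⁻¹ * x * g₂ ∈ U := hx2
  have h1 : (g₁⁻¹ * g₂) * (g₂⁻¹ * x * g₂) * (g₁⁻¹ * g₂)⁻¹ ∈ U := by
    rw [show (g₁⁻¹ * g₂) * (g₂⁻¹ * x * g₂) * (g₁⁻¹ * g₂)⁻¹ = g₁⁻¹ * x * g₁ by group]
    exact hx1
  rw [hUdef, Subgroup.mem_subgroupOf] at h1 h2
  have h5 := (hmove _ (g₁⁻¹ * g₂).2 hgB).1 _ h2 (Subgroup.mem_inf.1 h1).1
  rw [← OneMemClass.coe_one (twistedG2 K (3 ^ m)), Subtype.coe_inj, ← inv_inv g₂] at h5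
  rw [Subgroup.mem_bot]
  simpa using conj_eq_one_iff.1 (show g₂⁻¹ * x * g₂⁻¹⁻¹ = 1 by simpa using h5)

/-- three-point stabilisers -/
theorem three_points (hK : Fintype.card K = 3 ^ (2 * m + 1)) :
    let Γ := twistedG2 K (3 ^ m)
    let B := ((chevG2.borelSubgroup K ⊓ Γ)).subgroupOf Γ
    (∀ x y z : ↥Γ ⧸ B, x ≠ y → x ≠ z → y ≠ z →
        Nat.card ↥(MulAction.stabilizer ↥Γ x ⊓ MulAction.stabilizer ↥Γ y ⊓ MulAction.stabilizer ↥Γ z) ≤ 2) ∧
      ∃ x y z : ↥Γ ⧸ B, x ≠ y ∧ x ≠ z ∧ y ≠ z ∧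
        Nat.card ↥(MulAction.stabilizer ↥Γ x ⊓ MulAction.stabilizer ↥Γ y ⊓ MulAction.stabilizer ↥Γ z) = 2 := by
  classical
  intro Γ B
  obtain ⟨n, hn, -, hmove, hnB, hconj⟩ := moved_facts hK
  obtain ⟨hc, θ, hcu, hH, hU⟩ := mem_torus_iff hK
  let n' : ↥Γ := ⟨n, hn⟩
  let base : ↥Γ ⧸ B := QuotientGroup.mk 1
  have memB : ∀ {g : ↥Γ}, g ∈ B ↔ (g : GL chevG2.Idx K) ∈ chevG2.borelSubgroup K := fun {g} => by
    simp [B, Subgroup.mem_subgroupOf, Subgroup.mem_inf]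
  have hstab : ∀ g h : ↥Γ, g ∈ MulAction.stabilizer ↥Γ (QuotientGroup.mk h : ↥Γ ⧸ B) ↔
      h⁻¹ * g * h ∈ B := fun g h => by
    rw [MulAction.mem_stabilizer_iff, MulAction.Quotient.smul_mk, smul_eq_mul, eq_comm,
      QuotientGroup.eq, ← mul_assoc]
  -- the stabiliser of the two base points and a third one
  have key : ∀ (u : ↥Γ), (u : GL chevG2.Idx K) ∈ chevG2.posUnipotent K → u ≠ 1 → ∀ g : ↥Γ,
      g ∈ MulAction.stabilizer ↥Γ base ⊓ MulAction.stabilizer ↥Γ (QuotientGroup.mk n' : ↥Γ ⧸ B) ⊓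
        MulAction.stabilizer ↥Γ (QuotientGroup.mk (u * n') : ↥Γ ⧸ B) ↔
      ∃ b : Kˣ, (g : GL chevG2.Idx K) = C.G.torθ (par θ b) ∧
        Commute (C.G.torθ (par θ b)) (u : GL chevG2.Idx K) := by
    intro u hu hu1 g
    simp only [Subgroup.mem_inf, base, hstab, memB, Subgroup.coe_mul, Subgroup.coe_inv,
      OneMemClass.coe_one, inv_one, one_mul, mul_one]
    constructor
    · rintro ⟨⟨h1, h2⟩, h3⟩
      have h2 : n⁻¹ * (g : GL chevG2.Idx K) * n ∈ chevG2.borelSubgroup K := h2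
      have h3 : ((u : GL chevG2.Idx K) * n)⁻¹ * g * ((u : GL chevG2.Idx K) * n) ∈
          chevG2.borelSubgroup K := h3
      obtain ⟨w, hw, d, hd, e⟩ := C.G.mem_borel_iff.1 h1
      have hw1 : w = 1 := by
        refine (hconj d hd).2 w hw ?_
        rw [show n⁻¹ * w * n = (n⁻¹ * (g : GL chevG2.Idx K) * n) * (n⁻¹ * d * n)⁻¹ by
          rw [e]; group]
        exact mul_mem h2 (inv_mem (hconj d hd).1)
      rw [hw1, one_mul] at e
      obtain ⟨b, hb⟩ := (hH _).1 (Subgroup.mem_inf.2 ⟨e ▸ hd, g.2⟩)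
      refine ⟨b, hb, ?_⟩
      rw [← hb]
      have hd' : (g : GL chevG2.Idx K) ∈ chevG2.diagonalSubgroup K := e ▸ hd
      have hcm : (u : GL chevG2.Idx K)⁻¹ * (g * u * (g : GL chevG2.Idx K)⁻¹) = 1 := by
        refine (hconj _ hd').2 _ (mul_mem (inv_mem hu)
          ((Subgroup.mem_normalizer_iff.1 (C.G.H_normalizes_U hd') _).1 hu)) ?_
        rw [show n⁻¹ * ((u : GL chevG2.Idx K)⁻¹ * (g * u * (g : GL chevG2.Idx K)⁻¹)) * n =
          ((u : GL chevG2.Idx K) * n)⁻¹ * g * ((u : GL chevG2.Idx K) * n) *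
            (n⁻¹ * g * n)⁻¹ by group]
        exact mul_mem h3 (inv_mem h2)
      rw [inv_mul_eq_one, eq_mul_inv_iff_mul_eq] at hcm
      exact hcm.symm
    · rintro ⟨b, hb, hcm⟩
      have hd := (Subgroup.mem_inf.1 ((hH _).2 ⟨b, rfl⟩)).1
      rw [hb]
      refine ⟨⟨Subgroup.mem_sup_right hd, (hconj _ hd).1⟩, ?_⟩
      show ((u : GL chevG2.Idx K) * n)⁻¹ * _ * ((u : GL chevG2.Idx K) * n) ∈ _
      rw [show ((u : GL chevG2.Idx K) * n)⁻¹ * C.G.torθ (par θ b) * ((u : GL chevG2.Idx K) * n) =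
        n⁻¹ * ((u : GL chevG2.Idx K)⁻¹ * (C.G.torθ (par θ b) * u)) * n by group, hcm.eq,
        inv_mul_cancel_left]
      exact (hconj _ hd).1
  have h1ne : (-1 : Kˣ) ≠ 1 := fun h => by
    have h4 : (3 : K) = 0 := by exact_mod_cast CharP.cast_eq_zero K 3
    have h3 : (-1 : K) = 1 := by simpa using congrArg Units.val h
    exact one_ne_zero (α := K) (by linear_combination h4 + h3)
  have hle : ∀ u : ↥Γ, (u : GL chevG2.Idx K) ∈ chevG2.posUnipotent K → u ≠ 1 →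
      Nat.card ↥(MulAction.stabilizer ↥Γ base ⊓ MulAction.stabilizer ↥Γ (QuotientGroup.mk n' : ↥Γ ⧸ B) ⊓
        MulAction.stabilizer ↥Γ (QuotientGroup.mk (u * n') : ↥Γ ⧸ B)) ≤ 2 := by
    intro u hu hu1
    obtain ⟨t, a, v, e⟩ := (hU _).1 (Subgroup.mem_inf.2 ⟨hu, u.2⟩)
    refine le_trans (Nat.card_le_card_of_injective
      (β := ({1, -1} : Finset Kˣ)) (fun g => ⟨((key u hu hu1 g).1 g.2).choose, ?_⟩) ?_)
      (by rw [Nat.card_eq_fintype_card, Fintype.card_coe]; exact Finset.card_le_two)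
    · obtain ⟨-, hcm⟩ := ((key u hu hu1 g).1 g.2).choose_spec
      have hne : reeP θ t a v ≠ 1 := fun h => hu1 (Subtype.ext (e.trans h))
      simpa using eq_pm_one_of_commute θ hcu hne
        ((congrArg (C.G.torθ (par θ _) * ·) e).symm.trans (hcm.eq.trans (congrArg (· * C.G.torθ (par θ _)) e)))
    · intro g g' h
      obtain ⟨h1, -⟩ := ((key u hu hu1 g).1 g.2).choose_spec
      obtain ⟨h2, -⟩ := ((key u hu hu1 g').1 g'.2).choose_spec
      exact Subtype.ext (Subtype.ext (h1.trans ((congrArg (fun b : {x // x ∈ ({1, -1} : Finset Kˣ)} =>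
        C.G.torθ (par θ b.1)) h).trans h2.symm)))
  have hother : ∀ z : ↥Γ ⧸ B, z ≠ base → ∃ u : ↥Γ,
      (u : GL chevG2.Idx K) ∈ chevG2.posUnipotent K ∧ z = QuotientGroup.mk (u * n') := by
    intro z hz
    obtain ⟨g, rfl⟩ := QuotientGroup.mk_surjective z
    have hg : (g : GL chevG2.Idx K) ∉ chevG2.borelSubgroup K := fun h =>
      hz (QuotientGroup.eq.2 (by rw [mul_one]; exact inv_mem (memB.2 h)))
    obtain ⟨u, hu, hu'⟩ := (hmove g g.2 hg).2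
    refine ⟨⟨u, (Subgroup.mem_inf.1 hu).2⟩, (Subgroup.mem_inf.1 hu).1, (QuotientGroup.eq.2 ?_).symm⟩
    exact memB.2 hu'
  refine ⟨fun x y z hxy hxz hyz => ?_, ?_⟩
  · obtain ⟨g, rfl⟩ := MulAction.exists_smul_eq ↥Γ base x
    obtain ⟨u, hu, hyu⟩ := hother (g⁻¹ • y) fun h => hxy (by rw [← h, smul_inv_smul])
    obtain ⟨w, hw, hzw⟩ := hother (g⁻¹ • z) fun h => hxz (by rw [← h, smul_inv_smul])
    have hy : y = (g * u) • (QuotientGroup.mk n' : ↥Γ ⧸ B) := by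
      rw [MulAction.Quotient.smul_mk, smul_eq_mul, mul_assoc]
      exact (eq_inv_smul_iff.1 hyu.symm).symm
    have hz : z = (g * u) • (QuotientGroup.mk (u⁻¹ * w * n') : ↥Γ ⧸ B) := by
      rw [MulAction.Quotient.smul_mk, smul_eq_mul, show g * u * (u⁻¹ * w * n') = g * (w * n') by group]
      exact (eq_inv_smul_iff.1 hzw.symm).symm
    have hb : base = u • base := by
      rw [MulAction.Quotient.smul_mk, smul_eq_mul, mul_one]
      exact QuotientGroup.eq.2 (by rw [inv_one, one_mul]; exact memB.2 (Subgroup.mem_sup_left hu))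
    have hx : g • base = (g * u) • base := by rw [mul_smul, ← hb]
    have hne : u⁻¹ * w ≠ 1 := fun h => hyz (by
      rw [hy, hz, h, one_mul])
    rw [hx, hy, hz, MulAction.stabilizer_smul_eq_stabilizer_map_conj,
      MulAction.stabilizer_smul_eq_stabilizer_map_conj,
      MulAction.stabilizer_smul_eq_stabilizer_map_conj, ← Subgroup.map_inf _ _ _ (MulEquiv.injective _),
      ← Subgroup.map_inf _ _ _ (MulEquiv.injective _),
      Subgroup.card_map_of_injective (MulEquiv.injective _)]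
    exact hle _ (by
      rw [Subgroup.coe_mul, Subgroup.coe_inv]; exact mul_mem (inv_mem hu) hw) hne
  · obtain ⟨hmem, hmem'⟩ := Subgroup.mem_inf.1 ((hU _).2 ⟨0, 1, 0, rfl⟩ :
      reeP θ (0 : K) 1 0 ∈ chevG2.posUnipotent K ⊓ Γ)
    let u : ↥Γ := ⟨reeP θ (0 : K) 1 0, hmem'⟩
    have hu1 : u ≠ 1 := fun h => by
      have := (congrArg Subtype.val h).trans (reeP_zero θ hcu).symm
      exact one_ne_zero (reeP_inj θ hcu this).2.1
    have hn0 : base ≠ (QuotientGroup.mk n' : ↥Γ ⧸ B) := fun h => hnB (by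
      have h' := memB.1 (QuotientGroup.eq.1 h)
      simpa using h')
    refine ⟨base, QuotientGroup.mk n', QuotientGroup.mk (u * n'), hn0, fun h => ?_, fun h => ?_, ?_⟩
    · refine hn0 ?_
      have hb : base = u • base := by
        rw [MulAction.Quotient.smul_mk, smul_eq_mul, mul_one]
        exact QuotientGroup.eq.2 (by rw [inv_one, one_mul]; exact memB.2 (Subgroup.mem_sup_left hmem))
      refine MulAction.injective u (α := ↥Γ) ?_
      show u • base = u • (QuotientGroup.mk n' : ↥Γ ⧸ B)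
      rw [← hb]; exact h
    · refine hu1 (Subtype.ext ?_)
      have h' := memB.1 (QuotientGroup.eq.1 h)
      exact (hconj 1 (one_mem _)).2 _ hmem (by simpa [n', mul_assoc] using h')
    · refine le_antisymm (hle u hmem hu1) ?_
      obtain ⟨hH1, hH1'⟩ := Subgroup.mem_inf.1 ((hH _).2 ⟨-1, rfl⟩ :
        C.G.torθ (par θ (-1 : Kˣ)) ∈ _ ⊓ Γ)
      have hcm : Commute (C.G.torθ (par θ (-1 : Kˣ))) (reeP θ (0 : K) 1 0) := by
        refine mul_inv_eq_iff_eq_mul.1 ((tor_conj_reeP θ hcu (-1) 0 1 0).trans ?_)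
        congr 1 <;> simp [neg_pow, pow_succ]
      have hg : (⟨_, hH1'⟩ : ↥Γ) ∈ MulAction.stabilizer ↥Γ base ⊓
          MulAction.stabilizer ↥Γ (QuotientGroup.mk n' : ↥Γ ⧸ B) ⊓
            MulAction.stabilizer ↥Γ (QuotientGroup.mk (u * n') : ↥Γ ⧸ B) :=
        (key u hmem hu1 _).2 ⟨-1, rfl, hcm⟩
      refine Finite.one_lt_card_iff_nontrivial.2 ⟨⟨⟨_, hg⟩, 1, fun h => h1ne ?_⟩⟩
      refine torθ_par_injective θ ?_
      show C.G.torθ (par θ (-1)) = C.G.torθ (par θ 1)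
      rw [show C.G.torθ (par θ (1 : Kˣ)) = 1 from map_one ((C.G.torθ (K := K)).comp (parHom θ))]
      exact congrArg (fun x => (x.1 : GL chevG2.Idx K)) h

end TG2

end CfsgLib.Lie.Chev
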