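import Cfsg.Agent.Lib.Lie.Chev.Tw.Ree.Cent

/-!
# ²G₂(q): the representation of degree seven on the ideal of the short roots
-/

set_option autoImplicit false
set_option maxRecDepth 100000
set_option linter.unusedSectionVars false

namespace CfsgLib.Lie.Chev.TG2

open Cfsg.Lie
open scoped MatrixGroups

/-- the coordinates of the ideal -/
def shortI : chevG2.Idx → Bool
  | Sum.inl i => i.val == 0
  | Sum.inr r => [2, 3, 4, 7, 8, 9].contains r.val

/-- the index set -/
abbrev SI : Type := {i : chevG2.Idx // shortI i = true}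

theorem card_SI : Fintype.card SI = 7 := by decide +kernel

theorem tab_cartan : ∀ u : Fin chevG2.nroots, shortI (Sum.inr u) = false → ∀ i : Fin chevG2.rank,
    shortI (Sum.inl i) = true → ((chevG2.cartanSR.getD i.val #[]).getD u.val 0) % 3 = 0 := by decide +kernel

theorem tab_coroot : ∀ r : Fin chevG2.nroots, ∀ s : Fin chevG2.nroots, shortI (Sum.inr s) = true →
    s.val = chevG2.negIdx.getD r.val 0 → shortI (Sum.inr r) = true ∧ ∀ i : Fin chevG2.rank,
      shortI (Sum.inl i) = false → ((chevG2.coroot.getD r.val #[]).getD i.val 0) % 3 = 0 := by decide +kernel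

theorem tab_chain : ∀ r s u : Fin chevG2.nroots, shortI (Sum.inr s) = true → shortI (Sum.inr u) = false →
    (chevG2.chainCoeff r.val s.val u.val).all (fun km => km.2 % 3 == 0) = true := by decide +kernel

variable {K : Type*} [Field K] [Fintype K] [CharP K 3]

theorem int_cast_zero {z : ℤ} (h : z % 3 = 0) : (z : K) = 0 :=
  (CharP.intCast_eq_zero_iff K 3 z).2 (Int.dvd_of_emod_eq_zero h)

theorem xMat_short (r : Fin chevG2.nroots) (t : K) (i j : chevG2.Idx) (hj : shortI j = true) (hi : shortI i = false) :
    chevG2.xMat K r t i j = 0 := by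
  unfold ChevalleyDatum.xMat
  rw [Matrix.of_apply]
  rcases j with a | s
  · rcases i with b | u
    · dsimp only
      rw [if_neg]
      rintro rfl; rw [hj] at hi; exact Bool.noConfusion hi
    · dsimp only
      split_ifs with h
      · subst h; rw [int_cast_zero (tab_cartan _ hi a hj)]; simp
      · rfl
  · have hne : ∀ u, shortI (Sum.inr u) = false → u ≠ s := fun u hu e => by rw [e, hj] at hu; exact Bool.noConfusion hu
    dsimp only
    split_ifs with h1 h2
    · subst h1
      rcases i with b | u
      · rfl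
      · exact if_neg (hne u hi)
    · obtain ⟨hr, hc⟩ := tab_coroot r s hj h2
      rcases i with b | u
      · dsimp only; rw [int_cast_zero (hc b hi)]; simp
      · dsimp only
        rw [if_neg (hne u hi), if_neg]
        intro e; rw [e, hr] at hi; exact Bool.noConfusion hi
    · rcases i with b | u
      · rfl
      · dsimp only
        rw [if_neg (hne u hi), zero_add]
        refine List.sum_eq_zero fun x hx => ?_
        obtain ⟨km, hkm, rfl⟩ := List.mem_map.1 hx
        have h3 := List.all_eq_true.1 (tab_chain r s u hj hi) km hkm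
        rw [int_cast_zero (by simpa using h3), zero_mul]

variable (K) in
/-- the stabiliser of the ideal, as a monoid -/
def shortM : Submonoid (GL chevG2.Idx K) where
  carrier := {g | ∀ i j, shortI j = true → shortI i = false → (g : Matrix chevG2.Idx chevG2.Idx K) i j = 0}
  one_mem' := fun i j hj hi => by
    rw [Units.val_one, Matrix.one_apply_ne]
    rintro rfl; rw [hj] at hi; exact Bool.noConfusion hi
  mul_mem' := fun {a b} ha hb i j hj hi => by
    rw [Units.val_mul, Matrix.mul_apply]
    refine Finset.sum_eq_zero fun k _ => ?_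
    cases hk : shortI k
    · rw [hb k j hj hk, mul_zero]
    · rw [ha i k hk hi, zero_mul]

variable (K) in
/-- the stabiliser of the ideal -/
def shortG : Subgroup (GL chevG2.Idx K) where
  toSubmonoid := shortM K
  inv_mem' := fun {g} hg => by
    haveI : Finite (GL chevG2.Idx K) := Finite.of_injective (fun X => (X.1 : Matrix _ _ K)) Units.val_injective
    have e : g⁻¹ = g ^ (orderOf g - 1) := by
      rw [inv_eq_iff_mul_eq_one, ← pow_succ', Nat.sub_add_cancel (orderOf_pos g), pow_orderOf_eq_one]
    show g⁻¹ ∈ shortM K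
    rw [e]
    exact pow_mem hg _

theorem group_le_shortG : chevG2.group K ≤ shortG K := by
  refine (Subgroup.closure_le _).2 ?_
  rintro g ⟨r, t, h⟩ i j hj hi
  rw [h]
  exact xMat_short r t i j hj hi

/-- the block of the ideal, on matrices -/
def shortMat : ↥(shortG K) →* Matrix SI SI K where
  toFun g := ((g : GL chevG2.Idx K) : Matrix chevG2.Idx chevG2.Idx K).submatrix Subtype.val Subtype.val
  map_one' := by
    ext i j
    simp [Matrix.one_apply, Subtype.ext_iff]
  map_mul' a b := by
    ext i j
    simp only [Matrix.submatrix_apply, Subgroup.coe_mul, Units.val_mul, Matrix.mul_apply]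
    rw [← Finset.sum_subtype (Finset.univ.filter fun k => shortI k = true) (by simp)
      (fun k => (a : GL chevG2.Idx K).1 i.1 k * (b : GL chevG2.Idx K).1 k j.1)]
    refine (Finset.sum_subset (Finset.filter_subset _ _) fun k _ hk => ?_).symm
    rw [Finset.mem_filter] at hk
    rw [b.2 k j.1 j.2 (by simpa using hk), mul_zero]

variable {θ : K ≃+* K} {m : ℕ} (R : Ree θ m)

include R in
theorem twisted_le_group : twistedG2 K (3 ^ m) ≤ chevG2.group K :=
  R.gp.le.trans (twist θ R.cu).Fix_le

/-- the representation -/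
noncomputable def sevenHom (R : Ree θ m) : ↥(twistedG2 K (3 ^ m)) →* GL SI K :=
  shortMat.toHomUnits.comp (Subgroup.inclusion ((twisted_le_group R).trans group_le_shortG))

theorem he_not_mem_ker {b : Kˣ} (hb : b ≠ 1) : he R b ∉ (sevenHom R).ker := by
  intro h
  set T : ↥(shortG K) := ⟨C.G.torθ (par θ b), group_le_shortG (twisted_le_group R (he R b).2)⟩ with hT
  have h1 : shortMat T = 1 := congrArg Units.val (MonoidHom.mem_ker.1 h)
  set X : K → ↥(shortG K) := fun t => ⟨C.G.xu (rt 9) t, group_le_shortG (C.G.xu_mem _ _)⟩ with hX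
  have hchr : (∏ i, par θ b i ^ cart chevG2 i (rt 9) : Kˣ) = par θ b (nd 0) := by
    have hu : (Finset.univ : Finset (Fin chevG2.rank)) = {nd 0, nd 1} := by decide +kernel
    have hd : (nd 0 : Fin chevG2.rank) ∉ ({nd 1} : Finset _) := by decide +kernel
    have hc : cart chevG2 (nd 0) (rt 9) = 1 ∧ cart chevG2 (nd 1) (rt 9) = 0 := by decide +kernel
    rw [hu, Finset.prod_insert hd, Finset.prod_singleton, hc.1, hc.2, zpow_one, zpow_zero, mul_one]
  have h2 : T * X 1 * T⁻¹ = X ((par θ b (nd 0) : K) * 1) := Subtype.ext (by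
    simp only [hT, hX, Subgroup.coe_mul, Subgroup.coe_inv]
    rw [C.G.torθ_conj_xu, hchr])
  have h3 := congrArg shortMat h2
  have h4 : shortMat T⁻¹ = 1 := by
    have := congrArg shortMat (mul_inv_cancel T)
    rwa [map_mul, map_one, h1, one_mul] at this
  rw [map_mul, map_mul, h1, h4, one_mul, mul_one, mul_one] at h3
  have hi : shortI (Sum.inr (rt 9)) = true := by decide +kernel
  have hj : shortI (Sum.inl (nd 0) : chevG2.Idx) = true := by decide +kernel
  have hz : ((chevG2.cartanSR.getD (nd 0 : Fin chevG2.rank).val #[]).getD (rt 9 : Fin chevG2.nroots).val 0) = 1 := by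
    decide +kernel
  have hx : ∀ t : K, (shortMat (X t)) ⟨Sum.inr (rt 9), hi⟩ ⟨Sum.inl (nd 0), hj⟩ = -t := by
    intro t
    show (C.G.xu (rt 9) t : Matrix chevG2.Idx chevG2.Idx K) (Sum.inr (rt 9)) (Sum.inl (nd 0)) = _
    rw [← C.G.x_eq_xu, ChevalleyDatum.x, dif_pos (Fin.isLt _)]
    unfold ChevalleyDatum.xMat
    rw [Matrix.of_apply]
    dsimp only
    rw [if_pos (Fin.ext rfl), hz]
    simp
  have h5 := congrFun (congrFun h3 ⟨Sum.inr (rt 9), hi⟩) ⟨Sum.inl (nd 0), hj⟩
  rw [hx, hx, neg_inj] at h5
  refine hb (Units.ext (θ.injective ?_))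
  rw [Units.val_one, map_one, h5]
  simp [(par_vals θ b).1]

theorem sevenHom_injective (hm : 1 ≤ m) : Function.Injective (sevenHom R) := by
  haveI := (summary2 (K := K) hm R.big).2.1
  rcases Subgroup.Normal.eq_bot_or_eq_top (H := (sevenHom R).ker) inferInstance with h | h
  · exact (MonoidHom.ker_eq_bot_iff _).1 h
  · exfalso
    have hne : (-1 : Kˣ) ≠ 1 := fun e => by
      have h2 : (-1 : K) = 1 := by simpa using congrArg Units.val e
      have h3 : (3 : K) = 0 := by exact_mod_cast CharP.cast_eq_zero K 3
      exact one_ne_zero (α := K) (by linear_combination h2 + h3)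
    exact he_not_mem_ker R hne (by rw [h]; trivial)

end CfsgLib.Lie.Chev.TG2
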