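import Cfsg.Agent.Lib.Lie.Chev.Tw.Ree.Tori.Main
import Cfsg.Agent.Lib.Perm.OddProductPSL

/-!
# ²G₂(q): solvable subgroups lie in local normalisers

A nontrivial solvable subgroup normalises an elementary abelian subgroup; normalisers of these are
contained in normalisers of Sylow subgroups or of the cyclic tori.
-/

set_option autoImplicit false
set_option maxRecDepth 100000

namespace CfsgLib.Lie.ReeSolv

variable {G : Type*} [Group G]

/-- the derived series of a subgroup inside the group -/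
def subSeries (T : Subgroup G) : ℕ → Subgroup G
  | 0 => T
  | n + 1 => ⁅subSeries T n, subSeries T n⁆

theorem subSeries_eq_map (T : Subgroup G) (n : ℕ) :
    subSeries T n = (derivedSeries T n).map T.subtype := by
  induction n with
  | zero => rw [derivedSeries_zero, ← MonoidHom.range_eq_map, Subgroup.range_subtype]; rfl
  | succ n ih =>
    show ⁅subSeries T n, subSeries T n⁆ = _
    rw [derivedSeries_succ, Subgroup.map_commutator, ih]

theorem subSeries_le (T : Subgroup G) (n : ℕ) : subSeries T n ≤ T := by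
  rw [subSeries_eq_map]
  exact Subgroup.map_subtype_le _

theorem subSeries_norm {S T : Subgroup G} (hN : S ≤ Subgroup.normalizer (T : Set G)) (n : ℕ) :
    S ≤ Subgroup.normalizer (subSeries T n : Set G) := by
  induction n with
  | zero => exact hN
  | succ n ih =>
    intro g hg
    have h := Subgroup.mem_normalizer_iff_map_conj_eq.1 (ih hg)
    rw [Subgroup.mem_normalizer_iff_map_conj_eq]
    show Subgroup.map _ ⁅subSeries T n, subSeries T n⁆ = ⁅subSeries T n, subSeries T n⁆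
    rw [Subgroup.map_commutator, h]

/-- a solvable group normalising a nontrivial subgroup of itself normalises an elementary abelian one
inside it -/
theorem exists_elementary_le [Finite G] {S T : Subgroup G} (hS : Group.IsSolvable S) (hTS : T ≤ S)
    (hN : S ≤ Subgroup.normalizer (T : Set G)) (hT : T ≠ ⊥) :
    ∃ (r : ℕ) (E : Subgroup G), r.Prime ∧ E ≠ ⊥ ∧ E ≤ T ∧ S ≤ Subgroup.normalizer (E : Set G) ∧
      (∀ a ∈ E, ∀ b ∈ E, a * b = b * a) ∧ ∀ a ∈ E, a ^ r = 1 := by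
  classical
  haveI := hS
  haveI : Group.IsSolvable T :=
    Group.isSolvable_of_isSolvable_injective (Subgroup.inclusion_injective hTS)
  have hex : ∃ n, subSeries T n = ⊥ := by
    obtain ⟨n, hn⟩ := (Group.isSolvable_def T).1 inferInstance
    exact ⟨n, by rw [subSeries_eq_map, hn, Subgroup.map_bot]⟩
  obtain ⟨k, hk⟩ : ∃ k, Nat.find hex = k + 1 :=
    ⟨Nat.find hex - 1, (Nat.succ_pred_eq_of_ne_zero fun h => hT (by
      have h' := Nat.find_spec hex; rw [h] at h'; exact h')).symm⟩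
  have hA : subSeries T k ≠ ⊥ := Nat.find_min hex (by omega)
  have hcomm : ∀ a ∈ subSeries T k, ∀ b ∈ subSeries T k, a * b = b * a := fun a ha b hb => by
    have h := Nat.find_spec hex
    rw [hk] at h
    exact commutatorElement_eq_one_iff_mul_comm.1
      (Subgroup.mem_bot.1 (h.le (Subgroup.commutator_mem_commutator ha hb)))
  obtain ⟨r, hr, hrd⟩ := Nat.exists_prime_and_dvd
    (fun h => hA (Subgroup.card_eq_one.1 h) : Nat.card (subSeries T k) ≠ 1)
  haveI := Fact.mk hr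
  let E : Subgroup G :=
    { carrier := {a | a ∈ subSeries T k ∧ a ^ r = 1}
      mul_mem' := fun {a b} ha hb => ⟨mul_mem ha.1 hb.1, by
        rw [Commute.mul_pow (hcomm _ ha.1 _ hb.1), ha.2, hb.2, one_mul]⟩
      one_mem' := ⟨one_mem _, one_pow r⟩
      inv_mem' := fun {a} ha => ⟨inv_mem ha.1, by rw [inv_pow, ha.2, inv_one]⟩ }
  refine ⟨r, E, hr, fun h => ?_, fun a ha => subSeries_le T k ha.1, fun g hg => ?_,
    fun a ha b hb => hcomm a ha.1 b hb.1, fun a ha => ha.2⟩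
  · obtain ⟨⟨x, hx⟩, hxo⟩ := exists_prime_orderOf_dvd_card' r hrd
    have ho : orderOf x = r := (Subgroup.orderOf_coe (⟨x, hx⟩ : subSeries T k)).trans hxo
    have hxE : x ∈ E := ⟨hx, ho ▸ pow_orderOf_eq_one x⟩
    rw [h, Subgroup.mem_bot] at hxE
    rw [hxE, orderOf_one] at ho
    exact hr.one_lt.ne ho
  · rw [Subgroup.mem_normalizer_iff]
    intro a
    have h := Subgroup.mem_normalizer_iff.1 (subSeries_norm hN k hg) a
    show a ∈ subSeries T k ∧ a ^ r = 1 ↔ g * a * g⁻¹ ∈ subSeries T k ∧ (g * a * g⁻¹) ^ r = 1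
    rw [conj_pow, conj_eq_one_iff, h]

/-- transport of a cyclic local subgroup along an automorphism -/
theorem transport {E A : Subgroup G} (f : G ≃* G)
    (h : Subgroup.normalizer (E : Set G) ≤ Subgroup.normalizer (A : Set G)) :
    Subgroup.normalizer ((E.map f.toMonoidHom : Subgroup G) : Set G) ≤
      Subgroup.normalizer ((A.map f.toMonoidHom : Subgroup G) : Set G) := by
  rw [← Subgroup.map_equiv_normalizer_eq, ← Subgroup.map_equiv_normalizer_eq]
  exact Subgroup.map_mono h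

/-- an abelian subgroup of prime exponent meeting a torus lies in it -/
theorem torus_case [Finite G] {A : Subgroup G} {k n j r : ℕ} (T : TICount.TorusData A k n)
    (hr : r.Prime) (hrk : r ∣ k) (hn : n = k * j) (hj : ¬ r ∣ j) {E : Subgroup G} (hne : E ≠ ⊥)
    (hc : ∀ a ∈ E, ∀ b ∈ E, a * b = b * a) (hexp : ∀ a ∈ E, a ^ r = 1) :
    ∃ A' : Subgroup G, Subgroup.normalizer (E : Set G) ≤ Subgroup.normalizer (A' : Set G) ∧
      IsCyclic A' ∧ Nat.card A' = k := by
  haveI := Fact.mk hr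
  obtain ⟨e, he, he1⟩ := (Subgroup.ne_bot_iff_exists_ne_one.1 hne).elim fun x hx =>
    (⟨x.1, x.2, fun h => hx (Subtype.ext h)⟩ : ∃ e, e ∈ E ∧ e ≠ 1)
  have hord : ∀ a ∈ E, orderOf a ∣ r := fun a ha => orderOf_dvd_of_pow_eq_one (hexp a ha)
  obtain ⟨c, hc'⟩ := T.cover' e ((hord e he).trans hrk)
  let φ : G ≃* G := MulAut.conj c
  set E₁ := E.map φ.symm.toMonoidHom with hE₁
  have hE : E = E₁.map φ.toMonoidHom := by
    rw [hE₁, Subgroup.map_map]
    ext x
    simp
  have he₁ : φ.symm e ∈ E₁ := ⟨e, he, rfl⟩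
  have he₁A : φ.symm e ∈ A := by simpa [φ, mul_assoc] using hc'
  have he₁1 : φ.symm e ≠ 1 := fun h => he1 (φ.symm.injective (h.trans (map_one φ.symm).symm))
  have hE₁c : ∀ a ∈ E₁, ∀ b ∈ E₁, a * b = b * a := by
    rintro _ ⟨a, ha, rfl⟩ _ ⟨b, hb, rfl⟩
    rw [← map_mul, ← map_mul, hc a ha b hb]
  have hE₁e : ∀ a ∈ E₁, a ^ r = 1 := by
    rintro _ ⟨a, ha, rfl⟩
    rw [← map_pow, hexp a ha, map_one]
  set N := Subgroup.normalizer (A : Set G)
  have hzN : Subgroup.normalizer (Subgroup.zpowers (φ.symm e) : Set G) = N :=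
    T.normSub _ (Subgroup.zpowers_le.2 he₁A) (fun h => he₁1 (Subgroup.zpowers_eq_bot.1 h))
  have hEA : E₁ ≤ A := by
    intro f hf
    have hfN : f ∈ N := by
      rw [← hzN, Subgroup.mem_normalizer_iff_map_conj_eq, MonoidHom.map_zpowers]
      congr 1
      show f * φ.symm e * f⁻¹ = φ.symm e
      rw [hE₁c f hf _ he₁, mul_inv_cancel_right]
    have hAN : A ≤ N := Subgroup.le_normalizer
    have hidx : (A.subgroupOf N).index = j := by
      have h := Subgroup.card_mul_index (A.subgroupOf N)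
      rw [Nat.card_congr (Subgroup.subgroupOfEquivOfLe hAN).toEquiv, T.card, T.normCard, hn] at h
      exact Nat.eq_of_mul_eq_mul_left (T.card ▸ Nat.card_pos) h
    have hfj : f ^ j ∈ A := by
      have h := Subgroup.pow_index_mem (A.subgroupOf N) ⟨f, hfN⟩
      rw [hidx, Subgroup.mem_subgroupOf] at h
      exact h
    have hcop : Nat.Coprime j r := Nat.Coprime.symm ((Nat.Prime.coprime_iff_not_dvd hr).2 hj)
    have h1 : f = (f ^ j) ^ Nat.gcdA j r * (f ^ r) ^ Nat.gcdB j r := by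
      rw [← zpow_natCast f j, ← zpow_natCast f r, ← zpow_mul, ← zpow_mul, ← zpow_add,
        ← Nat.gcd_eq_gcd_ab, hcop.gcd_eq_one, Nat.cast_one, zpow_one]
    rw [h1, hE₁e f hf, one_zpow, mul_one]
    exact zpow_mem hfj _
  have hE₁ne : E₁ ≠ ⊥ := fun h => he₁1 (Subgroup.mem_bot.1 (h ▸ he₁))
  haveI := T.cyc
  refine ⟨A.map φ.toMonoidHom, ?_,
    isCyclic_of_surjective (A.equivMapOfInjective φ.toMonoidHom φ.injective).toMonoidHom
      (A.equivMapOfInjective φ.toMonoidHom φ.injective).surjective,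
    by rw [Subgroup.card_map_of_injective φ.injective, T.card]⟩
  rw [hE]
  exact transport φ (T.normSub E₁ hEA hE₁ne).le

end CfsgLib.Lie.ReeSolv

namespace CfsgLib.Lie.Chev.TG2

open Cfsg.Lie
open CfsgLib.PSL2Two (π)
open scoped MatrixGroups

variable {K : Type*} [Field K] [Fintype K] [CharP K 3] {θ : K ≃+* K} {m : ℕ} (R : Ree θ m)

set_option quotPrecheck false
local notation "GG" => ↥(twistedG2 K (3 ^ m))

theorem zHom_one_eq_pHom (z : Matrix.ProjectiveSpecialLinearGroup (Fin 2) K) :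
    zHom R (1, z) = pHom R z := by
  show invHom (ia R) (ia_sq R) 1 * pHom R z = _
  rw [map_one, one_mul]

theorem zHom_split (n : Multiplicative (ZMod 2)) (z : Matrix.ProjectiveSpecialLinearGroup (Fin 2) K) :
    zHom R (n, z) = pHom R z ∨ zHom R (n, z) = ia R * pHom R z := by
  rcases mult_cases n with rfl | rfl
  · exact Or.inl (zHom_one_eq_pHom R z)
  · exact Or.inr (by rw [ia_eq_zHom R, ← zHom_one_eq_pHom R, ← map_mul, Prod.mk_mul_mk, mul_one, one_mul])

/-- every four-group is conjugate to the one of the torus of order `q + 1` -/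
theorem four_conj {E : Subgroup GG} (hc : ∀ a ∈ E, ∀ b ∈ E, a * b = b * a)
    (hexp : ∀ a ∈ E, a * a = 1) (h4 : Nat.card E = 4) :
    ∃ d, E = (eE R).map (MulAut.conj d).toMonoidHom := by
  classical
  obtain ⟨i, hiE, hi1⟩ : ∃ i ∈ E, i ≠ 1 := by
    by_contra h
    push Not at h
    rw [(Subgroup.eq_bot_iff_forall E).2 h, Subgroup.card_bot] at h4
    omega
  obtain ⟨c, hci⟩ := exists_conj_invol R (hexp i hiE) hi1
  set E₁ := E.map (MulAut.conj c⁻¹).toMonoidHom with hE₁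
  have hia : ia R ∈ E₁ := ⟨i, hiE, by
    show c⁻¹ * i * c⁻¹⁻¹ = _
    rw [← hci]; group⟩
  have hE₁c : ∀ a ∈ E₁, ∀ b ∈ E₁, a * b = b * a := by
    rintro _ ⟨a, ha, rfl⟩ _ ⟨b, hb, rfl⟩
    rw [← map_mul, ← map_mul, hc a ha b hb]
  have hE₁e : ∀ a ∈ E₁, a * a = 1 := by
    rintro _ ⟨a, ha, rfl⟩
    rw [← map_mul, hexp a ha, map_one]
  have h4' : Nat.card E₁ = 4 := by rw [hE₁, Subgroup.card_map_of_injective (MulEquiv.injective _), h4]
  obtain ⟨x, hx, hx1, hx2⟩ : ∃ x ∈ E₁, x ≠ 1 ∧ x ≠ ia R := by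
    by_contra h
    push Not at h
    have h2 : Nat.card E₁ ≤ 2 := by
      refine le_trans (Nat.card_le_card_of_injective (β := ({1, ia R} : Finset GG))
        (fun y => ⟨y.1, ?_⟩) fun y y' e => Subtype.ext (congrArg (fun z => z.1) e)) ?_
      · rcases eq_or_ne (y : GG) 1 with e | e
        · simp [e]
        · simp [h y y.2 e]
      · rw [Nat.card_eq_fintype_card, Fintype.card_coe]; exact Finset.card_le_two
    omega
  have hxC : x ∈ Subgroup.centralizer {ia R} :=
    Subgroup.mem_centralizer_singleton_iff.2 (hE₁c x hx _ hia)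
  rw [centralizer_eq R] at hxC
  obtain ⟨⟨a, y⟩, hay⟩ := hxC
  have hy1 : y ≠ 1 := by
    rintro rfl
    rcases zHom_split R a 1 with e | e <;> rw [hay, map_one] at e
    · exact hx1 e
    · exact hx2 (e.trans (mul_one _))
  have hyy : y * y = 1 := by
    have h := hE₁e x hx
    rw [← hay, ← map_mul, ← map_one (zHom R)] at h
    exact congrArg Prod.snd (zHom_injective R h)
  haveI := Fact.mk Nat.prime_two
  have hyo : orderOf y = 2 := orderOf_eq_prime ((pow_two y).trans hyy) hy1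
  obtain ⟨n, hn⟩ := card_K_eq R
  have hwo : orderOf (π (ellGen K) ^ ((Fintype.card K + 1) / 4)) = 2 := by
    rw [ell_half R hn]
    exact orderOf_eq_prime ((pow_two _).trans (ell_half_sq R hn).1) (ell_half_sq R hn).2
  obtain ⟨s, hs⟩ := isConj_iff.1 (CfsgLib.OddProdPSL.isConj_of_invol hwo hyo)
  set d := zHom R (1, s) with hd
  have hdia : d * ia R * d⁻¹ = ia R := by
    rw [ia_eq_zHom R, hd, ← map_inv, ← map_mul, ← map_mul]
    congr 1
    simp
  have hdB : d * eB R * d⁻¹ ∈ E₁ := by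
    have e : d * eB R * d⁻¹ = pHom R y := by
      rw [← zHom_one_eq_pHom R, eB, hd, ← map_inv, ← map_mul, ← map_mul, ← hs]
      congr 1
      simp
    rw [e]
    rcases zHom_split R a y with h | h <;> rw [hay] at h
    · exact h ▸ hx
    · have h' : pHom R y = ia R * x := by rw [h, ← mul_assoc, ia_sq R, one_mul]
      exact h' ▸ mul_mem hia hx
  have heq : (eE R).map (MulAut.conj d).toMonoidHom = E₁ := by
    refine Subgroup.eq_of_le_of_card_ge ?_ (by
      rw [h4', Subgroup.card_map_of_injective (MulEquiv.injective _), card_eE R])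
    rintro _ ⟨z, hz, rfl⟩
    rcases eE_cases R hz with rfl | rfl | rfl | rfl
    · rw [map_one]; exact one_mem _
    · show d * ia R * d⁻¹ ∈ E₁
      rw [hdia]; exact hia
    · exact hdB
    · show d * (ia R * eB R) * d⁻¹ ∈ E₁
      rw [show d * (ia R * eB R) * d⁻¹ = d * ia R * d⁻¹ * (d * eB R * d⁻¹) by group, hdia]
      exact mul_mem hia hdB
  refine ⟨c * d, ?_⟩
  rw [map_mul, show ((MulAut.conj c * MulAut.conj d : MulAut GG)).toMonoidHom =
    (MulAut.conj c).toMonoidHom.comp (MulAut.conj d).toMonoidHom from rfl, ← Subgroup.map_map, heq,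
    hE₁, Subgroup.map_map]
  ext z
  simp [mul_assoc]

/-- the four local types -/
def IsLocal (m : ℕ) (A : Subgroup ↥(twistedG2 K (3 ^ m))) : Prop :=
  (∃ P : Sylow 2 ↥(twistedG2 K (3 ^ m)), A = P) ∨
    (∃ P : Sylow 3 ↥(twistedG2 K (3 ^ m)), A = P) ∨
    (IsCyclic A ∧ (Nat.card A = (3 ^ (2 * m + 1) - 1) / 2 ∨ Nat.card A = (3 ^ (2 * m + 1) + 1) / 4 ∨
      Nat.card A = 3 ^ (2 * m + 1) - 3 ^ (m + 1) + 1 ∨ Nat.card A = 3 ^ (2 * m + 1) + 3 ^ (m + 1) + 1))

include R in
/-- normalisers of abelian 2-subgroups of exponent two and order not two -/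
theorem normalizer_le_two (hm : 1 ≤ m) {E : Subgroup GG} (hne : E ≠ ⊥)
    (hc : ∀ a ∈ E, ∀ b ∈ E, a * b = b * a) (hexp : ∀ a ∈ E, a * a = 1) (h2 : Nat.card E ≠ 2) :
    ∃ A : Subgroup GG, Subgroup.normalizer (E : Set GG) ≤ Subgroup.normalizer (A : Set GG) ∧
      IsLocal m A := by
  haveI := Fact.mk Nat.prime_two
  have hp : IsPGroup 2 E := fun g => ⟨1, Subtype.ext (by
    rw [SubmonoidClass.coe_pow, pow_one, pow_two, hexp g g.2, OneMemClass.coe_one])⟩
  obtain ⟨P, hP⟩ := hp.exists_le_sylow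
  have h8 : Nat.card (P : Subgroup GG) = 8 := (sylow_two R P).1
  have hdvd : Nat.card E ∣ 8 := h8 ▸ Subgroup.card_dvd_of_le hP
  have h1 : Nat.card E ≠ 1 := fun h => hne (Subgroup.card_eq_one.1 h)
  obtain ⟨k, hk, hk'⟩ := (Nat.dvd_prime_pow Nat.prime_two (m := 3)).1 (by simpa using hdvd)
  interval_cases k
  · omega
  · omega
  · obtain ⟨d, rfl⟩ := four_conj R hc hexp (by simpa using hk')
    haveI := cT_cyclic R
    refine ⟨(cT R).map (MulAut.conj d).toMonoidHom,
      ReeSolv.transport _ (normalizer_eE_le R hm), Or.inr (Or.inr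
        ⟨isCyclic_of_surjective
          ((cT R).equivMapOfInjective (MulAut.conj d).toMonoidHom (MulEquiv.injective _)).toMonoidHom
          (MulEquiv.surjective _), Or.inr (Or.inl ?_)⟩)⟩
    rw [Subgroup.card_map_of_injective (MulEquiv.injective _), card_cT R, R.big]
  · refine ⟨P, le_of_eq ?_, Or.inl ⟨P, rfl⟩⟩
    rw [Subgroup.eq_of_le_of_card_ge hP (by rw [h8, hk']; norm_num)]

include R in
/-- normalisers of elementary abelian subgroups -/
theorem normalizer_le_local (hm : 1 ≤ m) {r : ℕ} (hr : r.Prime) {E : Subgroup GG} (hne : E ≠ ⊥)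
    (hc : ∀ a ∈ E, ∀ b ∈ E, a * b = b * a) (hexp : ∀ a ∈ E, a ^ r = 1)
    (h2 : r = 2 → Nat.card E ≠ 2) :
    ∃ A : Subgroup GG, Subgroup.normalizer (E : Set GG) ≤ Subgroup.normalizer (A : Set GG) ∧
      IsLocal m A := by
  have hK := R.big
  rcases eq_or_ne r 2 with rfl | hr2
  · exact normalizer_le_two R hm hne hc (fun a ha => (pow_two a).symm.trans (hexp a ha)) (h2 rfl)
  rcases eq_or_ne r 3 with rfl | hr3
  · haveI := Fact.mk Nat.prime_three
    have hp : IsPGroup 3 E := fun g => ⟨1, Subtype.ext (by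
      rw [SubmonoidClass.coe_pow, pow_one, hexp g g.2, OneMemClass.coe_one])⟩
    obtain ⟨P, hP⟩ := hp.exists_le_sylow
    refine ⟨P, fun g hg => ?_, Or.inr (Or.inl ⟨P, rfl⟩)⟩
    refine Sylow.smul_eq_iff_mem_normalizer.1 ?_
    by_contra hgP
    refine hne (eq_bot_iff.2 ?_)
    rw [← sylow_three_inter hK (g • P) P hgP]
    refine le_inf (fun x hx => ?_) hP
    rw [Sylow.coe_subgroup_smul, Subgroup.mem_pointwise_smul_iff_inv_smul_mem, MulAut.smul_def,
      ← map_inv, MulAut.conj_apply, inv_inv]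
    exact hP ((Subgroup.mem_normalizer_iff''.1 hg x).1 hx)
  obtain ⟨e, he, he1⟩ : ∃ e ∈ E, e ≠ 1 := by
    by_contra h
    push Not at h
    exact hne ((Subgroup.eq_bot_iff_forall E).2 h)
  haveI := Fact.mk hr
  have heo : orderOf e = r := orderOf_eq_prime (hexp e he) he1
  obtain ⟨⟨A₀, T₀⟩, ⟨A₁, T₁⟩, ⟨A₂, T₂⟩, ⟨A₃, T₃⟩⟩ := four_tori hm hK
  obtain ⟨n, hn⟩ := card_K_eq R
  rw [hK] at hn
  have h5 : 5 ≤ r := by
    have := hr.two_le
    rcases eq_or_ne r 4 with rfl | h4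
    · norm_num at hr
    omega
  have hndiv : ∀ j : ℕ, 0 < j → j ≤ 4 → ¬ r ∣ j := fun j h0 hj hd => by
    have := Nat.le_of_dvd h0 hd; omega
  have h6 : ¬ r ∣ 6 := fun h => by
    rcases (Nat.Prime.dvd_mul hr).1 (show r ∣ 2 * 3 from h) with h' | h' <;>
      exact hndiv _ (by norm_num) (by norm_num) h'
  rcases (order_statement hm hK r).1 ⟨e, heo⟩ with h | h | h | h | h | h
  · exact absurd h h6
  · exact absurd (hr.dvd_of_dvd_pow (show r ∣ 3 ^ 2 from h)) (hndiv 3 (by norm_num) (by norm_num))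
  · have hd : r ∣ (3 ^ (2 * m + 1) - 1) / 2 := by
      rcases (Nat.Prime.dvd_mul hr).1
        (show r ∣ 2 * ((3 ^ (2 * m + 1) - 1) / 2) by
          rwa [show 2 * ((3 ^ (2 * m + 1) - 1) / 2) = 3 ^ (2 * m + 1) - 1 by omega]) with h' | h'
      · exact absurd h' (hndiv 2 (by norm_num) (by norm_num))
      · exact h'
    obtain ⟨A, hA, hcyc, hcard⟩ := ReeSolv.torus_case T₀ hr hd (j := 4) (by omega)
      (hndiv 4 (by norm_num) le_rfl) hne hc hexp
    exact ⟨A, hA, Or.inr (Or.inr ⟨hcyc, Or.inl hcard⟩)⟩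
  · have hd : r ∣ (3 ^ (2 * m + 1) + 1) / 4 := by
      rcases (Nat.Prime.dvd_mul hr).1
        (show r ∣ 2 * ((3 ^ (2 * m + 1) + 1) / 4) by
          rwa [show 2 * ((3 ^ (2 * m + 1) + 1) / 4) = (3 ^ (2 * m + 1) + 1) / 2 by omega]) with h' | h'
      · exact absurd h' (hndiv 2 (by norm_num) (by norm_num))
      · exact h'
    obtain ⟨A, hA, hcyc, hcard⟩ := ReeSolv.torus_case T₁ hr hd (j := 24) (by omega)
      (fun h24 => by
        rcases (Nat.Prime.dvd_mul hr).1 (show r ∣ 4 * 6 from h24) with h' | h'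
        · exact hndiv 4 (by norm_num) le_rfl h'
        · exact h6 h') hne hc hexp
    exact ⟨A, hA, Or.inr (Or.inr ⟨hcyc, Or.inr (Or.inl hcard)⟩)⟩
  · obtain ⟨A, hA, hcyc, hcard⟩ := ReeSolv.torus_case T₂ hr h (j := 6) (mul_comm _ _) h6 hne hc hexp
    exact ⟨A, hA, Or.inr (Or.inr ⟨hcyc, Or.inr (Or.inr (Or.inl hcard))⟩)⟩
  · obtain ⟨A, hA, hcyc, hcard⟩ := ReeSolv.torus_case T₃ hr h (j := 6) (mul_comm _ _) h6 hne hc hexp
    exact ⟨A, hA, Or.inr (Or.inr ⟨hcyc, Or.inr (Or.inr (Or.inr hcard))⟩)⟩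

include R in
/-- every solvable subgroup lies in a local normaliser -/
theorem solvable_le_local (hm : 1 ≤ m) (S : Subgroup GG) (hS : Group.IsSolvable S) :
    ∃ A : Subgroup GG, S ≤ Subgroup.normalizer (A : Set GG) ∧ IsLocal m A := by
  haveI := Fact.mk Nat.prime_two
  rcases eq_or_ne S ⊥ with rfl | hne
  · obtain ⟨P, -⟩ := (IsPGroup.of_bot : IsPGroup 2 (⊥ : Subgroup GG)).exists_le_sylow
    exact ⟨P, bot_le, Or.inl ⟨P, rfl⟩⟩
  obtain ⟨r, E, hr, hE, hES, hEN, hc, hexp⟩ :=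
    ReeSolv.exists_elementary_le hS le_rfl Subgroup.le_normalizer hne
  by_cases h2 : r = 2 → Nat.card E ≠ 2
  · obtain ⟨A, hA, hAl⟩ := normalizer_le_local R hm hr hE hc hexp h2
    exact ⟨A, hEN.trans hA, hAl⟩
  push Not at h2
  obtain ⟨rfl, hcard⟩ := h2
  obtain ⟨i, hiE, hi1⟩ : ∃ i ∈ E, i ≠ 1 := by
    by_contra h
    push Not at h
    exact hE ((Subgroup.eq_bot_iff_forall E).2 h)
  have hEi : ∀ x ∈ E, x = 1 ∨ x = i := by
    classical
    intro x hx
    by_contra hne'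
    push Not at hne'
    haveI := Fintype.ofFinite E
    have h3 : 2 < Nat.card E := by
      rw [Nat.card_eq_fintype_card]
      exact Fintype.two_lt_card_iff.2 ⟨(1 : E), ⟨i, hiE⟩, ⟨x, hx⟩,
        fun h => hi1 (congrArg Subtype.val h).symm, fun h => hne'.1 (congrArg Subtype.val h).symm,
        fun h => hne'.2 (congrArg Subtype.val h).symm⟩
    omega
  have hii : i * i = 1 := (pow_two i).symm.trans (hexp i hiE)
  have hSi : ∀ g ∈ S, g * i * g⁻¹ = i := fun g hg => by
    rcases hEi _ ((Subgroup.mem_normalizer_iff.1 (hEN hg) i).1 hiE) with h | h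
    · exact absurd (conj_eq_one_iff.1 h) hi1
    · exact h
  obtain ⟨c, hci⟩ := exists_conj_invol R hii hi1
  set L : Subgroup GG := (pHom R).range.map (MulAut.conj c).toMonoidHom with hL
  -- elements centralising `i`
  have hdec : ∀ g ∈ S, ∃ p, c⁻¹ * g * c = zHom R p := fun g hg => by
    have h : c⁻¹ * g * c ∈ Subgroup.centralizer {ia R} := by
      rw [Subgroup.mem_centralizer_singleton_iff]
      have := mul_inv_eq_iff_eq_mul.1 (hSi g hg)
      rw [← hci] at this
      calc c⁻¹ * g * c * ia R = c⁻¹ * (g * (c * ia R * c⁻¹)) * c := by group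
        _ = c⁻¹ * (c * ia R * c⁻¹ * g) * c := by rw [this]
        _ = _ := by group
    rw [centralizer_eq R] at h
    obtain ⟨p, hp⟩ := h
    exact ⟨p, hp.symm⟩
  have hiL : i ∉ L := by
    rintro ⟨_, ⟨y, rfl⟩, hy⟩
    refine ia_not_mem R y ?_
    have h : c * pHom R y * c⁻¹ = c * ia R * c⁻¹ := hy.trans hci.symm
    exact mul_left_cancel (mul_right_cancel h)
  have hmem : ∀ g ∈ S, g ∈ L ∨ i * g ∈ L := fun g hg => by
    obtain ⟨⟨a, y⟩, hp⟩ := hdec g hg
    have hg' : g = c * zHom R (a, y) * c⁻¹ := by rw [← hp]; group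
    rcases zHom_split R a y with h | h
    · exact Or.inl ⟨pHom R y, ⟨y, rfl⟩, by rw [hg', h]; rfl⟩
    · refine Or.inr ⟨pHom R y, ⟨y, rfl⟩, ?_⟩
      show c * pHom R y * c⁻¹ = i * g
      rw [hg', h, ← hci, show c * ia R * c⁻¹ * (c * (ia R * pHom R y) * c⁻¹) =
        c * (ia R * ia R * pHom R y) * c⁻¹ by group, ia_sq R, one_mul]
  have hSL : S ≤ Subgroup.normalizer (L : Set GG) := fun g hg => by
    refine mem_normalizer_of_conj_mem fun x hx => ?_
    obtain ⟨_, ⟨z, rfl⟩, rfl⟩ := hx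
    obtain ⟨⟨a, y⟩, hp⟩ := hdec g hg
    refine ⟨pHom R (y * z * y⁻¹), ⟨_, rfl⟩, ?_⟩
    show c * pHom R (y * z * y⁻¹) * c⁻¹ = g * (c * pHom R z * c⁻¹) * g⁻¹
    have e : pHom R (y * z * y⁻¹) = zHom R (a, y) * pHom R z * (zHom R (a, y))⁻¹ := by
      rw [← zHom_one_eq_pHom R, ← zHom_one_eq_pHom R, ← map_inv, ← map_mul, ← map_mul]
      congr 1
      simp
    rw [e, ← hp]
    group
  rcases eq_or_ne (S ⊓ L) ⊥ with hT | hT
  · have hSE : S ≤ E := fun g hg => by
      rcases hmem g hg with h | h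
      · rw [Subgroup.mem_bot.1 (hT.le (Subgroup.mem_inf.2 ⟨hg, h⟩))]
        exact one_mem _
      · have h' : i * g = 1 := Subgroup.mem_bot.1
          (hT.le (Subgroup.mem_inf.2 ⟨mul_mem (hES hiE) hg, h⟩))
        rw [mul_eq_one_iff_eq_inv'.1 h']
        exact inv_mem hiE
    obtain ⟨P, hP⟩ := (IsPGroup.of_card (n := 1) (by rw [pow_one]; exact hcard) :
      IsPGroup 2 E).exists_le_sylow
    exact ⟨P, (hSE.trans hP).trans Subgroup.le_normalizer, Or.inl ⟨P, rfl⟩⟩
  have hTN : S ≤ Subgroup.normalizer ((S ⊓ L : Subgroup GG) : Set GG) := fun g hg => by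
    refine mem_normalizer_of_conj_mem fun x hx => Subgroup.mem_inf.2 ⟨?_, ?_⟩
    · exact mul_mem (mul_mem hg (Subgroup.mem_inf.1 hx).1) (inv_mem hg)
    · exact (Subgroup.mem_normalizer_iff.1 (hSL hg) x).1 (Subgroup.mem_inf.1 hx).2
  obtain ⟨s, F, hs, hF, hFT, hFN, hFc, hFexp⟩ :=
    ReeSolv.exists_elementary_le hS inf_le_left hTN hT
  rcases eq_or_ne s 2 with rfl | hs2
  swap
  · obtain ⟨A, hA, hAl⟩ := normalizer_le_local R hm hs hF hFc hFexp (fun h => absurd h hs2)
    exact ⟨A, hFN.trans hA, hAl⟩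
  have hcomm : ∀ x ∈ F, i * x = x * i := fun x hx =>
    (mul_inv_eq_iff_eq_mul.1 (hSi x (Subgroup.mem_inf.1 (hFT hx)).1)).symm
  have hEC : ∀ x ∈ E, ∀ y ∈ F, x * y = y * x := fun x hx y hy => by
    rcases hEi x hx with rfl | rfl
    · simp
    · exact hcomm y hy
  -- the product of the two elementary subgroups
  let D : Subgroup GG :=
    { carrier := {z | ∃ x ∈ E, ∃ y ∈ F, z = x * y}
      mul_mem' := by
        rintro _ _ ⟨x, hx, y, hy, rfl⟩ ⟨x', hx', y', hy', rfl⟩
        exact ⟨x * x', mul_mem hx hx', y * y', mul_mem hy hy', by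
          rw [show x * y * (x' * y') = x * (y * x') * y' by group, ← hEC x' hx' y hy]; group⟩
      one_mem' := ⟨1, one_mem _, 1, one_mem _, (one_mul 1).symm⟩
      inv_mem' := by
        rintro _ ⟨x, hx, y, hy, rfl⟩
        exact ⟨x⁻¹, inv_mem hx, y⁻¹, inv_mem hy, by
          rw [mul_inv_rev, hEC x⁻¹ (inv_mem hx) y⁻¹ (inv_mem hy)]⟩ }
  have hDc : ∀ a ∈ D, ∀ b ∈ D, a * b = b * a := by
    rintro _ ⟨x, hx, y, hy, rfl⟩ _ ⟨x', hx', y', hy', rfl⟩
    calc x * y * (x' * y') = x * (y * x') * y' := by group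
      _ = x * (x' * y) * y' := by rw [← hEC x' hx' y hy]
      _ = x * x' * (y * y') := by group
      _ = x' * x * (y' * y) := by rw [hc x hx x' hx', hFc y hy y' hy']
      _ = x' * (x * y') * y := by group
      _ = x' * (y' * x) * y := by rw [hEC x hx y' hy']
      _ = _ := by group
  have hDe : ∀ a ∈ D, a ^ 2 = 1 := by
    rintro _ ⟨x, hx, y, hy, rfl⟩
    rw [Commute.mul_pow (hEC x hx y hy), hexp x hx, hFexp y hy, one_mul]
  have hDN : S ≤ Subgroup.normalizer (D : Set GG) := fun g hg => by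
    refine mem_normalizer_of_conj_mem ?_
    rintro _ ⟨x, hx, y, hy, rfl⟩
    exact ⟨g * x * g⁻¹, (Subgroup.mem_normalizer_iff.1 (hEN hg) x).1 hx, g * y * g⁻¹,
      (Subgroup.mem_normalizer_iff.1 (hFN hg) y).1 hy, by group⟩
  have hiD : i ∈ D := ⟨i, hiE, 1, one_mem _, (mul_one i).symm⟩
  have hD2 : 2 = 2 → Nat.card D ≠ 2 := fun _ hD => by
    obtain ⟨y, hy, hy1⟩ : ∃ y ∈ F, y ≠ 1 := by
      by_contra h
      push Not at h
      exact hF ((Subgroup.eq_bot_iff_forall F).2 h)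
    have hle : E ≤ D := fun x hx => ⟨x, hx, 1, one_mem _, (mul_one x).symm⟩
    have hED : E = D := Subgroup.eq_of_le_of_card_ge hle (by omega)
    rcases hEi y (hED ▸ ⟨1, one_mem _, y, hy, (one_mul y).symm⟩) with h | h
    · exact hy1 h
    · exact hiL (h ▸ (Subgroup.mem_inf.1 (hFT hy)).2)
  obtain ⟨A, hA, hAl⟩ := normalizer_le_local R hm Nat.prime_two
    (fun h => hi1 (Subgroup.mem_bot.1 (h ▸ hiD))) hDc hDe hD2
  exact ⟨A, hDN.trans hA, hAl⟩

end CfsgLib.Lie.Chev.TG2
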