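import Cfsg.Agent.Lib.Lie.Chev.Tw.G2Simple
import Cfsg.Agent.Lib.Lie.Chev.Tw.Out.Base

/-!
# ²G₂: the torus action on the unipotent group, elements of order three, trivial intersections
-/

set_option autoImplicit false
set_option maxRecDepth 100000

namespace CfsgLib.Lie.Chev

open Cfsg.Lie
open scoped MatrixGroups

namespace TG2

variable {K : Type*} [Field K] [CharP K 3] (θ : K ≃+* K) (hcu : ∀ x, θ.symm x = θ x ^ 3)

include hcu in
theorem reeP_inj {t u v t' u' v' : K} (h : reeP θ t u v = reeP θ t' u' v') :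
    t = t' ∧ u = u' ∧ v = v' := by
  have he := (reeP_prod θ hcu t u v).trans (h.trans (reeP_prod θ hcu t' u' v').symm)
  have hL := L_eq θ hcu o0
  have h6 := C.normal_inj hL _ _ he (r := rt 6) (by decide +kernel)
  have h8 := C.normal_inj hL _ _ he (r := rt 8) (by decide +kernel)
  have h9 := C.normal_inj hL _ _ he (r := rt 9) (by decide +kernel)
  obtain ⟨a1, -, a3, a4, -, -⟩ := vv_vals θ t u v
  obtain ⟨b1, -, b3, b4, -, -⟩ := vv_vals θ t' u' v'
  rw [a1, b1] at h6; rw [a3, b3] at h8; rw [a4, b4] at h9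
  exact ⟨h6, θ.injective h8, θ.injective h9⟩

include hcu in
theorem reeP_zero : reeP θ (0 : K) 0 0 = 1 := by
  simp [reeP, ree, tail, C.G.xu_zero]

theorem torθ_par_injective : Function.Injective fun b : Kˣ => C.G.torθ (par θ b) := by
  intro b b' h
  have h2 : (par θ b)⁻¹ * par θ b' = 1 :=
    ker_one (by rw [map_mul, map_inv, show C.G.torθ (par θ b) = C.G.torθ (par θ b') from h,
      inv_mul_cancel])
  rw [inv_mul_eq_one] at h2
  exact (par_vals θ b).2.symm.trans ((congrFun h2 _).trans (par_vals θ b').2)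

/-- the torus as a homomorphism -/
noncomputable def parHom : Kˣ →* (Fin chevG2.rank → Kˣ) where
  toFun := par θ
  map_one' := by
    funext j; rcases nd_cases j with rfl | rfl <;>
      simp [(par_vals θ (1 : Kˣ)).1, (par_vals θ (1 : Kˣ)).2]
  map_mul' a b := by
    funext j; rcases nd_cases j with rfl | rfl <;>
      simp [(par_vals θ (a * b)).1, (par_vals θ (a * b)).2, (par_vals θ a).1, (par_vals θ a).2,
        (par_vals θ b).1, (par_vals θ b).2]

include hcu in
/-- the torus on the unipotent group -/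
theorem tor_conj_reeP (b : Kˣ) (t u v : K) :
    C.G.torθ (par θ b) * reeP θ t u v * (C.G.torθ (par θ b))⁻¹ =
      reeP θ ((b : K) ^ 2 * (θ b : K)⁻¹ ^ 3 * t) ((θ b : K) ^ 3 * (b : K)⁻¹ * u) ((b : K) * v) := by
  rw [← reeP_prod θ hcu t u v, C.torθ_conj_list, ← reeP_prod θ hcu]
  refine congrArg List.prod (List.map_congr_left fun r hr => ?_)
  congr 1
  have hrows : (L.map fun r => [nd 0, nd 1].map fun i => cart chevG2 i r) =
      [[-3, 2], [2, -1], [-1, 1], [1, 0], [3, -1], [0, 1]] := by decide +kernel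
  simp only [L, List.map_cons, List.map_nil, List.cons.injEq, and_true] at hrows
  obtain ⟨⟨a0, a1⟩, ⟨b0, b1⟩, ⟨c0, c1⟩, ⟨d0, d1⟩, ⟨e0, e1⟩, f0, f1⟩ := hrows
  have hu : (Finset.univ : Finset (Fin chevG2.rank)) = {nd 0, nd 1} := by decide +kernel
  have hd : (nd 0 : Fin chevG2.rank) ∉ ({nd 1} : Finset _) := by decide +kernel
  obtain ⟨p0, p1⟩ := par_vals θ b
  have hA : θ (θ (b : K)) ^ 3 = (b : K) := by rw [← hcu, θ.symm_apply_apply]
  have hA0 : θ (b : K) ≠ 0 := fun h => b.ne_zero ((map_eq_zero θ).1 h)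
  have hB0 : (b : K) ≠ 0 := b.ne_zero
  obtain ⟨w1, w2, w3, w4, w5, w6⟩ := vv_vals θ t u v
  obtain ⟨z1, z2, z3, z4, z5, z6⟩ := vv_vals θ ((b : K) ^ 2 * (θ b : K)⁻¹ ^ 3 * t)
    ((θ b : K) ^ 3 * (b : K)⁻¹ * u) ((b : K) * v)
  rw [hu, Finset.prod_insert hd, Finset.prod_singleton, p0, p1, Units.val_mul,
    Units.val_zpow_eq_zpow_val, Units.val_zpow_eq_zpow_val]
  show θ (b : K) ^ cart chevG2 (nd 0) r * (b : K) ^ cart chevG2 (nd 1) r * _ = _
  simp only [L, List.mem_cons, List.not_mem_nil, or_false] at hr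
  rcases hr with rfl | rfl | rfl | rfl | rfl | rfl
  · rw [a0, a1, w1, z1]; field_simp
  · rw [b0, b1, w2, z2]; simp only [map_mul, map_pow, map_inv₀]; field_simp; rw [hA]; ring
  · rw [c0, c1, w3, z3]; simp only [map_mul, map_pow, map_inv₀]; field_simp; rw [hA]; ring
  · rw [d0, d1, w4, z4]; simp only [map_mul]; simp
  · rw [e0, e1, w5, z5, hcu t, hcu]; simp only [map_mul, map_pow, map_inv₀]; field_simp
    linear_combination (θ t ^ 3 * t * (θ (θ (b : K)) ^ 6 + θ (θ (b : K)) ^ 3 * b + (b : K) ^ 2)) * hA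
  · rw [f0, f1, w6, z6, hcu t, hcu]; simp only [map_mul, map_pow, map_inv₀]; field_simp
    linear_combination (θ t ^ 3 * t ^ 2 * (θ (θ (b : K)) ^ 6 + θ (θ (b : K)) ^ 3 * b + (b : K) ^ 2)) * hA

include hcu in
theorem sq_eq_cube_theta {B : K} (hB : B ≠ 0) (h : B ^ 2 = θ B ^ 3) : B = 1 := by
  have hAA : θ (θ B) ^ 3 = B := by rw [← hcu, θ.symm_apply_apply]
  have e1 : θ (B ^ 2) = θ (θ B) ^ 3 := by rw [h, map_pow]
  rw [map_pow, hAA] at e1
  have e2 : θ (θ B) ^ 2 = θ B := by rw [← map_pow, e1]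
  have e3 : θ B ^ 3 = B ^ 2 := h.symm
  have e4 : B ^ 3 * B = B ^ 3 * 1 := by
    linear_combination (B ^ 2 + θ B ^ 3) * h + (θ B ^ 4 + θ B ^ 2 * B + B ^ 2) * e1
  exact mul_left_cancel₀ (pow_ne_zero 3 hB) e4

include hcu in
theorem theta_cube_eq {B : K} (hB : B ≠ 0) (h : θ B ^ 3 = B) : B = 1 ∨ B = -1 := by
  have hAA : θ (θ B) ^ 3 = B := by rw [← hcu, θ.symm_apply_apply]
  have e1 : θ (θ B ^ 3) = θ B := by rw [h]
  rw [map_pow, hAA] at e1
  rw [← e1] at h
  have e2 : B ^ 2 = 1 := mul_right_cancel₀ hB (by rw [one_mul, ← pow_succ, h])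
  exact sq_eq_one_iff.1 e2

include hcu in
/-- the elements of the torus fixing a unipotent element -/
theorem eq_pm_one_of_commute {b : Kˣ} {t u v : K}
    (hne : reeP θ t u v ≠ 1) (h : Commute (C.G.torθ (par θ b)) (reeP θ t u v)) :
    b = 1 ∨ b = -1 := by
  have h' : C.G.torθ (par θ b) * reeP θ t u v * (C.G.torθ (par θ b))⁻¹ = reeP θ t u v := by
    rw [h.eq, mul_inv_cancel_right]
  rw [tor_conj_reeP θ hcu] at h'
  obtain ⟨h1, h2, h3⟩ := reeP_inj θ hcu h'
  have hB : (b : K) ≠ 0 := b.ne_zero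
  have hA : θ (b : K) ≠ 0 := fun e => hB ((map_eq_zero θ).1 e)
  by_cases ht : t = 0
  · by_cases hu : u = 0
    · have hv : v ≠ 0 := fun e => hne (by rw [ht, hu, e, reeP_zero θ hcu])
      exact Or.inl (Units.ext (mul_right_cancel₀ hv (by rw [h3, Units.val_one, one_mul])))
    · have h4 : θ (b : K) ^ 3 * (b : K)⁻¹ = 1 := mul_right_cancel₀ hu (by rw [h2, one_mul])
      rw [mul_inv_eq_one₀ hB] at h4
      rcases theta_cube_eq θ hcu hB h4 with e | e
      · exact Or.inl (Units.ext e)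
      · exact Or.inr (Units.ext (by simpa using e))
  · have h4 : (b : K) ^ 2 * (θ b : K)⁻¹ ^ 3 = 1 := mul_right_cancel₀ ht (by rw [h1, one_mul])
    rw [inv_pow, mul_inv_eq_one₀ (pow_ne_zero _ hA)] at h4
    exact Or.inl (Units.ext (sq_eq_cube_theta θ hcu hB h4))

/-! ### elements of order three -/

theorem tail_move7 (A e f g h : K) :
    tail (rt 8) (rt 9) (rt 10) (rt 11) e f g h * C.G.xu (rt 7) A =
      C.G.xu (rt 7) A * tail (rt 8) (rt 9) (rt 10) (rt 11) e (f - A * e) g h := by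
  have hc : C.G.xu (rt 8) e * C.G.xu (rt 7) A =
      C.G.xu (rt 7) A * (C.G.xu (rt 8) e * C.G.xu (rt 9) (-(A * e))) := by
    have hc := C.commAt (rt 7) (rt 8) (by decide +kernel) (by decide +kernel) A e
    have hw : chevG2.commTerms (rt 7).val (rt 8).val = [(9, -2, 1, 1), (10, -3, 2, 1), (11, 3, 1, 2)] := by
      decide +kernel
    unfold CommAt at hc
    rw [cwR, hw] at hc
    have h3 : (3 : K) = 0 := by exact_mod_cast CharP.cast_eq_zero K 3
    have h2 : (2 : K) = -1 := by linear_combination h3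
    simp only [List.map_cons, List.map_nil, wordR_cons, wordR_nil, mul_one, xN,
      dif_pos (show 9 < chevG2.nroots by decide +kernel),
      dif_pos (show 10 < chevG2.nroots by decide +kernel),
      dif_pos (show 11 < chevG2.nroots by decide +kernel)] at hc
    simp only [Int.cast_neg, Int.cast_ofNat, h3, h2, neg_zero, zero_mul, xg_zero, mul_one, neg_neg,
      one_mul, pow_one, neg_mul] at hc
    rw [← mul_assoc]
    exact Units.ext hc
  have h9 := comm_of (K := K) (show C3 (rt 7) (rt 9) by decide +kernel) A f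
  have h10 := comm_of (K := K) (show C3 (rt 7) (rt 10) by decide +kernel) A g
  have h11 := comm_of (K := K) (show C3 (rt 7) (rt 11) by decide +kernel) A h
  simp only [tail]
  calc C.G.xu (rt 8) e * C.G.xu (rt 9) f * C.G.xu (rt 10) g * C.G.xu (rt 11) h * C.G.xu (rt 7) A
      = C.G.xu (rt 8) e * (C.G.xu (rt 9) f * C.G.xu (rt 10) g * C.G.xu (rt 11) h * C.G.xu (rt 7) A) := by
        simp only [mul_assoc]
    _ = C.G.xu (rt 8) e * C.G.xu (rt 7) A * (C.G.xu (rt 9) f * C.G.xu (rt 10) g * C.G.xu (rt 11) h) := by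
        rw [← ((h9.mul_right h10).mul_right h11).eq, mul_assoc (C.G.xu (rt 8) e)]
    _ = _ := by
        rw [hc, sub_eq_add_neg, add_comm f, C.G.xu_add]
        simp only [mul_assoc]

theorem tail_move6 (B e f g h : K) :
    tail (rt 8) (rt 9) (rt 10) (rt 11) e f g h * C.G.xu (rt 6) B =
      C.G.xu (rt 6) B * tail (rt 8) (rt 9) (rt 10) (rt 11) e f g (h - B * g) := by
  have hc : C.G.xu (rt 10) g * C.G.xu (rt 6) B =
      C.G.xu (rt 6) B * (C.G.xu (rt 10) g * C.G.xu (rt 11) (-(B * g))) := by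
    have hc := C.commAt (rt 6) (rt 10) (by decide +kernel) (by decide +kernel) B g
    have hw : chevG2.commTerms (rt 6).val (rt 10).val = [(11, 1, 1, 1)] := by decide +kernel
    unfold CommAt at hc
    rw [cwR, hw] at hc
    simp only [List.map_cons, List.map_nil, wordR_cons, wordR_nil, mul_one, xN,
      dif_pos (show 11 < chevG2.nroots by decide +kernel)] at hc
    simp only [Int.cast_one, one_mul, pow_one, neg_mul] at hc
    rw [← mul_assoc]
    exact Units.ext hc
  have h8 := comm_of (K := K) (show C3 (rt 6) (rt 8) by decide +kernel) B e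
  have h9 := comm_of (K := K) (show C3 (rt 6) (rt 9) by decide +kernel) B f
  have h11 := comm_of (K := K) (show C3 (rt 6) (rt 11) by decide +kernel) B h
  simp only [tail]
  calc C.G.xu (rt 8) e * C.G.xu (rt 9) f * C.G.xu (rt 10) g * C.G.xu (rt 11) h * C.G.xu (rt 6) B
      = C.G.xu (rt 8) e * C.G.xu (rt 9) f * (C.G.xu (rt 10) g * C.G.xu (rt 6) B) * C.G.xu (rt 11) h := by
        rw [mul_assoc (_ * _ * C.G.xu (rt 10) g), ← h11.eq]; simp only [mul_assoc]
    _ = C.G.xu (rt 8) e * C.G.xu (rt 9) f * C.G.xu (rt 6) B *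
          (C.G.xu (rt 10) g * C.G.xu (rt 11) (-(B * g))) * C.G.xu (rt 11) h := by
        rw [hc]; simp only [mul_assoc]
    _ = _ := by
        rw [← (h8.mul_right h9).eq, sub_eq_add_neg, add_comm h, C.G.xu_add]
        simp only [mul_assoc]

/-- the product of two elements in normal form -/
theorem form_mul (A B e f g h A' B' e' f' g' h' : K) :
    C.G.xu (rt 7) A * C.G.xu (rt 6) B * tail (rt 8) (rt 9) (rt 10) (rt 11) e f g h *
        (C.G.xu (rt 7) A' * C.G.xu (rt 6) B' * tail (rt 8) (rt 9) (rt 10) (rt 11) e' f' g' h') =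
      C.G.xu (rt 7) (A + A') * C.G.xu (rt 6) (B + B') *
        tail (rt 8) (rt 9) (rt 10) (rt 11) (e + A' * B + e') (f - A' * e + A' * A' * B + f')
          (g - A' ^ 3 * B + g') (h - A' ^ 3 * B * B - B' * (g - A' ^ 3 * B) + h') := by
  have hs := six_comm (K := K) dat.1 (ε := 1) (by simp) (one_mul 1) A' B
  simp only [one_mul] at hs
  have hinv : tail (rt 8) (rt 9) (rt 10) (rt 11) (-(A' * B)) (-(A' * A' * B)) (A' ^ 3 * B)
        (A' ^ 3 * B * B) *
      tail (rt 8) (rt 9) (rt 10) (rt 11) (A' * B) (A' * A' * B) (-(A' ^ 3 * B)) (-(A' ^ 3 * B * B)) = 1 := by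
    rw [tail_mul dat.1]; simp [tail, C.G.xu_zero]
  have hR : C.G.xu (rt 6) B * C.G.xu (rt 7) A' = C.G.xu (rt 7) A' * C.G.xu (rt 6) B *
      tail (rt 8) (rt 9) (rt 10) (rt 11) (A' * B) (A' * A' * B) (-(A' ^ 3 * B)) (-(A' ^ 3 * B * B)) := by
    rw [hs, mul_assoc (_ * _), hinv, mul_one]
  calc _ = C.G.xu (rt 7) A * C.G.xu (rt 6) B *
        (tail (rt 8) (rt 9) (rt 10) (rt 11) e f g h * C.G.xu (rt 7) A') * C.G.xu (rt 6) B' *
          tail (rt 8) (rt 9) (rt 10) (rt 11) e' f' g' h' := by simp only [mul_assoc]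
    _ = C.G.xu (rt 7) A * (C.G.xu (rt 6) B * C.G.xu (rt 7) A') *
        (tail (rt 8) (rt 9) (rt 10) (rt 11) e (f - A' * e) g h * C.G.xu (rt 6) B') *
          tail (rt 8) (rt 9) (rt 10) (rt 11) e' f' g' h' := by rw [tail_move7]; simp only [mul_assoc]
    _ = C.G.xu (rt 7) (A + A') * C.G.xu (rt 6) B *
        ((tail (rt 8) (rt 9) (rt 10) (rt 11) (A' * B) (A' * A' * B) (-(A' ^ 3 * B)) (-(A' ^ 3 * B * B)) *
          tail (rt 8) (rt 9) (rt 10) (rt 11) e (f - A' * e) g h) * C.G.xu (rt 6) B') *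
          tail (rt 8) (rt 9) (rt 10) (rt 11) e' f' g' h' := by
        rw [hR, C.G.xu_add]; simp only [mul_assoc]
    _ = _ := by
        rw [tail_mul dat.1, tail_move6, C.G.xu_add (rt 6) B B']
        simp only [mul_assoc, tail_mul dat.1]
        congr 3 <;> ring

include hcu in
theorem reeP_cube (t u v : K) : reeP θ t u v ^ 3 = 1 ↔ t = 0 := by
  have e : ∀ x : GL chevG2.Idx K, x ^ 3 = x * x * x := fun x => by rw [pow_succ, pow_two]
  rw [e]
  have h3 : (3 : K) = 0 := by exact_mod_cast CharP.cast_eq_zero K 3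
  simp only [reeP, ree, one_mul]
  rw [form_mul, form_mul, show θ t + θ t + θ t = 0 by linear_combination θ t * h3,
    show t + t + t = 0 by linear_combination t * h3, C.G.xu_zero, C.G.xu_zero, one_mul, one_mul]
  set A := θ t
  constructor
  · intro h
    have hne := fun hf => C.normal_inj (L_eq θ hcu o0)
      (fun r => if r = rt 9 then -(A * A * t) else 0) (fun _ => 0) hf (r := rt 9) (by decide +kernel)
    by_contra ht
    have hA : A ≠ 0 := fun e => ht ((map_eq_zero θ).1 e)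
    have hcommon : ∀ e' f' g' h' : K, tail (rt 8) (rt 9) (rt 10) (rt 11) e' f' g' h' = 1 → f' = 0 := by
      intro e' f' g' h' h1
      have := C.normal_inj (L_eq θ hcu o0)
        (fun r => if r = rt 8 then e' else if r = rt 9 then f' else if r = rt 10 then g' else
          if r = rt 11 then h' else 0) (fun _ => 0) (r := rt 9) ?_ (by decide +kernel)
      · simpa [rt, Fin.ext_iff] using this
      · refine Eq.trans ?_ (show (1 : GL chevG2.Idx K) = _ by simp [L, C.G.xu_zero])
        rw [← h1]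
        simp [L, tail, rt, Fin.ext_iff, C.G.xu_zero, mul_assoc]
    have hf := hcommon _ _ _ _ h
    clear hne
    refine mul_ne_zero (mul_ne_zero hA hA) ht ?_
    linear_combination -hf + (A * A * t + θ v - A * θ u) * h3
  · intro ht
    have hA : A = 0 := by simp [A, ht]
    simp only [ht, hA, tail, mul_zero, zero_mul, sub_zero, add_zero, zero_add,
      zero_pow (show (3 : ℕ) ≠ 0 by norm_num)]
    have hz : ∀ x : K, x + x + x = 0 := fun x => by linear_combination x * h3
    simp [hz, C.G.xu_zero]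

end TG2

end CfsgLib.Lie.Chev
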