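import Cfsg.Agent.Lib.Lie.Chev.Tw.Ree.Cent
import Cfsg.Agent.Lib.Char.TransLinear.AutCard
import Cfsg.Agent.Lib.Lie.Chev.Tw.Out.OrbSub
import Mathlib.GroupTheory.Sylow

/-!
# ²G₂(q): classes of involutions and the normaliser of a Sylow 2-subgroup
-/

set_option autoImplicit false
set_option maxRecDepth 100000
set_option linter.unusedSectionVars false

namespace CfsgLib.Lie.Chev.TG2

open Cfsg.Lie
open scoped MatrixGroups
open CfsgLib.Lie.SL2Rel (Fam val_mul')

variable {K : Type*} [Field K] [Fintype K] [CharP K 3] {θ : K ≃+* K} {m : ℕ} (R : Ree θ m)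

theorem mMax_conj_he (y : Kˣ) : R.gp.mMax⁻¹ * he R y * R.gp.mMax = he R y⁻¹ := by
  set M := R.gp.mMax
  have h1 : M⁻¹ * he R y * M ∈ R.gp.gH := by
    have := (Subgroup.mem_normalizer_iff.1 (C.G.monomial_le_normalizer
      (inv_mem (R.gp.mem_N_iff.1 R.gp.mMax_mem))) (he R y : GL chevG2.Idx K)).1 ((mem_gH_iff R).2 ⟨_, rfl⟩)
    rw [inv_inv] at this
    exact this
  obtain ⟨y', hy'⟩ := (mem_gH_iff R).1 h1
  rw [hy']
  congr 1
  have hchr : ∀ b : Kˣ, (∏ i, par θ b i ^ cart chevG2 i (rt 11) : Kˣ) = b ∧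
      (∏ i, par θ b i ^ cart chevG2 i (rt 0) : Kˣ) = b⁻¹ := by
    intro b
    obtain ⟨p0, p1⟩ := par_vals θ b
    have hu : (Finset.univ : Finset (Fin chevG2.rank)) = {nd 0, nd 1} := by decide +kernel
    have hd : (nd 0 : Fin chevG2.rank) ∉ ({nd 1} : Finset _) := by decide +kernel
    have hc : cart chevG2 (nd 0) (rt 11) = 0 ∧ cart chevG2 (nd 1) (rt 11) = 1 ∧
        cart chevG2 (nd 0) (rt 0) = 0 ∧ cart chevG2 (nd 1) (rt 0) = -1 := by decide +kernel
    obtain ⟨c1, c2, c3, c4⟩ := hc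
    rw [hu, Finset.prod_insert hd, Finset.prod_singleton, Finset.prod_insert hd, Finset.prod_singleton,
      c1, c2, c3, c4, p1]
    simp
  have hw : (orbits θ R.cu).wO o0 (rt 11) = rt 0 := by
    refine Fin.ext ?_
    rw [wO_val θ R.cu]
    decide +kernel
  obtain ⟨c, hc⟩ := mMax_wO R (rt 11)
  rw [hw] at hc
  have e := congrArg (fun z : ↥(twistedG2 K (3 ^ m)) => (z : GL chevG2.Idx K)) hy'
  simp only [Subgroup.coe_mul, Subgroup.coe_inv, he_val] at e
  have h5 : C.G.xu (rt 11) ((y' : K) * 1) = C.G.xu (rt 11) (((y⁻¹ : Kˣ) : K) * 1) := by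
    conv_lhs => rw [← (hchr y').1, ← C.G.torθ_conj_xu, ← e]
    have h6 : (M : GL chevG2.Idx K) * C.G.xu (rt 11) (((y⁻¹ : Kˣ) : K) * 1) * (M : GL chevG2.Idx K)⁻¹ =
        C.G.torθ (par θ y) * ((M : GL chevG2.Idx K) * C.G.xu (rt 11) 1 * (M : GL chevG2.Idx K)⁻¹) *
          (C.G.torθ (par θ y))⁻¹ := by
      rw [hc, hc, C.G.torθ_conj_xu, (hchr y).2]
      ring_nf
    calc _ = (M : GL chevG2.Idx K)⁻¹ * (C.G.torθ (par θ y) * ((M : GL chevG2.Idx K) * C.G.xu (rt 11) 1 *
          (M : GL chevG2.Idx K)⁻¹) * (C.G.torθ (par θ y))⁻¹) * (M : GL chevG2.Idx K) := by group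
      _ = _ := by rw [← h6]; group
  have := C.G.xu_injective (rt 11) h5
  rw [mul_one, mul_one] at this
  exact Units.ext this

theorem mMax_ia_commute : Commute R.gp.mMax (ia R) := by
  have h := mMax_conj_he R (-1)
  rw [inv_neg_one] at h
  show R.gp.mMax * he R (-1) = he R (-1) * R.gp.mMax
  conv_lhs => rw [← h]
  group

theorem exists_sign_square (R : Ree θ m) (b : Kˣ) : ∃ y : Kˣ, b = y * y ∨ b = -(y * y) := by
  classical
  by_cases hb : IsSquare (b : K)
  · obtain ⟨y, hy⟩ := hb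
    have hy0 : y ≠ 0 := fun h => b.ne_zero (by rw [hy, h, mul_zero])
    exact ⟨Units.mk0 y hy0, Or.inl (Units.ext (by simpa using hy))⟩
  · have h2 : IsSquare (-(b : K)) := by
      by_contra h2
      have h3 := (quadraticChar_neg_one_iff_not_isSquare.2 hb)
      have h4 := (quadraticChar_neg_one_iff_not_isSquare.2 h2)
      have h5 := (quadraticChar_neg_one_iff_not_isSquare.2 R.neg)
      rw [← neg_one_mul (b : K), map_mul, h3, h5] at h4
      norm_num at h4
    obtain ⟨y, hy⟩ := h2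
    have hy0 : y ≠ 0 := fun h => neg_ne_zero.2 b.ne_zero (by rw [hy, h, mul_zero])
    exact ⟨Units.mk0 y hy0, Or.inr (Units.ext (by
      rw [Units.val_neg, Units.val_mul, Units.val_mk0, ← hy, neg_neg]))⟩

/-- an element outside the Borel group is conjugate to one of two elements -/
theorem cases_of_not_mem {i : ↥(twistedG2 K (3 ^ m))} (hi : i * i = 1) (hB : i ∉ R.gp.gB) :
    IsConj R.gp.mMax i ∨ IsConj (R.gp.mMax * ia R) i := by
  set M := R.gp.mMax
  obtain ⟨u, hu, c, hc, b, e | e⟩ := bruhat R i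
  · exact absurd (e ▸ mul_mem (mul_mem (R.gp.gU_le_gB hu) (R.gp.gH_le_gB ((mem_gH_iff R).2 ⟨b, rfl⟩)))
      (R.gp.gU_le_gB hc)) hB
  set N := M * he R b with hN
  have hcu : c * u ∈ R.gp.gU := mul_mem hc hu
  have hsq : c * u * N * (c * u * N) = 1 := by
    calc c * u * N * (c * u * N) = c * (u * N * c * (u * N * c)) * c⁻¹ := by group
      _ = 1 := by rw [← e, hi, mul_one, mul_inv_cancel]
  have hNN : N * N ∈ R.gp.gH := by
    have hMN : (M : GL chevG2.Idx K) ∈ chevG2.monomialSubgroup K := R.gp.mem_N_iff.1 R.gp.mMax_mem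
    refine C.G.mem_H_of_nPerm_one ?_ ?_
    · have hHN : ((he R b : ↥(twistedG2 K (3 ^ m))) : GL chevG2.Idx K) ∈ chevG2.monomialSubgroup K :=
        C.G.H_le_monomial ((mem_gH_iff R).2 ⟨b, rfl⟩)
      exact mul_mem (mul_mem hMN hHN) (mul_mem hMN hHN)
    · have h1 : C.G.NPerm (N : GL chevG2.Idx K) ((orbits θ R.cu).wO o0) := by
        have := Good.NPerm.mul C.G (mMax_wO R) (R.gp.nPerm_of_gH ((mem_gH_iff R).2 ⟨b, rfl⟩))
        rwa [mul_one] at this
      have := Good.NPerm.mul C.G h1 h1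
      rwa [(orbits θ R.cu).wO_mul_self] at this
  have h1 : N * (c * u) * N⁻¹ ∈ R.gp.gB ⊓ R.gp.gV := by
    refine Subgroup.mem_inf.2 ⟨?_, ?_⟩
    · have : N * (c * u) * N⁻¹ = (c * u)⁻¹ * (c * u * N * (c * u * N)) * (N * N)⁻¹ := by group
      rw [this, hsq, mul_one]
      exact mul_mem (inv_mem (R.gp.gU_le_gB hcu)) (inv_mem (R.gp.gH_le_gB hNN))
    · rw [show N * (c * u) * N⁻¹ = M * (he R b * (c * u) * (he R b)⁻¹) * M⁻¹ by rw [hN]; group]
      exact (R.gp.mem_gV_iff _).2 ((Subgroup.mem_normalizer_iff.1 (he_normalizes R b).1 _).1 hcu)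
  rw [R.gp.gB_inf_gV, Subgroup.mem_bot, conj_eq_one_iff, mul_eq_one_iff_eq_inv'] at h1
  rw [h1] at e
  have hNi : IsConj N i := isConj_iff.2 ⟨c⁻¹, by rw [e]; group⟩
  obtain ⟨y, hy⟩ := exists_sign_square R b
  have hy' : ∀ z, he R y * (M * he R (y * y * z)) * (he R y)⁻¹ = M * he R z := by
    intro z
    calc he R y * (M * he R (y * y * z)) * (he R y)⁻¹
        = M * (M⁻¹ * he R y * M) * he R (y * y * z) * (he R y)⁻¹ := by group
      _ = _ := by
        rw [mMax_conj_he, mul_assoc M, mul_assoc M, ← map_mul, ← map_inv (he R) y, ← map_mul]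
        congr 2
        rw [mul_comm, ← mul_assoc, ← mul_assoc, ← mul_assoc, inv_mul_cancel_right, inv_mul_cancel, one_mul]
  rcases hy with rfl | rfl
  · refine Or.inl ((isConj_iff.2 ⟨(he R y)⁻¹, ?_⟩ : IsConj M N).trans hNi)
    have h2 := hy' 1
    rw [mul_one, map_one, mul_one] at h2
    rw [inv_inv]
    conv_lhs => rw [← h2]
    rw [hN]
    group
  · refine Or.inr ((isConj_iff.2 ⟨(he R y)⁻¹, ?_⟩ : IsConj (M * ia R) N).trans hNi)
    have h2 := hy' (-1)
    rw [mul_neg_one] at h2
    rw [inv_inv, show ia R = he R (-1) from rfl]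
    conv_lhs => rw [← h2]
    rw [hN]
    group

/-- at most two classes of involutions -/
theorem invol_cases {i : ↥(twistedG2 K (3 ^ m))} (hi : i * i = 1) (h1 : i ≠ 1) :
    IsConj R.gp.mMax i ∨ IsConj (R.gp.mMax * ia R) i := by
  by_cases hB : i ∈ R.gp.gB
  swap
  · exact cases_of_not_mem R hi hB
  -- such an involution is conjugate to the one of the torus, and that one is conjugate out of the Borel group
  obtain ⟨u, hu, h, hh, rfl⟩ := R.gp.mem_gB_iff.1 hB
  obtain ⟨b, rfl⟩ := (mem_gH_iff R).1 hh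
  obtain ⟨t, x, v, rfl⟩ := (mem_gU_iff R).1 hu
  have hb : pe R t x v * (he R b * pe R t x v * (he R b)⁻¹) * he R (b * b) = 1 := by
    rw [map_mul]
    calc _ = pe R t x v * he R b * (pe R t x v * he R b) := by group
      _ = 1 := hi
  have hbb : he R (b * b) = 1 := by
    have hU : he R (b * b) ∈ R.gp.gU := by
      rw [show he R (b * b) = (pe R t x v * (he R b * pe R t x v * (he R b)⁻¹))⁻¹ from
        eq_inv_of_mul_eq_one_right hb]
      exact inv_mem (mul_mem hu ((Subgroup.mem_normalizer_iff.1 (he_normalizes R b).1 _).1 hu))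
    exact Subtype.ext (Subgroup.mem_bot.1 (C.G.U_inf_H (K := K) ▸ Subgroup.mem_inf.2
      ⟨hU, ((mem_gH_iff R).2 ⟨_, rfl⟩ : he R (b * b) ∈ R.gp.gH)⟩))
  have hconj : IsConj (ia R) (pe R t x v * he R b) := by
    rcases eq_or_ne (he R b) 1 with h | h
    · exfalso
      rw [h, mul_one] at hi h1
      have h9 : pe R t x v ^ 9 = 1 := by
        rw [show 9 = 3 * 3 from rfl, pow_mul, pe_cube, pe_cube]
        simp [pe_zero]
      apply h1
      calc pe R t x v = pe R t x v ^ 9 * (pe R t x v * pe R t x v)⁻¹ ^ 4 := by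
            rw [← pow_two, inv_pow, ← pow_mul]; group
        _ = 1 := by rw [h9, hi, inv_one, one_pow, one_mul]
    · have e : he R b = ia R := eq_ia_of_sq R ((mem_gH_iff R).2 ⟨b, rfl⟩) (by rw [← map_mul, hbb]) h
      rw [e] at hi ⊢
      set w := pe R t x v
      have h9 : w ^ 9 = 1 := by
        rw [show 9 = 3 * 3 from rfl, pow_mul, pe_cube, pe_cube]
        simp [pe_zero]
      have hw : ia R * w * (ia R)⁻¹ = w⁻¹ := by
        have hinv : (ia R)⁻¹ = ia R := inv_eq_of_mul_eq_one_right (ia_sq R)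
        rw [hinv]
        refine eq_inv_of_mul_eq_one_right ?_
        rw [← hi]
        group
      have hw5 : ia R * w ^ 5 * (ia R)⁻¹ = (w ^ 5)⁻¹ := by rw [← conj_pow, hw, inv_pow]
      refine isConj_iff.2 ⟨w ^ 5, ?_⟩
      calc w ^ 5 * ia R * (w ^ 5)⁻¹ = w ^ 5 * (ia R * w ^ 5 * (ia R)⁻¹)⁻¹ * ia R := by group
        _ = w ^ 10 * ia R := by rw [hw5, inv_inv, ← pow_add]
        _ = w * ia R := by rw [show 10 = 9 + 1 from rfl, pow_add, h9, one_mul, pow_one]
  set y := R.gp.mMax * pe R 1 0 0 * R.gp.mMax⁻¹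
  have hy : y ∈ R.gp.gV := (R.gp.mem_gV_iff _).2 (pe_mem_gU R _ _ _)
  have hout : y * ia R * y⁻¹ ∉ R.gp.gB := by
    intro h
    have h2 : y * (ia R * y⁻¹ * (ia R)⁻¹) ∈ R.gp.gB ⊓ R.gp.gV := by
      refine Subgroup.mem_inf.2 ⟨?_, mul_mem hy
        ((Subgroup.mem_normalizer_iff.1 (he_normalizes R (-1)).2 _).1 (inv_mem hy))⟩
      rw [show y * (ia R * y⁻¹ * (ia R)⁻¹) = y * ia R * y⁻¹ * (ia R)⁻¹ by group]
      exact mul_mem h (inv_mem (R.gp.gH_le_gB ((mem_gH_iff R).2 ⟨_, rfl⟩)))
    rw [R.gp.gB_inf_gV, Subgroup.mem_bot] at h2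
    have h3 : ia R * y * (ia R)⁻¹ = y := by
      have := mul_eq_one_iff_eq_inv.1 h2
      calc ia R * y * (ia R)⁻¹ = (ia R * y⁻¹ * (ia R)⁻¹)⁻¹ := by group
        _ = y := this.symm
    have h4 : ia R * pe R 1 0 0 * (ia R)⁻¹ = pe R 1 0 0 := by
      have hM := mMax_ia_commute R
      calc ia R * pe R 1 0 0 * (ia R)⁻¹ = R.gp.mMax⁻¹ * ((R.gp.mMax * ia R) * pe R 1 0 0 * (R.gp.mMax * ia R)⁻¹) *
            R.gp.mMax := by group
        _ = R.gp.mMax⁻¹ * (ia R * y * (ia R)⁻¹) * R.gp.mMax := by rw [hM.eq]; simp only [y]; group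
        _ = _ := by rw [h3]; simp only [y]; group
    rw [ia, he_conj] at h4
    have h5 := (pe_inj R h4).1
    rw [show (wHom θ (-1) : K) = -1 by rw [wHom_val]; simp, mul_one] at h5
    have h30 : (3 : K) = 0 := by exact_mod_cast CharP.cast_eq_zero K 3
    exact one_ne_zero (α := K) (by linear_combination h30 + h5)
  have hy2 : IsConj (y * ia R * y⁻¹) (pe R t x v * he R b) :=
    (isConj_iff.2 ⟨y⁻¹, by group⟩ : IsConj (y * ia R * y⁻¹) (ia R)).trans hconj
  rcases cases_of_not_mem R (i := y * ia R * y⁻¹) (by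
      rw [show y * ia R * y⁻¹ * (y * ia R * y⁻¹) = y * (ia R * ia R) * y⁻¹ by group, ia_sq, mul_one,
        mul_inv_cancel]) hout with h | h
  exacts [Or.inl (h.trans hy2), Or.inr (h.trans hy2)]

theorem two_ne : (2 : K) ≠ 0 := fun h => by
  have := (CharP.cast_eq_zero_iff K 3 2).1 (by exact_mod_cast h)
  omega

theorem fourHom_apply (a b : Multiplicative (ZMod 2)) :
    fourHom K (a, b) = invHom (QuotientGroup.mk Fam.wel : Matrix.ProjectiveSpecialLinearGroup (Fin 2) K) mk_sq.1 a *
      invHom (QuotientGroup.mk zel : Matrix.ProjectiveSpecialLinearGroup (Fin 2) K) mk_sq.2.1 b := rfl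

/-- the centraliser of the four-group in the projective group -/
theorem four_centralizer {x : Matrix.ProjectiveSpecialLinearGroup (Fin 2) K}
    (hw : Commute x (QuotientGroup.mk Fam.wel)) (hz : Commute x (QuotientGroup.mk zel)) :
    x ∈ (fourHom K).range := by
  obtain ⟨g, rfl⟩ := QuotientGroup.mk_surjective x
  have hpm : ∀ h : Matrix.SpecialLinearGroup (Fin 2) K,
      Commute (QuotientGroup.mk g : Matrix.ProjectiveSpecialLinearGroup (Fin 2) K) (QuotientGroup.mk h) →
      g.1 * h.1 = h.1 * g.1 ∨ g.1 * h.1 = -(h.1 * g.1) := by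
    intro h hc
    have e : (QuotientGroup.mk (g * h) : Matrix.ProjectiveSpecialLinearGroup (Fin 2) K) =
        QuotientGroup.mk (h * g) := hc.eq
    rw [QuotientGroup.eq] at e
    have e2 : (h * g).1 = (g * h).1 * ((g * h)⁻¹ * (h * g)).1 := by rw [← val_mul', mul_inv_cancel_left]
    rcases mem_center_cases e with he | he <;> rw [he] at e2
    · left; rw [mul_one, val_mul', val_mul'] at e2; exact e2.symm
    · right; rw [mul_neg, mul_one, val_mul', val_mul'] at e2; rw [e2, neg_neg]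
  obtain ⟨a, b, c, d, hg, hdet⟩ : ∃ a b c d, g.1 = !![a, b; c, d] ∧ a * d - b * c = 1 :=
    ⟨_, _, _, _, Matrix.eta_fin_two g.1, by rw [← Matrix.det_fin_two]; exact g.2⟩
  have h2 := two_ne (K := K)
  have h30 : (3 : K) = 0 := by exact_mod_cast CharP.cast_eq_zero K 3
  have mk_eq : ∀ (h : Matrix.SpecialLinearGroup (Fin 2) K) (ε : K), (ε = 1 ∨ ε = -1) → g.1 = ε • h.1 →
      (QuotientGroup.mk g : Matrix.ProjectiveSpecialLinearGroup (Fin 2) K) = QuotientGroup.mk h := by
    intro h ε hε he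
    rw [QuotientGroup.eq]
    refine inv_mem_iff.1 (mem_center_of_cases ?_)
    rw [_root_.mul_inv_rev, inv_inv]
    have e3 : (h⁻¹ * g).1 = ε • (1 : Matrix (Fin 2) (Fin 2) K) := by
      rw [val_mul', he, Matrix.mul_smul, ← val_mul', inv_mul_cancel]
      rfl
    rcases hε with rfl | rfl
    · left; rw [e3, one_smul]
    · right; rw [e3, neg_one_smul]
  have hW : g.1 * (Fam.wel : Matrix.SpecialLinearGroup (Fin 2) K).1 = !![b, -a; d, -c] ∧
      (Fam.wel : Matrix.SpecialLinearGroup (Fin 2) K).1 * g.1 = !![-c, -d; a, b] ∧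
      g.1 * (zel : Matrix.SpecialLinearGroup (Fin 2) K).1 = !![a + b, a - b; c + d, c - d] ∧
      (zel : Matrix.SpecialLinearGroup (Fin 2) K).1 * g.1 = !![a + c, b + d; a - c, b - d] := by
    simp [hg, Fam.wel, zel, Matrix.mul_fin_two, sub_eq_add_neg]
  obtain ⟨gw, wg, gz, zg⟩ := hW
  have hw' := hpm _ hw
  have hz' := hpm _ hz
  rw [gw, wg] at hw'
  rw [gz, zg] at hz'
  simp only [Matrix.of_apply, ← Matrix.ext_iff, Fin.forall_fin_two, Matrix.neg_apply, Matrix.cons_val',
    Matrix.cons_val_zero, Matrix.cons_val_one, Matrix.empty_val', Matrix.cons_val_fin_one] at hw' hz'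
  rcases hw' with ⟨⟨w1, w2⟩, -, -⟩ | ⟨⟨w1, w2⟩, -, -⟩ <;>
    rcases hz' with ⟨⟨z1, z2⟩, -, -⟩ | ⟨⟨z1, z2⟩, -, -⟩
  · have hb : b = 0 := mul_left_cancel₀ h2 (by linear_combination w1 + z1)
    have hc : c = 0 := by linear_combination w1 - hb
    have hd : d = a := by linear_combination w2
    rw [hb, hd] at hdet
    simp at hdet
    refine ⟨(1, 1), ?_⟩
    rw [show ((1, 1) : Multiplicative (ZMod 2) × Multiplicative (ZMod 2)) = 1 from rfl, map_one]
    refine Eq.trans (QuotientGroup.mk_one _).symm (mk_eq 1 a (mul_self_eq_one_iff.1 hdet) ?_).symm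
    rw [hg, hb, hc, hd]; simp [Matrix.one_fin_two]
  · have ha : a = 0 := mul_left_cancel₀ h2 (by linear_combination z1 - w1)
    have hd : d = 0 := by linear_combination w2 + ha
    have hc : c = -b := by linear_combination w1
    rw [ha, hd, hc] at hdet
    simp at hdet
    refine ⟨(Multiplicative.ofAdd 1, 1), ?_⟩
    refine Eq.trans ?_ (mk_eq Fam.wel (-b) ?_ ?_).symm
    · rw [fourHom_apply, invHom_gen, map_one, mul_one]
    · rcases mul_self_eq_one_iff.1 hdet with h | h <;> simp [h]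
    · rw [hg, ha, hd, hc]; simp [Fam.wel]
  · have hb : b = a := mul_left_cancel₀ h2 (by linear_combination -z2 + w2)
    have hc : c = a := by linear_combination -w1 + hb
    have hd : d = -a := by linear_combination -w2
    rw [hb, hc, hd] at hdet
    refine ⟨(1, Multiplicative.ofAdd 1), ?_⟩
    refine Eq.trans ?_ (mk_eq zel a ?_ ?_).symm
    · rw [fourHom_apply, invHom_gen, map_one, one_mul]
    · refine mul_self_eq_one_iff.1 ?_
      linear_combination hdet + a * a * h30
    · rw [hg, hb, hc, hd]; simp [zel]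
  · have hb : b = -a := mul_left_cancel₀ h2 (by linear_combination z1 + w1)
    have hc : c = -a := by linear_combination -w1 + hb
    have hd : d = -a := by linear_combination -w2
    rw [hb, hc, hd] at hdet
    refine ⟨(Multiplicative.ofAdd 1, Multiplicative.ofAdd 1), ?_⟩
    refine Eq.trans ?_ (mk_eq (Fam.wel * zel) (-a) ?_ ?_).symm
    · rw [fourHom_apply, invHom_gen, invHom_gen]; rfl
    · have h5 : a * a = 1 := by linear_combination hdet + a * a * h30
      rcases mul_self_eq_one_iff.1 h5 with h | h <;> simp [h]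
    · rw [hg, hb, hc, hd, val_mul']; simp [Fam.wel, zel, Matrix.mul_fin_two]

theorem eightHom_apply (n : Multiplicative (ZMod 2)) (p : Multiplicative (ZMod 2) × Multiplicative (ZMod 2)) :
    eightHom R (n, p) = zHom R (n, fourHom K p) := rfl

theorem range_centralizer : Subgroup.centralizer ((eightHom R).range : Set ↥(twistedG2 K (3 ^ m))) =
    (eightHom R).range := by
  refine le_antisymm (fun x hx => ?_) ?_
  · rw [Subgroup.mem_centralizer_iff] at hx
    have hia : ia R ∈ (eightHom R).range := ⟨(Multiplicative.ofAdd 1, 1), by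
      show invHom (ia R) (ia_sq R) (Multiplicative.ofAdd 1) * pHom R (fourHom K 1) = _
      rw [invHom_gen, (fourHom K).map_one, (pHom R).map_one, mul_one]⟩
    have hC : x ∈ Subgroup.centralizer {ia R} :=
      Subgroup.mem_centralizer_singleton_iff.2 (hx _ hia).symm
    rw [centralizer_eq R] at hC
    obtain ⟨⟨n, y⟩, rfl⟩ := hC
    have hcomm : ∀ p, Commute y (fourHom K p) := fun p => by
      have h := hx _ ⟨(1, p), eightHom_apply R 1 p⟩
      rw [← map_mul, ← map_mul] at h
      exact (congrArg Prod.snd (zHom_injective R h)).symm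
    obtain ⟨p, hp⟩ := four_centralizer (x := y)
      (by
        have h := hcomm (Multiplicative.ofAdd 1, 1)
        rwa [fourHom_apply, invHom_gen, map_one, mul_one] at h)
      (by
        have h := hcomm (1, Multiplicative.ofAdd 1)
        rwa [fourHom_apply, invHom_gen, map_one, one_mul] at h)
    exact ⟨(n, p), by rw [eightHom_apply, hp]⟩
  · intro x hx
    rw [Subgroup.mem_centralizer_iff]
    rintro _ ⟨p, rfl⟩
    obtain ⟨q, rfl⟩ := hx
    rw [← map_mul, ← map_mul, mul_comm]

theorem upper_conj_four :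
    (Fam.upper 1 * Fam.wel * (Fam.upper 1)⁻¹ : Matrix.SpecialLinearGroup (Fin 2) K) = zel ∧
    (Fam.upper 1 * zel * (Fam.upper 1)⁻¹ : Matrix.SpecialLinearGroup (Fin 2) K) = Fam.wel * zel := by
  have h30 : (3 : K) = 0 := by exact_mod_cast CharP.cast_eq_zero K 3
  constructor <;> rw [mul_inv_eq_iff_eq_mul] <;> refine Subtype.ext ?_ <;>
    simp only [val_mul'] <;> ext i j <;>
    fin_cases i <;> fin_cases j <;> simp [zel, Fam.wel, Fam.upper, Matrix.mul_apply, Fin.sum_univ_two] <;>
    first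
      | ring1
      | linear_combination h30
      | linear_combination -h30

theorem exp_two : ∀ x : Multiplicative (ZMod 2) × (Multiplicative (ZMod 2) × Multiplicative (ZMod 2)),
    x ^ 2 = 1 := by decide

theorem card_normalizer : Nat.card ↥(Subgroup.normalizer ((eightHom R).range : Set ↥(twistedG2 K (3 ^ m)))) = 168 := by
  classical
  haveI := Fact.mk Nat.prime_two
  set S := (eightHom R).range with hSdef
  set N := Subgroup.normalizer (S : Set ↥(twistedG2 K (3 ^ m)))
  let f : ↥N →* MulAut ↥S := S.normalizerMonoidHom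
  have hker : f.ker = S.subgroupOf N := by
    rw [show f.ker = (Subgroup.centralizer (S : Set ↥(twistedG2 K (3 ^ m)))).subgroupOf N from
      S.normalizerMonoidHom_ker, range_centralizer R]
  have hS8 : Nat.card ↥S = 8 := card_eightHom R
  have hN : Nat.card ↥N = 8 * Nat.card ↥f.range := by
    rw [Subgroup.card_eq_card_quotient_mul_card_subgroup f.ker,
      Nat.card_congr (QuotientGroup.quotientKerEquivRange f).toEquiv, hker,
      Nat.card_congr (Subgroup.subgroupOfEquivOfLe (Subgroup.le_normalizer (H := S))).toEquiv, hS8, mul_comm]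
  set k := Nat.card ↥f.range
  have hk168 : k ∣ 168 := by
    have h1 : Nat.card (MulAut ↥S) = 168 := by
      rw [← Nat.card_congr (MulAut.congr (MonoidHom.ofInjective (eightHom_injective R))).toEquiv,
        CfsgLib.Char.card_mulAut_of_exponent_prime (p := 2) (n := 3)]
      · unfold CfsgLib.Char.glCard; decide
      · exact exp_two
      · simp
    exact h1 ▸ Subgroup.card_subgroup_dvd_card _
  have hodd : ¬ 2 ∣ k := by
    intro h2
    refine index_eightHom R (h2.trans ?_)
    have hle : S ≤ N := Subgroup.le_normalizer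
    have : k = S.relIndex N := by
      rw [Subgroup.relIndex, ← hker]
      exact (Nat.card_congr (QuotientGroup.quotientKerEquivRange f).toEquiv).symm
    rw [this, ← Subgroup.relIndex_mul_index hle]
    exact dvd_mul_right _ _
  have h3 : 3 ∣ k := by
    set g := zHom R (1, QuotientGroup.mk (Fam.upper 1))
    have hmem : ∀ x : Multiplicative (ZMod 2) × (Multiplicative (ZMod 2) × Multiplicative (ZMod 2)),
        g * eightHom R x * g⁻¹ ∈ S := by
      rintro ⟨n, p1, p2⟩
      obtain ⟨u1, u2⟩ := upper_conj_four (K := K)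
      set q : Matrix.ProjectiveSpecialLinearGroup (Fin 2) K := QuotientGroup.mk (Fam.upper 1)
      have e1 : q * QuotientGroup.mk Fam.wel * q⁻¹ = fourHom K (1, Multiplicative.ofAdd 1) := by
        rw [fourHom_apply, invHom_gen, map_one, one_mul]
        exact congrArg (fun z : Matrix.SpecialLinearGroup (Fin 2) K =>
          (QuotientGroup.mk z : Matrix.ProjectiveSpecialLinearGroup (Fin 2) K)) u1
      have e2 : q * QuotientGroup.mk zel * q⁻¹ = fourHom K (Multiplicative.ofAdd 1, Multiplicative.ofAdd 1) := by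
        rw [fourHom_apply, invHom_gen, invHom_gen]
        exact congrArg (fun z : Matrix.SpecialLinearGroup (Fin 2) K =>
          (QuotientGroup.mk z : Matrix.ProjectiveSpecialLinearGroup (Fin 2) K)) u2
      obtain ⟨r, hr⟩ : ∃ r, q * fourHom K (p1, p2) * q⁻¹ = fourHom K r := by
        have hx : ∀ p1, ∃ r, q * invHom _ mk_sq.1 p1 * q⁻¹ = fourHom K r := fun p1 => by
          rcases mult_cases p1 with rfl | rfl
          · exact ⟨1, by rw [map_one, map_one, mul_one, mul_inv_cancel]⟩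
          · exact ⟨_, by rw [invHom_gen]; exact e1⟩
        have hy : ∀ p2, ∃ r, q * invHom _ mk_sq.2.1 p2 * q⁻¹ = fourHom K r := fun p2 => by
          rcases mult_cases p2 with rfl | rfl
          · exact ⟨1, by rw [map_one, map_one, mul_one, mul_inv_cancel]⟩
          · exact ⟨_, by rw [invHom_gen]; exact e2⟩
        obtain ⟨r1, h1⟩ := hx p1
        obtain ⟨r2, h2⟩ := hy p2
        refine ⟨r1 * r2, ?_⟩
        rw [map_mul, ← h1, ← h2, fourHom_apply]
        group
      refine ⟨(n, r), ?_⟩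
      rw [eightHom_apply, eightHom_apply, ← map_inv, ← map_mul, ← map_mul, ← hr]
      simp
      rfl
    have hgN : g ∈ N := by
      rw [Subgroup.mem_normalizer_iff]
      have hfin : S.map (MulAut.conj g).toMonoidHom = S := by
        refine Subgroup.eq_of_le_of_card_ge ?_ ?_
        · rintro _ ⟨_, ⟨x, rfl⟩, rfl⟩; exact hmem x
        · rw [Nat.card_congr (Subgroup.equivMapOfInjective _ (MulAut.conj g).toMonoidHom (MulAut.conj g).injective).toEquiv]
      intro y
      conv_rhs => rw [← hfin]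
      rw [Subgroup.mem_map_equiv, MulAut.conj_symm_apply]
      simp [mul_assoc]
    have hg3 : g ^ 3 = 1 := by
      have hu : (Fam.upper 1 : Matrix.SpecialLinearGroup (Fin 2) K) ^ 3 = 1 := by
        have h30 : (3 : K) = 0 := by exact_mod_cast CharP.cast_eq_zero K 3
        refine Subtype.ext ?_
        rw [pow_succ, pow_two, val_mul', val_mul']
        simp only [Fam.upper, Matrix.mul_fin_two]
        rw [Matrix.SpecialLinearGroup.coe_one, Matrix.one_fin_two]
        norm_num
        linear_combination h30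
      rw [← map_pow, Prod.pow_mk, one_pow, ← QuotientGroup.mk_pow, hu, QuotientGroup.mk_one]
      exact map_one (zHom R)
    have hg1 : f ⟨g, hgN⟩ ≠ 1 := by
      intro h
      have h' : (⟨g, hgN⟩ : ↥N) ∈ f.ker := h
      rw [hker] at h'
      have hgS : g ∈ S := h'
      obtain ⟨x, hx⟩ := hgS
      have h2 : g * g = 1 := by rw [← hx]; exact eightHom_sq R x
      have h4 : g = 1 := by rwa [pow_succ, pow_two, h2, one_mul] at hg3
      rw [← map_one (zHom R)] at h4
      have h5 := congrArg (pHom R) (congrArg Prod.snd (zHom_injective R h4))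
      simp only [Prod.snd_one, map_one, pHom_mk] at h5
      exact one_ne_zero (cHom_upper_inj R h5)
    have ho : orderOf (⟨f ⟨g, hgN⟩, ⟨_, rfl⟩⟩ : ↥f.range) = 3 := by
      haveI := Fact.mk Nat.prime_three
      refine orderOf_eq_prime ?_ fun h => hg1 (congrArg Subtype.val h)
      refine Subtype.ext ?_
      show f ⟨g, hgN⟩ ^ 3 = 1
      rw [← map_pow, show (⟨g, hgN⟩ : ↥N) ^ 3 = 1 from Subtype.ext hg3, map_one]
    exact ho ▸ orderOf_dvd_natCard _
  have h7 : 7 ∣ k := by
    by_contra h7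
    have hk3 : k ≤ 3 := by
      have hco : Nat.Coprime k 56 := by
        have h2' : Nat.Coprime k 2 := ((Nat.Prime.coprime_iff_not_dvd Nat.prime_two).2 hodd).symm
        have h7' : Nat.Coprime k 7 := ((Nat.Prime.coprime_iff_not_dvd (by norm_num)).2 h7).symm
        exact Nat.Coprime.mul_right (k := k) (m := 8) (n := 7) (h2'.pow_right 3) h7'
      exact Nat.le_of_dvd (by norm_num) (hco.dvd_of_dvd_mul_right (by norm_num; exact hk168))
    obtain ⟨S0, hS0⟩ := exists_sylow_two R
    haveI : IsMulCommutative (S0 : Subgroup ↥(twistedG2 K (3 ^ m))) := by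
      refine ⟨⟨fun x y => ?_⟩⟩
      obtain ⟨p, hp⟩ : (x : ↥(twistedG2 K (3 ^ m))) ∈ (eightHom R).range := hS0 ▸ x.2
      obtain ⟨p', hp'⟩ : (y : ↥(twistedG2 K (3 ^ m))) ∈ (eightHom R).range := hS0 ▸ y.2
      exact Subtype.ext (by rw [Subgroup.coe_mul, Subgroup.coe_mul, ← hp, ← hp', ← map_mul, ← map_mul, mul_comm])
    -- conjugate elements of the Sylow group are in one orbit
    let T := {x : ↥S // x ≠ 1}
    have horb : ∀ x : T, Nat.card {y : T // IsConj (x.1 : ↥(twistedG2 K (3 ^ m))) y.1} ≤ 3 := by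
      intro x
      refine le_trans ?_ hk3
      have hsel : ∀ y : {y : T // IsConj (x.1 : ↥(twistedG2 K (3 ^ m))) y.1},
          ∃ α : ↥f.range, α.1 x.1 = y.1.1 := by
        rintro ⟨y, hy⟩
        obtain ⟨c, hc⟩ := isConj_iff.1 hy
        obtain ⟨n, hn, hne⟩ := Sylow.conj_eq_normalizer_conj_of_mem S0 (x.1 : ↥(twistedG2 K (3 ^ m))) c⁻¹
          (show (x.1 : ↥(twistedG2 K (3 ^ m))) ∈ (S0 : Subgroup ↥(twistedG2 K (3 ^ m))) by rw [hS0]; exact x.1.2)
          (show c⁻¹⁻¹ * (x.1 : ↥(twistedG2 K (3 ^ m))) * c⁻¹ ∈ (S0 : Subgroup ↥(twistedG2 K (3 ^ m))) by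
            rw [inv_inv, hc, hS0]; exact y.1.2)
        have hn' : n⁻¹ ∈ N := inv_mem (show n ∈ Subgroup.normalizer ((eightHom R).range : Set _) by
          rw [← hS0]; exact hn)
        refine ⟨⟨f ⟨n⁻¹, hn'⟩, _, rfl⟩, Subtype.ext ?_⟩
        show n⁻¹ * (x.1 : ↥(twistedG2 K (3 ^ m))) * n⁻¹⁻¹ = _
        rw [inv_inv, ← hne, inv_inv, hc]
      choose α hα using hsel
      refine Nat.card_le_card_of_injective α fun y y' h => ?_
      exact Subtype.ext (Subtype.ext (by rw [← hα y, ← hα y', h]))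
    have hT : Nat.card T = 7 := by
      haveI : Fintype ↥S := Fintype.ofFinite _
      rw [Nat.card_eq_fintype_card, Fintype.card_subtype_compl, Fintype.card_subtype_eq,
        ← Nat.card_eq_fintype_card, hS8]
    have hcls : ∀ x : T, IsConj R.gp.mMax (x.1 : ↥(twistedG2 K (3 ^ m))) ∨
        IsConj (R.gp.mMax * ia R) (x.1 : ↥(twistedG2 K (3 ^ m))) := fun x => by
      obtain ⟨p, hp⟩ := x.1.2
      refine invol_cases R (by rw [← hp]; exact eightHom_sq R p) fun h => x.2 (Subtype.ext h)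
    let A := {x : T // IsConj R.gp.mMax (x.1 : ↥(twistedG2 K (3 ^ m)))}
    let B := {x : T // IsConj (R.gp.mMax * ia R) (x.1 : ↥(twistedG2 K (3 ^ m)))}
    have hA : Nat.card A ≤ 3 := by
      by_cases h : Nonempty A
      · obtain ⟨x⟩ := h
        refine le_trans (Nat.card_le_card_of_injective
          (fun y : A => (⟨y.1, x.2.symm.trans y.2⟩ : {y : T // IsConj (x.1.1 : ↥(twistedG2 K (3 ^ m))) y.1}))
          fun y y' h => ?_) (horb x.1)
        exact Subtype.ext (congrArg (fun z => z.1) h)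
      · haveI := not_nonempty_iff.1 h
        simp
    have hB : Nat.card B ≤ 3 := by
      by_cases h : Nonempty B
      · obtain ⟨x⟩ := h
        refine le_trans (Nat.card_le_card_of_injective
          (fun y : B => (⟨y.1, x.2.symm.trans y.2⟩ : {y : T // IsConj (x.1.1 : ↥(twistedG2 K (3 ^ m))) y.1}))
          fun y y' h => ?_) (horb x.1)
        exact Subtype.ext (congrArg (fun z => z.1) h)
      · haveI := not_nonempty_iff.1 h
        simp
    have hle := Nat.card_le_card_of_surjective (fun z : A ⊕ B => Sum.elim (fun a => a.1) (fun b => b.1) z)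
      fun x => (hcls x).elim (fun h => ⟨Sum.inl ⟨x, h⟩, rfl⟩) fun h => ⟨Sum.inr ⟨x, h⟩, rfl⟩
    rw [hT, Nat.card_sum] at hle
    omega
  have hk21 : k = 21 := by
    have h21 : 21 ∣ k := Nat.Coprime.mul_dvd_of_dvd_of_dvd (by norm_num : Nat.Coprime 3 7) h3 h7
    obtain ⟨j, hj⟩ := h21
    rw [hj] at hk168 hodd
    have hj8 : j ∣ 8 := Nat.dvd_of_mul_dvd_mul_left (show 0 < 21 by norm_num) (by norm_num; exact hk168)
    have hj2 : Nat.Coprime j 2 := ((Nat.Prime.coprime_iff_not_dvd Nat.prime_two).2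
      fun h => hodd (dvd_mul_of_dvd_right h 21)).symm
    rw [hj, Nat.eq_one_of_dvd_coprimes (hj2.pow_right 3) dvd_rfl hj8]
  rw [hN, hk21]

include R in
theorem sylow_facts (S : Sylow 2 ↥(twistedG2 K (3 ^ m))) :
    Subgroup.centralizer ((S : Subgroup ↥(twistedG2 K (3 ^ m))) : Set ↥(twistedG2 K (3 ^ m))) = S ∧
      Nat.card (Subgroup.normalizer ((S : Subgroup ↥(twistedG2 K (3 ^ m))) : Set ↥(twistedG2 K (3 ^ m)))) = 168 := by
  haveI := Fact.mk Nat.prime_two
  obtain ⟨S0, hS0⟩ := exists_sylow_two R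
  obtain ⟨g, rfl⟩ := MulAction.exists_smul_eq ↥(twistedG2 K (3 ^ m)) S0 S
  have hset : ((g • S0 : Sylow 2 ↥(twistedG2 K (3 ^ m))) : Subgroup ↥(twistedG2 K (3 ^ m))) =
      (eightHom R).range.map (MulAut.conj g).toMonoidHom := by
    rw [Sylow.coe_subgroup_smul, hS0]; rfl
  rw [hset]
  have hc : Subgroup.centralizer (((eightHom R).range.map (MulAut.conj g).toMonoidHom : Subgroup ↥(twistedG2 K (3 ^ m))) :
      Set ↥(twistedG2 K (3 ^ m))) =
      (Subgroup.centralizer ((eightHom R).range : Set ↥(twistedG2 K (3 ^ m)))).map (MulAut.conj g).toMonoidHom := by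
    ext x
    rw [Subgroup.mem_map_equiv, Subgroup.mem_centralizer_iff, Subgroup.mem_centralizer_iff]
    constructor
    · intro h y hy
      apply (MulAut.conj g).injective
      rw [map_mul, map_mul, MulEquiv.apply_symm_apply]
      exact h _ ⟨y, hy, rfl⟩
    · rintro h _ ⟨y, hy, rfl⟩
      apply (MulAut.conj g).symm.injective
      rw [map_mul, map_mul]
      show (MulAut.conj g).symm (MulAut.conj g y) * _ = _ * (MulAut.conj g).symm (MulAut.conj g y)
      rw [MulEquiv.symm_apply_apply]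
      exact h y hy
  refine ⟨by rw [hc, range_centralizer R], ?_⟩
  rw [← Subgroup.map_equiv_normalizer_eq]
  exact (Nat.card_congr (Subgroup.equivMapOfInjective _ (MulAut.conj g).toMonoidHom (MulAut.conj g).injective).toEquiv).symm.trans
    (card_normalizer R)

end CfsgLib.Lie.Chev.TG2
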