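import Cfsg.Agent.Lib.Lie.Chev.Tw.Ree.SevenRep
import Cfsg.Agent.Lib.Lie.SylowCyclic

/-!
# ²G₂(q): the Sylow subgroups for the primes above three are cyclic
-/

set_option autoImplicit false
set_option maxRecDepth 100000
set_option linter.unusedSectionVars false

namespace CfsgLib.Lie.Chev.TG2

open Cfsg.Lie
open scoped MatrixGroups

variable {K : Type*} [Field K] [Fintype K] [CharP K 3] {θ : K ≃+* K} {m : ℕ} (R : Ree θ m)

/-- the divisibilities used in the case of `q² - q + 1` -/
theorem only_six {p q : ℕ} [Fact p.Prime] (hp : 3 < p) (hd : p ∣ q ^ 3 + 1) (hn : ¬ p ∣ q + 1) :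
    ∀ i, 1 ≤ i → i ≤ 7 → i ≠ 6 → ¬ p ∣ q ^ i - 1 := by
  intro i h1 h7 h6 hi
  have hz : ((q : ZMod p)) ^ 3 = -1 := by
    rw [eq_neg_iff_add_eq_zero]
    exact_mod_cast (ZMod.natCast_eq_zero_iff _ _).2 hd
  have hn' : (q : ZMod p) ≠ -1 := fun e => hn ((ZMod.natCast_eq_zero_iff _ _).1 (by push_cast; rw [e, neg_add_cancel]))
  have hq0 : 1 ≤ q ^ i := by
    rcases Nat.eq_zero_or_pos q with rfl | h
    · simp at hd; omega
    · exact Nat.one_le_pow _ _ h
  have hi' : (q : ZMod p) ^ i = 1 := by
    have := (ZMod.natCast_eq_zero_iff _ _).2 hi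
    rw [Nat.cast_sub hq0, sub_eq_zero] at this
    simpa using this
  have hsmall : ∀ k : ℕ, 0 < k → k < p → (k : ZMod p) ≠ 0 := fun k h0 hk e =>
    absurd (Nat.le_of_dvd h0 ((ZMod.natCast_eq_zero_iff _ _).1 e)) (by omega)
  have h2 : (2 : ZMod p) ≠ 0 := by exact_mod_cast hsmall 2 (by omega) (by omega)
  have h3 : (3 : ZMod p) ≠ 0 := by exact_mod_cast hsmall 3 (by omega) (by omega)
  set x := (q : ZMod p)
  interval_cases i
  · exact h2 (by rw [pow_one] at hi'; rw [hi'] at hz; linear_combination hz)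
  · have hx : x ≠ 1 := fun e => h2 (by rw [e] at hz; linear_combination hz)
    rcases sq_eq_one_iff.1 hi' with e | e
    exacts [hx e, hn' e]
  · exact h2 (by linear_combination hz - hi')
  · exact hn' (by linear_combination x * hz - hi')
  · have hx2 : x ^ 2 = -1 := by linear_combination x ^ 2 * hz - hi'
    have hx : x = 1 := by linear_combination x * hx2 - hz
    rw [hx] at hx2
    exact h2 (by linear_combination hx2)
  · exact absurd rfl h6
  · have hx : x = 1 := by linear_combination hi' - x * (x ^ 3 - 1) * hz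
    exact h2 (by rw [hx] at hz; linear_combination hz)

include R in
theorem sylow_cyclic (hm : 1 ≤ m) {p : ℕ} [hpp : Fact p.Prime] (hp : 3 < p)
    (P : Sylow p ↥(twistedG2 K (3 ^ m))) : IsCyclic (P : Subgroup ↥(twistedG2 K (3 ^ m))) := by
  classical
  obtain ⟨-, -, -, hcard, -⟩ := summary (K := K) R.big
  rw [← R.big] at hcard
  set q := Fintype.card K with hq
  have hq1 : 1 < q := Fintype.one_lt_card
  have hp3 : ¬ p ∣ q := by
    intro h
    rw [hq, R.big] at h
    have := (Nat.prime_dvd_prime_iff_eq hpp.out Nat.prime_three).1 (hpp.out.dvd_of_dvd_pow h)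
    omega
  have hodd : q % 2 = 1 := FiniteField.odd_card_of_char_ne_two (by rw [ringChar.eq K 3]; norm_num)
  have hA : q ^ 3 ≠ 0 := pow_ne_zero _ (by omega)
  have hB : q - 1 ≠ 0 := by omega
  have hC : q ^ 3 + 1 ≠ 0 := by omega
  have hfac : (Nat.card ↥(twistedG2 K (3 ^ m))).factorization p =
      (q - 1).factorization p + (q ^ 3 + 1).factorization p := by
    rw [hcard, Nat.factorization_mul (mul_ne_zero hA hB) hC, Nat.factorization_mul hA hB, Finsupp.add_apply,
      Finsupp.add_apply, Nat.factorization_eq_zero_of_not_dvd fun h => hp3 (hpp.out.dvd_of_dvd_pow h), zero_add]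
  have hdiv : q ^ 3 + 1 = (q + 1) * (q ^ 2 + 1 - q) := by
    have : q ≤ q ^ 2 + 1 := (Nat.le_self_pow two_ne_zero q).trans (Nat.le_succ _)
    zify [this]; ring
  by_cases h1 : p ∣ q - 1
  · have h0 : ¬ p ∣ q ^ 3 + 1 := fun h => by
      have hx : (q : ZMod p) = 1 := by
        have := (ZMod.natCast_eq_zero_iff _ _).2 h1
        rw [Nat.cast_sub (by omega), sub_eq_zero] at this
        simpa using this
      have h2 := (ZMod.natCast_eq_zero_iff _ _).2 h
      push_cast at h2
      rw [hx, one_pow] at h2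
      have h22 : p ∣ 2 := (ZMod.natCast_eq_zero_iff 2 p).1 (by push_cast; linear_combination h2)
      exact absurd (Nat.le_of_dvd two_pos h22) (by omega)
    obtain ⟨u, hu⟩ := IsCyclic.exists_ofOrder_eq_natCard (α := Kˣ)
    refine SylowCyclic.isCyclic_sylow_of_dvd (g := he R u) ?_ P
    rw [orderOf_injective (he R) (he_injective R), hu, Nat.card_units, Nat.card_eq_fintype_card (α := K), ← hq, hfac,
      Nat.factorization_eq_zero_of_not_dvd h0, add_zero]
    exact Nat.ordProj_dvd _ _
  rw [Nat.factorization_eq_zero_of_not_dvd h1, zero_add] at hfac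
  by_cases h2 : p ∣ q + 1
  · -- inside the centraliser of an involution
    have h0 : ¬ p ∣ q ^ 2 + 1 - q := fun h => by
      have hx : (q : ZMod p) = -1 := by
        have := (ZMod.natCast_eq_zero_iff _ _).2 h2
        push_cast at this
        linear_combination this
      have h3 := (ZMod.natCast_eq_zero_iff _ _).2 h
      rw [Nat.cast_sub ((Nat.le_self_pow two_ne_zero q).trans (Nat.le_succ _))] at h3
      push_cast at h3
      rw [hx] at h3
      have h33 : p ∣ 3 := (ZMod.natCast_eq_zero_iff 3 p).1 (by push_cast; linear_combination h3)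
      exact absurd (Nat.le_of_dvd three_pos h33) (by omega)
    have hqq : q ^ 2 + 1 - q ≠ 0 := by
      have := Nat.le_self_pow two_ne_zero q
      omega
    rw [hdiv, Nat.factorization_mul (by omega) hqq, Finsupp.add_apply, Nat.factorization_eq_zero_of_not_dvd h0,
      add_zero] at hfac
    set e := (q + 1).factorization p with he'
    have hdvd : p ^ e ∣ Fintype.card K ^ 2 - 1 :=
      (Nat.ordProj_dvd (q + 1) p).trans ⟨q - 1, by rw [← hq, ← Nat.sq_sub_sq, one_pow]⟩
    obtain ⟨g, hg⟩ := CfsgLib.GLClass.exists_orderOf_eq (F := K) (n := 2) one_le_two le_rfl hdvd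
    have hcop : ∀ k, p ^ e ∣ k * (q - 1) → p ^ e ∣ k := fun k =>
      ((Nat.Prime.coprime_iff_not_dvd hpp.out).2 h1).pow_left e |>.dvd_of_dvd_mul_right
    have hdet : Matrix.GeneralLinearGroup.det g = 1 := by
      refine orderOf_eq_one_iff.1 (Nat.eq_one_of_dvd_coprimes
        ((((Nat.Prime.coprime_iff_not_dvd hpp.out).2 h1).pow_left e)) ?_ ?_)
      · exact hg ▸ orderOf_map_dvd _ g
      · refine orderOf_dvd_of_pow_eq_one ?_
        ext
        rw [Units.val_pow_eq_pow_val, hq, FiniteField.pow_card_sub_one_eq_one _ (Units.ne_zero _), Units.val_one]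
    let s : Matrix.SpecialLinearGroup (Fin 2) K := ⟨g.1, congrArg Units.val hdet⟩
    have hs : orderOf s = p ^ e := by
      rw [← orderOf_injective (Matrix.SpecialLinearGroup.toGL) (fun a b h => Subtype.ext (congrArg Units.val h)),
        show Matrix.SpecialLinearGroup.toGL s = g from Units.ext rfl, hg]
    set x : Matrix.ProjectiveSpecialLinearGroup (Fin 2) K := QuotientGroup.mk s with hx
    have hx' : p ^ e ∣ orderOf x := by
      have h3 : s ^ (orderOf x * 2) = 1 := by
        have h4 : s ^ orderOf x ∈ Subgroup.center (Matrix.SpecialLinearGroup (Fin 2) K) := by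
          rw [← QuotientGroup.eq_one_iff, QuotientGroup.mk_pow, ← hx, pow_orderOf_eq_one]
        rw [pow_mul, pow_two]
        rcases mem_center_cases h4 with h | h <;> refine Subtype.ext ?_ <;>
          rw [Matrix.SpecialLinearGroup.coe_mul, h] <;> simp
      have h5 := hs ▸ orderOf_dvd_of_pow_eq_one h3
      exact (((Nat.Prime.coprime_iff_not_dvd hpp.out).2 (fun h => absurd (Nat.le_of_dvd two_pos h) (by omega))).pow_left
        e).dvd_of_dvd_mul_right h5
    refine SylowCyclic.isCyclic_sylow_of_dvd (g := zHom R (1, x)) ?_ P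
    rw [orderOf_injective (zHom R) (zHom_injective R), Prod.orderOf_mk, orderOf_one, Nat.lcm_one_left, hfac]
    exact hx'
  by_cases h3 : p ∣ q ^ 3 + 1
  · exact SylowCyclic.isCyclic_of_rep (F := K) (card_SI) (d := 6) (by norm_num) (by norm_num) hp3
      (only_six hp h3 h2) P.isPGroup' ((sevenHom R).comp (P : Subgroup ↥(twistedG2 K (3 ^ m))).subtype)
      ((sevenHom_injective R hm).comp Subtype.val_injective)
  · rw [Nat.factorization_eq_zero_of_not_dvd h3] at hfac
    exact SylowCyclic.isCyclic_sylow_of_dvd (g := 1) (by rw [hfac, pow_zero]; exact one_dvd _) P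

end CfsgLib.Lie.Chev.TG2
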