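import Cfsg.Agent.Lib.Lie.Chev.Tw.Ree.Group

/-!
# ²G₂(q) is generated by two elements
-/

set_option autoImplicit false
set_option maxRecDepth 100000

namespace CfsgLib.Lie.Chev

open Cfsg.Lie
open scoped MatrixGroups

namespace TG2

section

variable {K : Type*} [Field K] [CharP K 3] (θ : K ≃+* K) (hcu : ∀ x, θ.symm x = θ x ^ 3)

include hcu in
theorem reeP_add_tail (t u v u' v' : K) :
    reeP θ t u v * reeP θ (0 : K) u' v' = reeP θ t (u + u') (v + v') := by
  simp only [reeP, ree, one_mul, map_zero]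
  rw [form_mul]
  simp only [add_zero, zero_mul, zero_add, sub_zero, map_add, mul_zero,
    zero_pow (show (3 : ℕ) ≠ 0 by norm_num)]
  congr 2 <;> ring

include hcu in
theorem reeP_mul_t (t u v t' u' v' : K) :
    ∃ u'' v'', reeP θ t u v * reeP θ t' u' v' = reeP θ (t + t') u'' v'' ∧
      θ u'' = θ t' * t + θ t * t + θ u + (θ t' * t' + θ u') - θ (t + t') * (t + t') := by
  refine ⟨u - θ t' ^ 3 * t + u',
    v - θ t' ^ 3 * t * t - t' * (u - θ t' ^ 3 * t) + v', ?_, ?_⟩
  · simp only [reeP, ree, one_mul]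
    rw [form_mul]
    simp only [map_add, map_sub, map_mul, map_pow]
    have hA : θ (θ t') ^ 3 = t' := by rw [← hcu, θ.symm_apply_apply]
    have h3 : (3 : K) = 0 := by exact_mod_cast CharP.cast_eq_zero K 3
    rw [hA]
    congr 2
    · ring
    · linear_combination (-θ t * θ t' * (t + t')) * h3
  · simp only [map_add, map_sub, map_mul, map_pow]
    have hA : θ (θ t') ^ 3 = t' := by rw [← hcu, θ.symm_apply_apply]
    rw [hA]
    ring

end

variable {K : Type*} [Field K] [Fintype K] {m : ℕ}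

theorem two_gen (hm : 1 ≤ m) (hK : Fintype.card K = 3 ^ (2 * m + 1)) :
    ∃ a b : ↥(twistedG2 K (3 ^ m)), Subgroup.closure ({a, b} : Set ↥(twistedG2 K (3 ^ m))) = ⊤ := by
  classical
  obtain ⟨n, hn, hnN, hmove, -, -⟩ := moved_facts hK
  obtain ⟨hc, θ, hcu, hH, hU⟩ := mem_torus_iff hK
  obtain ⟨k, hk⟩ := IsCyclic.exists_generator (α := Kˣ)
  have hk1 : (k : K) ≠ 1 := by
    intro h
    have hk' : k = 1 := Units.ext h
    subst hk'
    have h3 : (-1 : Kˣ) ≠ 1 := fun e => by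
      have h4 : (3 : K) = 0 := by exact_mod_cast CharP.cast_eq_zero K 3
      have h5 : (-1 : K) = 1 := by simpa using congrArg Units.val e
      exact one_ne_zero (α := K) (by linear_combination h4 + h5)
    obtain ⟨z, hz⟩ := hk (-1)
    exact h3 (hz.symm.trans (one_zpow z))
  set Γ := twistedG2 K (3 ^ m)
  set h := C.G.torθ (par θ k) with hh
  have hhΓ : h ∈ Γ := (Subgroup.mem_inf.1 ((hH h).2 ⟨k, rfl⟩)).2
  have hxΓ : reeP θ (1 : K) 0 0 ∈ Γ := (Subgroup.mem_inf.1 ((hU _).2 ⟨1, 0, 0, rfl⟩)).2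
  let a : ↥Γ := ⟨h, hhΓ⟩
  let b : ↥Γ := ⟨reeP θ (1 : K) 0 0 * n, mul_mem hxΓ hn⟩
  refine ⟨a, b, ?_⟩
  set S := Subgroup.closure ({(a : GL chevG2.Idx K), (b : GL chevG2.Idx K)} : Set (GL chevG2.Idx K))
  suffices hle : Γ ≤ S by
    rw [eq_top_iff]
    intro x _
    have hx : (x : GL chevG2.Idx K) ∈ (Subgroup.closure ({a, b} : Set ↥Γ)).map Γ.subtype := by
      rw [MonoidHom.map_closure, Set.image_pair]
      exact hle x.2
    obtain ⟨y, hy, e⟩ := hx
    exact Subtype.ext e ▸ hy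
  have hhS : h ∈ S := Subgroup.subset_closure (Set.mem_insert _ _)
  have hbS : reeP θ (1 : K) 0 0 * n ∈ S := Subgroup.subset_closure (Set.mem_insert_of_mem _ rfl)
  set χ : K → K := fun B => B ^ 2 * (θ B)⁻¹ ^ 3
  have hχ : ∀ u : Kˣ, χ u = 1 → u = 1 := fun u e => by
    have hA : θ (u : K) ≠ 0 := fun e => u.ne_zero ((map_eq_zero θ).1 e)
    simp only [χ, inv_pow] at e
    rw [mul_inv_eq_one₀ (pow_ne_zero _ hA)] at e
    exact Units.ext (sq_eq_cube_theta θ hcu u.ne_zero e)
  -- the conjugate of the torus element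
  obtain ⟨k', hk'⟩ : ∃ k' : Kˣ, n * h * n⁻¹ = C.G.torθ (par θ k') := by
    refine (hH _).1 (Subgroup.mem_inf.2 ⟨?_, mul_mem (mul_mem hn hhΓ) (inv_mem hn)⟩)
    exact (Subgroup.mem_normalizer_iff.1 (C.G.monomial_le_normalizer hnN) h).1
      (Subgroup.mem_inf.1 ((hH h).2 ⟨k, rfl⟩)).1
  have hk'1 : k' ≠ 1 := fun e => by
    rw [e, show C.G.torθ (par θ (1 : Kˣ)) = 1 from
      map_one ((C.G.torθ (K := K)).comp (parHom θ)), conj_eq_one_iff] at hk'
    have h1 : C.G.torθ (par θ k) = C.G.torθ (par θ (1 : Kˣ)) :=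
      hk'.trans (map_one ((C.G.torθ (K := K)).comp (parHom θ))).symm
    exact hk1 (by rw [torθ_par_injective θ h1, Units.val_one])
  have hconj : ∀ (u : Kˣ) (t p q : K), ∃ p' q',
      C.G.torθ (par θ u) * reeP θ t p q * (C.G.torθ (par θ u))⁻¹ = reeP θ (χ u * t) p' q' :=
    fun u t p q => ⟨_, _, tor_conj_reeP θ hcu u t p q⟩
  have hinv : ∀ t p q : K, ∃ p' q', (reeP θ t p q)⁻¹ = reeP θ (-t) p' q' := fun t p q => by
    obtain ⟨hc1, hc2⟩ := Subgroup.mem_inf.1 ((hU _).2 ⟨t, p, q, rfl⟩)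
    obtain ⟨t', p', q', e⟩ := (hU _).1 (Subgroup.mem_inf.2 ⟨inv_mem hc1, inv_mem hc2⟩)
    obtain ⟨p'', q'', e', -⟩ := reeP_mul_t θ hcu t p q t' p' q'
    rw [← e, mul_inv_cancel, ← reeP_zero θ hcu] at e'
    rw [e, eq_neg_of_add_eq_zero_right (reeP_inj θ hcu e').1.symm]
    exact ⟨p', q', rfl⟩
  have hmul : ∀ t p q t' p' q' : K, ∃ p'' q'', reeP θ t p q * reeP θ t' p' q' =
      reeP θ (t + t') p'' q'' := fun t p q t' p' q' => by
    obtain ⟨p'', q'', e, -⟩ := reeP_mul_t θ hcu t p q t' p' q'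
    exact ⟨p'', q'', e⟩
  -- a unipotent element with nonzero first coordinate
  obtain ⟨p0, q0, hx0⟩ : ∃ p q, reeP θ ((χ k - 1) * (1 - χ k')) p q ∈ S := by
    set x := reeP θ (1 : K) 0 0
    set h' := C.G.torθ (par θ k') with hh'
    have hq : h * ((x * n) * h * (x * n)⁻¹) * h⁻¹ * ((x * n) * h * (x * n)⁻¹)⁻¹ ∈ S :=
      mul_mem (mul_mem (mul_mem hhS (mul_mem (mul_mem hbS hhS) (inv_mem hbS))) (inv_mem hhS))
        (inv_mem (mul_mem (mul_mem hbS hhS) (inv_mem hbS)))
    obtain ⟨p1, q1, e1⟩ := hconj k' 1 0 0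
    obtain ⟨p2, q2, e2⟩ := hinv (χ k' * 1) p1 q1
    obtain ⟨p3, q3, e3⟩ := hmul 1 0 0 (-(χ k' * 1)) p2 q2
    -- `(x n) h (x n)⁻¹ = y h'`
    have ey : (x * n) * h * (x * n)⁻¹ = reeP θ (1 + -(χ k' * 1)) p3 q3 * h' := by
      rw [← e3, ← e2, ← e1, ← hh', ← hk']
      simp only [x]
      group
    rw [ey] at hq
    have hcm : h' * h = h * h' := by
      rw [hh, hh', ← map_mul, ← map_mul, mul_comm]
    obtain ⟨p4, q4, e4⟩ := hconj k (1 + -(χ k' * 1)) p3 q3
    obtain ⟨p5, q5, e5⟩ := hinv (1 + -(χ k' * 1)) p3 q3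
    obtain ⟨p6, q6, e6⟩ := hmul (χ k * (1 + -(χ k' * 1))) p4 q4 (-(1 + -(χ k' * 1))) p5 q5
    have e7 : h * (reeP θ (1 + -(χ k' * 1)) p3 q3 * h') * h⁻¹ *
        (reeP θ (1 + -(χ k' * 1)) p3 q3 * h')⁻¹ =
        (h * reeP θ (1 + -(χ k' * 1)) p3 q3 * h⁻¹) * (reeP θ (1 + -(χ k' * 1)) p3 q3)⁻¹ := by
      calc _ = h * reeP θ (1 + -(χ k' * 1)) p3 q3 * (h' * h⁻¹ * h'⁻¹) *
            (reeP θ (1 + -(χ k' * 1)) p3 q3)⁻¹ := by group
        _ = _ := by
            rw [show h' * h⁻¹ * h'⁻¹ = h⁻¹ by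
              rw [mul_inv_eq_iff_eq_mul, eq_inv_mul_iff_mul_eq, ← mul_assoc, ← hcm,
                mul_inv_cancel_right]]
    rw [e7, hh, e4, e5, e6] at hq
    exact ⟨p6, q6, by
      rwa [show χ k * (1 + -(χ k' * 1)) + -(1 + -(χ k' * 1)) = (χ k - 1) * (1 - χ k') by ring] at hq⟩
  -- all first coordinates
  have hT1 : ∀ t : K, ∃ p q, reeP θ t p q ∈ S := by
    have hne : (χ k - 1) * (1 - χ k') ≠ 0 := mul_ne_zero
      (sub_ne_zero.2 fun e => hk1 (by rw [hχ k e, Units.val_one]))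
      (sub_ne_zero.2 fun e => hk'1 (hχ k' e.symm))
    have hst : ∀ {t}, (∃ p q, reeP θ t p q ∈ S) → ∃ p q, reeP θ (χ k * t) p q ∈ S := by
      rintro t ⟨p, q, hpq⟩
      obtain ⟨p', q', e⟩ := hconj k t p q
      exact ⟨p', q', e ▸ mul_mem (mul_mem hhS hpq) (inv_mem hhS)⟩
    let f : Kˣ →* Kˣ := MonoidHom.mk' (fun u => u ^ 2 * (Units.map θ.toMonoidHom u)⁻¹ ^ 3)
      fun u v => Units.ext (by simp; ring)
    have hfχ : ∀ u : Kˣ, (f u : K) = χ u := fun u => by simp [f, χ]
    have hf : Function.Injective f := (injective_iff_map_eq_one f).2 fun u e =>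
      hχ u (by rw [← hfχ, e, Units.val_one])
    have hall : ∀ u : Kˣ, ∃ p q, reeP θ ((u : K) * ((χ k - 1) * (1 - χ k'))) p q ∈ S := by
      intro u
      obtain ⟨u', rfl⟩ := (Finite.injective_iff_surjective.1 hf) u
      obtain ⟨j, rfl⟩ : ∃ j : ℕ, k ^ j = u' :=
        (isOfFinOrder_of_finite k).mem_powers_iff_mem_zpowers.2 (hk u')
      clear hk
      induction j with
      | zero => exact ⟨p0, q0, by simpa using hx0⟩
      | succ j ih =>
        have := hst ih
        rw [pow_succ', map_mul, Units.val_mul, hfχ, mul_assoc]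
        exact this
    intro t
    by_cases ht : t = 0
    · exact ⟨0, 0, by rw [ht, reeP_zero θ hcu]; exact one_mem _⟩
    · obtain ⟨p, q, hpq⟩ := hall (Units.mk0 (t / ((χ k - 1) * (1 - χ k'))) (div_ne_zero ht hne))
      exact ⟨p, q, by rwa [Units.val_mk0, div_mul_cancel₀ t hne] at hpq⟩
  -- the centre
  have hv : ∀ v : K, reeP θ (0 : K) 0 v ∈ S := by
    obtain ⟨p, q, hpq⟩ := hT1 1
    have h3 := pow_mem hpq 3
    obtain ⟨c1, c2⟩ := Subgroup.mem_inf.1 ((hU _).2 ⟨(1 : K), p, q, rfl⟩)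
    obtain ⟨t', u', v', e⟩ := (hU _).1 (Subgroup.mem_inf.2 ⟨pow_mem c1 3, pow_mem c2 3⟩)
    have h30 : (3 : K) = 0 := by exact_mod_cast CharP.cast_eq_zero K 3
    have e' : reeP θ (1 : K) p q ^ 3 = reeP θ 0 0 (-1) := by
      rw [pow_succ, pow_two]
      simp only [reeP, ree, one_mul, map_one, map_zero, map_neg, mul_one, mul_zero]
      rw [form_mul, form_mul, show (1 : K) + 1 + 1 = 0 by linear_combination h30]
      congr 2
      · linear_combination (2 + θ p) * h30
      · linear_combination (1 + θ q - θ p) * h30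
      · linear_combination (p - 1) * h30
      · linear_combination (q - p) * h30
    rw [e'] at h3
    intro v
    by_cases hv0 : v = 0
    · rw [hv0, reeP_zero θ hcu]; exact one_mem _
    · obtain ⟨j, hj⟩ : ∃ j : ℕ, k ^ j = Units.mk0 (-v) (neg_ne_zero.2 hv0) :=
        (isOfFinOrder_of_finite k).mem_powers_iff_mem_zpowers.2 (hk _)
      have hjv : ∀ i : ℕ, reeP θ (0 : K) 0 (((k ^ i : Kˣ) : K) * -1) ∈ S := by
        intro i
        induction i with
        | zero => simpa using h3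
        | succ i ih =>
          have := mul_mem (mul_mem hhS ih) (inv_mem hhS)
          rw [hh, tor_conj_reeP θ hcu, mul_zero, mul_zero, ← mul_assoc] at this
          rwa [pow_succ', Units.val_mul]
      have := hjv j
      rwa [hj, Units.val_mk0, neg_mul_neg, mul_one] at this
  -- the middle layer
  have hu : ∀ u : K, ∃ q, reeP θ (0 : K) u q ∈ S := by
    obtain ⟨p, q, hx⟩ := hT1 1
    obtain ⟨p', q', hy⟩ := hT1 (k : K)
    obtain ⟨u1, v1, e1, f1⟩ := reeP_mul_t θ hcu 1 p q (k : K) p' q'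
    obtain ⟨u2, v2, e2, f2⟩ := reeP_mul_t θ hcu (k : K) p' q' 1 p q
    have hz := mul_mem (inv_mem (mul_mem hy hx)) (mul_mem hx hy)
    rw [e1, e2, add_comm (1 : K) (k : K), show reeP θ ((k : K) + 1) u1 v1 =
      reeP θ ((k : K) + 1) u2 v2 * reeP θ 0 (u1 - u2) (v1 - v2) by
        rw [reeP_add_tail θ hcu, add_sub_cancel, add_sub_cancel], inv_mul_cancel_left] at hz
    have hne : u1 - u2 ≠ 0 := fun e => hk1 (by
      have h4 : θ (k : K) = (k : K) := by
        have := congrArg θ (sub_eq_zero.1 e)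
        rw [f1, f2, map_one, add_comm (k : K) 1] at this
        linear_combination this
      have h5 := sq_eq_cube_theta θ hcu k.ne_zero
      have h6 : θ (k : K) ^ 3 = (k : K) := by
        have := congrArg θ.symm h4
        rw [θ.symm_apply_apply, hcu, h4] at this
        rw [h4]; exact this.symm
      rw [h4] at h6
      have h7 : (k : K) ^ 2 = 1 := mul_right_cancel₀ k.ne_zero (by rw [one_mul, ← pow_succ, h6])
      rcases sq_eq_one_iff.1 h7 with h8 | h8
      · exact h8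
      · exfalso
        -- a generator is not of order two
        have hd : orderOf k ∣ 2 := orderOf_dvd_of_pow_eq_one (Units.ext (by simpa using h7))
        rw [orderOf_eq_card_of_forall_mem_zpowers hk, Nat.card_units, Nat.card_eq_fintype_card,
          hK] at hd
        have := Nat.le_of_dvd (by norm_num) hd
        have h9 : 3 ^ 3 ≤ 3 ^ (2 * m + 1) := Nat.pow_le_pow_right (by norm_num) (by omega)
        omega)
    set c : K := θ (k : K) ^ 3 * (k : K)⁻¹
    have hst : ∀ {w}, (∃ q, reeP θ (0 : K) w q ∈ S) → ∃ q, reeP θ (0 : K) (c * w) q ∈ S := by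
      rintro w ⟨r, hr⟩
      have := mul_mem (mul_mem hhS hr) (inv_mem hhS)
      rw [hh, tor_conj_reeP θ hcu, mul_zero] at this
      exact ⟨_, this⟩
    let g : Kˣ →* Kˣ := MonoidHom.mk' (fun u => (Units.map θ.toMonoidHom u) ^ 3 * u⁻¹)
      fun u v => Units.ext (by simp; ring)
    have hgk : ∀ i : ℕ, ((g (k ^ i) : Kˣ) : K) = c ^ i := fun i => by simp [g, c, map_pow]
    intro w
    by_cases hw : w = 0
    · exact ⟨0, by rw [hw, reeP_zero θ hcu]; exact one_mem _⟩
    set r := Units.mk0 (w / (u1 - u2)) (div_ne_zero hw hne)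
    have hker : ∀ u : Kˣ, g u = 1 → u = 1 ∨ u = -1 := fun u e => by
      have e' : θ (u : K) ^ 3 * (u : K)⁻¹ = 1 := by simpa [g] using congrArg Units.val e
      rw [mul_inv_eq_one₀ u.ne_zero] at e'
      rcases theta_cube_eq θ hcu u.ne_zero e' with h | h
      · exact Or.inl (Units.ext h)
      · exact Or.inr (Units.ext (by simpa using h))
    -- `±` the image is everything
    have hcover : ∃ u, g u = r ∨ g u = -r := by
      by_contra hno
      simp only [not_exists, not_or] at hno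
      obtain ⟨hodd, -⟩ : (∀ u v : Kˣ, g u = -g v → False) ∧ True := by
        refine ⟨fun u v e => ?_, trivial⟩
        -- `-1` is not in the image
        have h1 : g (u / v) = -1 := by rw [map_div, e, neg_div, div_self']
        obtain ⟨k0, hk0⟩ : ∃ k0, 3 ^ (2 * m + 1) = 4 * k0 + 3 := by
          refine ⟨3 ^ (2 * m + 1) / 4, ?_⟩
          have : 3 ^ (2 * m + 1) % 4 = 3 := by rw [pow_succ, pow_mul, Nat.mul_mod, Nat.pow_mod]; simp
          omega
        have hcard : Nat.card Kˣ = 2 * (2 * k0 + 1) := by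
          rw [Nat.card_units, Nat.card_eq_fintype_card, hK, hk0]; omega
        set w' := u / v
        have h2 : w' ^ (2 * (2 * k0 + 1)) = 1 := hcard ▸ pow_card_eq_one'
        have h3 : g (w' ^ (2 * k0 + 1)) = -1 := by rw [map_pow, h1, Odd.neg_one_pow ⟨k0, rfl⟩]
        have h4 : (w' ^ (2 * k0 + 1)) ^ 2 = 1 := by rw [← pow_mul, mul_comm, h2]
        have h5 : ((w' ^ (2 * k0 + 1) : Kˣ) : K) ^ 2 = 1 := by
          rw [← Units.val_pow_eq_pow_val, h4, Units.val_one]
        have h6 : w' ^ (2 * k0 + 1) = 1 ∨ w' ^ (2 * k0 + 1) = -1 :=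
          (sq_eq_one_iff.1 h5).imp (fun h => Units.ext h) fun h => Units.ext (by simpa using h)
        have hgm : g (-1) = 1 := Units.ext (by simp [g, Odd.neg_one_pow (show Odd 3 by decide)])
        have h7 : (1 : Kˣ) = -1 := by
          rcases h6 with h | h <;> rw [h] at h3
          · rwa [map_one] at h3
          · rwa [hgm] at h3
        have h8 : (3 : K) = 0 := by exact_mod_cast CharP.cast_eq_zero K 3
        have h9 : (1 : K) = -1 := by simpa using congrArg Units.val h7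
        exact one_ne_zero (α := K) (by linear_combination h8 - h9)
      -- count: the image and its negative are disjoint, each of half the size
      have h2 : Nat.card g.ker ≤ 2 := by
        refine le_trans (Nat.card_le_card_of_injective (β := ({1, -1} : Finset Kˣ))
          (fun u => ⟨u.1, by simpa using hker u.1 u.2⟩) fun a b e => Subtype.ext (congrArg (·.1) e)) ?_
        rw [Nat.card_eq_fintype_card, Fintype.card_coe]; exact Finset.card_le_two
      have h1 : Nat.card g.range * Nat.card g.ker = Nat.card Kˣ := by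
        rw [← Nat.card_congr (QuotientGroup.quotientKerEquivRange g).toEquiv,
          ← Subgroup.card_eq_card_quotient_mul_card_subgroup]
      haveI : Fintype g.range := Fintype.ofFinite _
      let F : g.range ⊕ g.range → Kˣ := Sum.elim (fun x => x.1) fun x => -x.1
      have hF : Function.Injective F := by
        rintro (⟨_, u, rfl⟩ | ⟨_, u, rfl⟩) (⟨_, v, rfl⟩ | ⟨_, v, rfl⟩) e
        · exact congrArg Sum.inl (Subtype.ext (by simpa [F] using e))
        · exact (hodd u v e).elim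
        · exact (hodd v u e.symm).elim
        · exact congrArg Sum.inr (Subtype.ext (by simpa [F] using e))
      have hlt : Nat.card (g.range ⊕ g.range) < Nat.card Kˣ := by
        rcases lt_or_eq_of_le (Nat.card_le_card_of_injective F hF) with h | h
        · exact h
        · exfalso
          obtain ⟨x, hx⟩ := ((Nat.bijective_iff_injective_and_card F).2 ⟨hF, h⟩).2 r
          rcases x with ⟨_, u, rfl⟩ | ⟨_, u, rfl⟩
          · exact (hno u).1 hx
          · exact (hno u).2 (by rw [← hx]; simp [F])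
      rw [Nat.card_sum] at hlt
      have : Nat.card g.range * Nat.card g.ker ≤ Nat.card g.range * 2 := Nat.mul_le_mul_left _ h2
      omega
    obtain ⟨u, hu⟩ := hcover
    obtain ⟨i, rfl⟩ : ∃ i : ℕ, k ^ i = u :=
      (isOfFinOrder_of_finite k).mem_powers_iff_mem_zpowers.2 (hk u)
    have hall : ∀ i : ℕ, ∃ q, reeP θ (0 : K) (c ^ i * (u1 - u2)) q ∈ S := by
      intro i
      induction i with
      | zero => exact ⟨_, by simpa using hz⟩
      | succ i ih => rw [pow_succ', mul_assoc]; exact hst ih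
    obtain ⟨q1, hq1⟩ := hall i
    rw [← hgk] at hq1
    rcases hu with hu | hu <;> rw [hu] at hq1
    · exact ⟨q1, by rwa [show (r : K) * (u1 - u2) = w by
        rw [Units.val_mk0, div_mul_cancel₀ w hne]] at hq1⟩
    · obtain ⟨c1, c2⟩ := Subgroup.mem_inf.1 ((hU _).2 ⟨0, -(((-r : Kˣ) : K) * (u1 - u2)), -q1, rfl⟩)
      have e : (reeP θ (0 : K) (((-r : Kˣ) : K) * (u1 - u2)) q1)⁻¹ =
          reeP θ 0 (-(((-r : Kˣ) : K) * (u1 - u2))) (-q1) := by
        refine inv_eq_of_mul_eq_one_right ?_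
        rw [reeP_add_tail θ hcu, add_neg_cancel, add_neg_cancel, reeP_zero θ hcu]
      have := inv_mem hq1
      rw [e] at this
      exact ⟨-q1, by rwa [show -(((-r : Kˣ) : K) * (u1 - u2)) = w by
        rw [Units.val_neg, neg_mul, neg_neg, Units.val_mk0, div_mul_cancel₀ w hne]] at this⟩
  -- the whole of `U`
  have hUS : ∀ t u v : K, reeP θ t u v ∈ S := by
    intro t u v
    obtain ⟨p, q, hx⟩ := hT1 t
    obtain ⟨q', hy⟩ := hu (u - p)
    have := mul_mem (mul_mem hx hy) (hv (v - q - q'))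
    rwa [reeP_add_tail θ hcu, reeP_add_tail θ hcu, show p + (u - p) + 0 = u by ring,
      show q + q' + (v - q - q') = v by ring] at this
  have hnS : n ∈ S := by
    have := mul_mem (inv_mem (hUS 1 0 0)) hbS
    rwa [inv_mul_cancel_left] at this
  have hBS : ∀ g ∈ Γ, g ∈ chevG2.borelSubgroup K → g ∈ S := by
    intro g hg hB
    obtain ⟨hc', θ', hcu', hθ', hneg'⟩ := exists_theta hK
    have P := twGp θ' hcu' hθ' hneg'
    obtain ⟨v, hv', d, hd, e⟩ := P.mem_gB_iff.1 (show (⟨g, hg⟩ : ↥Γ) ∈ P.gB from hB)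
    obtain ⟨t, p, q, ev⟩ := (hU _).1 (Subgroup.mem_inf.2 ⟨hv', v.2⟩)
    obtain ⟨u, eu⟩ := (hH _).1 (Subgroup.mem_inf.2 ⟨hd, d.2⟩)
    have ev' : (v : GL chevG2.Idx K) = reeP θ t p q := ev
    have eu' : (d : GL chevG2.Idx K) = C.G.torθ (par θ u) := eu
    rw [show g = (v : GL chevG2.Idx K) * d from congrArg Subtype.val e, ev', eu']
    refine mul_mem (hUS t p q) ?_
    obtain ⟨i, rfl⟩ := hk u
    rw [show C.G.torθ (par θ (k ^ i)) = h ^ i from
      map_zpow ((C.G.torθ (K := K)).comp (parHom θ)) k i]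
    exact zpow_mem hhS i
  intro g hg
  by_cases hB : g ∈ chevG2.borelSubgroup K
  · exact hBS g hg hB
  · obtain ⟨u, hu', hu''⟩ := (hmove g hg hB).2
    obtain ⟨t, p, q, rfl⟩ := (hU u).1 hu'
    have h1 := hBS _ (mul_mem (inv_mem (mul_mem (Subgroup.mem_inf.1 hu').2 hn)) hg) hu''
    have := mul_mem (mul_mem (hUS t p q) hnS) h1
    rwa [mul_inv_cancel_left] at this

end TG2

end CfsgLib.Lie.Chev
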